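import Cfsg.Agent.Helper1.BG139Defs
import Cfsg.Agent.Helper49.BG1216

/-!
helper83: PIECE `D3a` of CALL S1378 (B&G Theorem 13.9): two subgroups of prime orders `t`, `t'` of a
solvable subgroup `C` generate, after conjugating one of them inside `C`, a `{t, t'}`-group
(both lie in a conjugate of a Hall `{t, t'}`-subgroup of `C`).
-/

set_option autoImplicit false

namespace Cfsg.Agent.Helper83

open Cfsg Subgroup Cfsg.Agent.Helper1
open scoped Pointwise

universe u

variable {G : Type u} [Group G] [Finite G]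

/-- PIECE `D3a` (pure Hall theory in a solvable subgroup `C`). -/
theorem bg139_hall_pair {C X X' : Subgroup G} (hC : Group.IsSolvable C) (hX : X ≤ C) (hX' : X' ≤ C)
    {t t' : ℕ} (ht : t.Prime) (ht' : t'.Prime) (hXc : Nat.card X = t) (hX'c : Nat.card X' = t') :
    ∃ c ∈ C, ∀ q : ℕ, q.Prime →
      q ∣ Nat.card ↥(X ⊔ X'.map (MulAut.conj c).toMonoidHom) → q = t ∨ q = t' := by
  have := hC
  obtain ⟨m, n, hN, hmn, hm, hn⟩ :=
    Cfsg.Agent.Helper35.exists_pi_factorization ({t, t'} : Set ℕ) (Nat.card C) Nat.card_pos.ne'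
  obtain ⟨T, hT⟩ := hall_exists_aux (Nat.card C) C m n rfl hN hmn
  have hidx : T.index = n := by
    have h1 : Nat.card T * T.index = Nat.card C := Subgroup.card_mul_index T
    rw [hT, hN] at h1
    have hm0 : 0 < m := by
      rcases Nat.eq_zero_or_pos m with h0 | h0
      · exfalso; rw [h0, zero_mul] at hN; exact Nat.card_pos.ne' hN
      · exact h0
    exact Nat.eq_of_mul_eq_mul_left hm0 h1
  have hXcop : (Nat.card (X.subgroupOf C)).Coprime T.index := by
    rw [hidx, Nat.card_congr (Subgroup.subgroupOfEquivOfLe hX).toEquiv, hXc]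
    exact (Nat.Prime.coprime_iff_not_dvd ht).mpr (hn t ht (by simp))
  have hX'cop : (Nat.card (X'.subgroupOf C)).Coprime T.index := by
    rw [hidx, Nat.card_congr (Subgroup.subgroupOfEquivOfLe hX').toEquiv, hX'c]
    exact (Nat.Prime.coprime_iff_not_dvd ht').mpr (hn t' ht' (by simp))
  obtain ⟨l, hl⟩ := Cfsg.Agent.Helper49.bg1216_hall_conj T (X.subgroupOf C) hXcop
  obtain ⟨l', hl'⟩ := Cfsg.Agent.Helper49.bg1216_hall_conj T (X'.subgroupOf C) hX'cop
  refine ⟨(l : G) * (l' : G)⁻¹, C.mul_mem l.2 (C.inv_mem l'.2), ?_⟩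
  intro q hq hqd
  have hUcard : Nat.card ((MulAut.conj l • T).map C.subtype) = m := by
    rw [Subgroup.card_map_of_injective C.subtype_injective,
      ← Nat.card_congr (Subgroup.equivSMul (MulAut.conj l) T).toEquiv, hT]
  have hle : X ⊔ X'.map (MulAut.conj ((l : G) * (l' : G)⁻¹)).toMonoidHom
      ≤ (MulAut.conj l • T).map C.subtype := by
    apply sup_le
    · intro x hx
      have hx' : (⟨x, hX hx⟩ : C) ∈ X.subgroupOf C := by rw [Subgroup.mem_subgroupOf]; exact hx
      exact ⟨⟨x, hX hx⟩, hl hx', rfl⟩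
    · rintro _ ⟨y, hy, rfl⟩
      have hy' : (⟨y, hX' hy⟩ : C) ∈ X'.subgroupOf C := by rw [Subgroup.mem_subgroupOf]; exact hy
      have h1 := hl' hy'
      rw [Subgroup.mem_smul_pointwise_iff_exists] at h1
      obtain ⟨τ, hτ, hτe⟩ := h1
      refine ⟨l * τ * l⁻¹, ?_, ?_⟩
      · rw [SetLike.mem_coe, Subgroup.mem_smul_pointwise_iff_exists]
        exact ⟨τ, hτ, by simp [MulAut.smul_def]⟩
      · have hyv : y = (l' : G) * (τ : G) * (l' : G)⁻¹ := by
          have h2 := congrArg Subtype.val hτe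
          simpa [MulAut.smul_def] using h2.symm
        simp only [MulEquiv.coe_toMonoidHom, MulAut.conj_apply, Subgroup.coe_subtype,
          Subgroup.coe_mul, Subgroup.coe_inv]
        rw [hyv]; group
  have hdvd : q ∣ m := by
    rw [← hUcard]
    exact hqd.trans (Subgroup.card_dvd_of_le hle)
  have h3 := hm q hq hdvd
  simpa using h3

end Cfsg.Agent.Helper83
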