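import Cfsg.Agent.Helper1.BG139Defs
import Cfsg.Agent.Helper20.BG13P4
import Cfsg.Agent.S1403

/-!
helper83: PIECE `D3c` of CALL S1378 (B&G Theorem 13.9): a subgroup `X` of prime order outside `σ(M)`
that centralizes `P` (of order `p ∈ τ₁(M)`) and normalizes `Y ≤ M_σ ∩ C(P)` with `N(Y) ≤ M`
centralizes `Y` (put `P × X` in a complement of `M_σ` and use B&G 13.3 = `BG1328`).
-/

set_option autoImplicit false

namespace Cfsg.Agent.Helper83

open Cfsg Subgroup Cfsg.Agent.Helper1

universe u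

variable {G : Type u} [Group G] [Finite G]

/-- PIECE `D3c`. -/
theorem bg139_norm_cent (hG : IsMinSimpleOddOrder G) (h28 : BG1328 G) {M P X Y : Subgroup G}
    (hM : IsCoatom M) {p : ℕ} (hp : p ∈ tau1 M) (hPc : Nat.card P = p)
    (hYσ : Y ≤ sigmaCore M) (hYN : normalizer (Y : Set G) ≤ M)
    (hYP : Y ≤ centralizer (P : Set G)) (hXc : (Nat.card X).Prime)
    (hXσ : Nat.card X ∉ sigma M) (hXP : X ≤ centralizer (P : Set G))
    (hXY : X ≤ normalizer (Y : Set G)) : ∀ x ∈ X, ∀ y ∈ Y, x * y = y * x := by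
  have hU : Helper22.BGUniq G := fun K hK h1 h2 => Cfsg.Agent.S1403.result hG K hK h1 h2
  have hPN : P ≤ normalizer (Y : Set G) := by
    intro g hg
    rw [Subgroup.mem_normalizer_iff]
    intro y
    constructor
    · intro hy
      have hc : g * y = y * g := Subgroup.mem_centralizer_iff.mp (hYP hy) g hg
      have h1 : g * y * g⁻¹ = y := by rw [hc]; group
      rw [h1]; exact hy
    · intro hy
      have hc := Subgroup.mem_centralizer_iff.mp (hYP hy) g hg
      have h1 : g * (g * y * g⁻¹) = g * y := by rw [hc]; group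
      have h2 : y = g * y * g⁻¹ := (mul_left_cancel h1).symm
      rw [h2]; exact hy
  have hPM : P ≤ M := hPN.trans hYN
  have hXM : X ≤ M := hXY.trans hYN
  have hcomm : ∀ (a : P) (b : X), Commute (P.subtype a) (X.subtype b) := fun a b =>
    Subgroup.mem_centralizer_iff.mp (hXP b.2) a a.2
  obtain ⟨K, hKdef⟩ : ∃ K : Subgroup G, K = (P.subtype.noncommCoprod X.subtype hcomm).range :=
    ⟨_, rfl⟩
  have hPK : P ≤ K := by
    intro a ha
    rw [hKdef]
    exact ⟨(⟨a, ha⟩, 1), by simp⟩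
  have hXK : X ≤ K := by
    intro b hb
    rw [hKdef]
    exact ⟨(1, ⟨b, hb⟩), by simp⟩
  have hKM : K ≤ M := by
    rw [hKdef]
    rintro _ ⟨⟨a, b⟩, rfl⟩
    rw [MonoidHom.noncommCoprod_apply]
    exact M.mul_mem (hPM a.2) (hXM b.2)
  have hKcard : Nat.card K ∣ p * Nat.card X := by
    rw [hKdef, ← hPc, ← Nat.card_prod]
    exact Subgroup.card_range_dvd _
  have hσ : ∀ q : ℕ, q.Prime → q ∣ Nat.card (sigmaCore M) → q ∈ sigma M :=
    (Helper22.bg10_sigma_hall hG hU hM).1.2.1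
  have hK : (Nat.card K).Coprime (Nat.card (sigmaCore M)) := by
    apply Nat.Coprime.coprime_dvd_left hKcard
    apply Nat.Coprime.mul_left
    · exact (Nat.Prime.coprime_iff_not_dvd hp.1).mpr (fun h => hp.2.1 (hσ p hp.1 h))
    · exact (Nat.Prime.coprime_iff_not_dvd hXc).mpr (fun h => hXσ (hσ _ hXc h))
  obtain ⟨E, hE, hKE⟩ := Helper20.bg13_exists_compl_ge hG hU hM hKM hK
  have key := h28 M hM E hE p hp P (hPK.trans hKE) hPc X (le_inf (hXK.trans hKE) hXP) hXc
  intro x hx y hy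
  have hy' : y ∈ sigmaCore M ⊓ centralizer (X : Set G) := key ⟨hYσ hy, hYP hy⟩
  exact Subgroup.mem_centralizer_iff.mp hy'.2 x hx

end Cfsg.Agent.Helper83
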