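import Mathlib
import Cfsg.Agent.Helper77.D1Defs2
import Cfsg.Agent.Helper29.D1IE
import Cfsg.Agent.Helper65.D1IF

/-!
helper83: PIECE FZ of CALL S4442FB (helper15): vanishing of the `θ`-coefficient at `x` is
invariant under the inertial Galois automorphisms.
-/

universe u
set_option autoImplicit false
open Cfsg Cfsg.Agent.Helper77
open scoped ComplexConjugate

namespace Cfsg.Agent.Helper83

variable {G : Type u} [Group G] [Finite G]

/-- FZ -/
theorem d1fb_inertial (p : ℕ) [Fact p.Prime] (x : G) (K : Subgroup G) (h : D1Hyp p x K)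
    (M₀ : ℕ) (hM₀ : ¬ p ∣ M₀) (hGM : Nat.card G ∣ p * M₀)
    (θ : Cfsg.IrrCharacter K) (χ χ' : Cfsg.IrrCharacter G)
    (hχ : galRel M₀ (χ : G → ℂ) (χ' : G → ℂ)) :
    dco K (θ : K → ℂ) (χ : G → ℂ) x = 0 ↔ dco K (θ : K → ℂ) (χ' : G → ℂ) x = 0 := by
  obtain ⟨τ, hτ, hχ'⟩ := hχ
  obtain ⟨h1, -⟩ := (Helper65.d1_inertial p x K h M₀ hM₀ hGM).1 τ hτ
  have key := Helper29.d1_dco_gal K τ θ θ (fun k => (h1 θ k).symm) χ χ' hχ' x
  rw [key]
  exact (map_eq_zero_iff τ τ.injective).symm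

end Cfsg.Agent.Helper83
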