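import Mathlib
import Cfsg.Agent.Helper77.D1Defs2
import Cfsg.Agent.Helper79.S4441Setup

/-!
helper83: PIECE FQ1 of CALL S4442FB (helper15): the Galois orbit `𝒪` of an irreducible character
`χ`, a transversal `ℛ` of its classes under the automorphisms fixing the `M₀`-th roots of unity,
and the corresponding partition identity for sums over `𝒪`.
-/

universe u
set_option autoImplicit false
set_option linter.style.haveILetI false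
open Cfsg Cfsg.Agent.Helper77
open scoped ComplexConjugate

namespace Cfsg.Agent.Helper83

variable {G : Type u} [Group G] [Finite G]

/-- FQ1 -/
theorem d1fb_orbit_sets (M₀ : ℕ) (χ : Cfsg.IrrCharacter G) :
    ∃ 𝒪 ℛ : Finset (Cfsg.IrrCharacter G),
      χ ∈ 𝒪 ∧
      (∀ χ' ∈ 𝒪, ∃ σ : ℂ ≃+* ℂ, ∀ g : G, (χ' : G → ℂ) g = σ ((χ : G → ℂ) g)) ∧
      (∀ χ' ∈ 𝒪, ∀ σ : ℂ ≃+* ℂ, ∃ χ'' ∈ 𝒪, ∀ g : G, (χ'' : G → ℂ) g = σ ((χ' : G → ℂ) g)) ∧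
      ℛ ⊆ 𝒪 ∧
      (∀ χ' ∈ 𝒪, ∃ χ₀ ∈ ℛ, ∃ τ : ℂ ≃+* ℂ, (∀ w : ℂ, w ^ M₀ = 1 → τ w = w) ∧
        ∀ g : G, (χ' : G → ℂ) g = τ ((χ₀ : G → ℂ) g)) ∧
      (∀ (Ωf : Cfsg.IrrCharacter G → Finset (Cfsg.IrrCharacter G)),
        (∀ χ₀ χ' : Cfsg.IrrCharacter G, χ' ∈ Ωf χ₀ ↔ galRel M₀ (χ₀ : G → ℂ) (χ' : G → ℂ)) →
        ∀ f : Cfsg.IrrCharacter G → ℂ,
          ∑ χ' ∈ 𝒪, f χ' = ∑ χ₀ ∈ ℛ, ∑ χ' ∈ Ωf χ₀, f χ') := by
  classical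
  haveI : Fintype G := Fintype.ofFinite G
  haveI : Fintype (Cfsg.IrrCharacter G) := Fintype.ofFinite _
  have hrefl : ∀ a : Cfsg.IrrCharacter G, galRel M₀ (a : G → ℂ) (a : G → ℂ) :=
    fun a => ⟨RingEquiv.refl ℂ, fun w _ => rfl, fun g => rfl⟩
  have hsymm : ∀ {a b : Cfsg.IrrCharacter G}, galRel M₀ (a : G → ℂ) (b : G → ℂ) →
      galRel M₀ (b : G → ℂ) (a : G → ℂ) := by
    rintro a b ⟨τ, hτ, hab⟩
    refine ⟨τ.symm, fun w hw => ?_, fun g => ?_⟩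
    · rw [RingEquiv.symm_apply_eq]; exact (hτ w hw).symm
    · rw [hab g, RingEquiv.symm_apply_apply]
  have htrans : ∀ {a b c : Cfsg.IrrCharacter G}, galRel M₀ (a : G → ℂ) (b : G → ℂ) →
      galRel M₀ (b : G → ℂ) (c : G → ℂ) → galRel M₀ (a : G → ℂ) (c : G → ℂ) := by
    rintro a b c ⟨τ, hτ, hab⟩ ⟨τ', hτ', hbc⟩
    refine ⟨τ.trans τ', fun w hw => ?_, fun g => ?_⟩
    · rw [RingEquiv.trans_apply, hτ w hw, hτ' w hw]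
    · rw [hbc g, hab g, RingEquiv.trans_apply]
  let s : Setoid (Cfsg.IrrCharacter G) :=
    ⟨fun a b => galRel M₀ (a : G → ℂ) (b : G → ℂ), ⟨hrefl, hsymm, htrans⟩⟩
  let rep : Cfsg.IrrCharacter G → Cfsg.IrrCharacter G := fun χ' => (Quotient.mk s χ').out
  have hrep : ∀ χ' : Cfsg.IrrCharacter G, galRel M₀ (rep χ' : G → ℂ) (χ' : G → ℂ) :=
    fun χ' => Quotient.mk_out (s := s) χ'
  have hrep_eq : ∀ a b : Cfsg.IrrCharacter G, galRel M₀ (a : G → ℂ) (b : G → ℂ) →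
      rep a = rep b := by
    intro a b hab
    have h0 : Quotient.mk s a = Quotient.mk s b := Quotient.sound hab
    simp only [rep, h0]
  obtain ⟨𝒪, h𝒪⟩ : ∃ 𝒪 : Finset (Cfsg.IrrCharacter G), ∀ χ' : Cfsg.IrrCharacter G,
      χ' ∈ 𝒪 ↔ ∃ σ : ℂ ≃+* ℂ, ∀ g : G, (χ' : G → ℂ) g = σ ((χ : G → ℂ) g) :=
    ⟨Finset.univ.filter (fun χ' => ∃ σ : ℂ ≃+* ℂ, ∀ g : G,
      (χ' : G → ℂ) g = σ ((χ : G → ℂ) g)), fun χ' => by simp⟩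
  have h𝒪gal : ∀ a b : Cfsg.IrrCharacter G, a ∈ 𝒪 → galRel M₀ (a : G → ℂ) (b : G → ℂ) →
      b ∈ 𝒪 := by
    rintro a b ha ⟨τ, -, hab⟩
    obtain ⟨σ, hσ⟩ := (h𝒪 a).mp ha
    exact (h𝒪 b).mpr ⟨σ.trans τ, fun g => by rw [hab g, hσ g, RingEquiv.trans_apply]⟩
  refine ⟨𝒪, 𝒪.image rep, ?_, ?_, ?_, ?_, ?_, ?_⟩
  · exact (h𝒪 χ).mpr ⟨RingEquiv.refl ℂ, fun g => rfl⟩
  · intro χ' hχ'; exact (h𝒪 χ').mp hχ'
  · intro χ' hχ' σ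
    obtain ⟨σ', hσ'⟩ := (h𝒪 χ').mp hχ'
    refine ⟨Helper79.galIrr σ χ', (h𝒪 _).mpr ⟨σ'.trans σ, fun g => ?_⟩, fun g => rfl⟩
    rw [Helper79.galIrr_apply, hσ' g, RingEquiv.trans_apply]
  · intro χ₀ hχ₀
    obtain ⟨χ', hχ', rfl⟩ := Finset.mem_image.mp hχ₀
    exact h𝒪gal χ' (rep χ') hχ' (hsymm (hrep χ'))
  · intro χ' hχ'
    obtain ⟨τ, hτ, hτ'⟩ := hrep χ'
    exact ⟨rep χ', Finset.mem_image_of_mem rep hχ', τ, hτ, hτ'⟩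
  · intro Ωf hΩf f
    rw [← Finset.sum_fiberwise_of_maps_to (g := rep) (t := 𝒪.image rep) (s := 𝒪)
      (fun χ' hχ' => Finset.mem_image_of_mem rep hχ') f]
    apply Finset.sum_congr rfl
    intro χ₀ hχ₀
    apply Finset.sum_congr _ (fun _ _ => rfl)
    ext χ'
    rw [Finset.mem_filter, hΩf]
    obtain ⟨χ₁, hχ₁, rfl⟩ := Finset.mem_image.mp hχ₀
    constructor
    · rintro ⟨-, h2⟩
      rw [← h2]; exact hrep χ'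
    · intro h2
      have h3 : χ' ∈ 𝒪 := h𝒪gal χ₁ χ' hχ₁ (htrans (hsymm (hrep χ₁)) h2)
      exact ⟨h3, hrep_eq χ' χ₁ (htrans (hsymm h2) (hrep χ₁))⟩

end Cfsg.Agent.Helper83
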