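import Mathlib

/-!
helper83: small auxiliary lemmas for the pieces of CALL S0434 (helper52, simple groups of order
7920): subgroups of order 3, and conjugacy of Sylow subgroups inside a subgroup containing them.
-/

set_option autoImplicit false

namespace Cfsg.Agent.Helper83.T7920Aux

variable {G : Type*} [Group G]

/-- a subgroup of order 3 is `{1, d, d⁻¹}` -/
theorem exists_gen3 [Finite G] (D : Subgroup G) (hD : Nat.card ↥D = 3) :
    ∃ d ∈ D, d ≠ 1 ∧ d ≠ d⁻¹ ∧ d ^ 3 = 1 ∧ ∀ x ∈ D, x = 1 ∨ x = d ∨ x = d⁻¹ := by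
  have hne : D ≠ ⊥ := by
    intro h; rw [h, Subgroup.card_bot] at hD; norm_num at hD
  obtain ⟨d, hd1⟩ := (Subgroup.ne_bot_iff_exists_ne_one).mp hne
  have hd3' : d ^ 3 = 1 := by rw [← hD]; exact pow_card_eq_one'
  have hd3 : (d : G) ^ 3 = 1 := by
    have h := congrArg Subtype.val hd3'
    simpa using h
  have hdG1 : (d : G) ≠ 1 := fun h => hd1 (Subtype.ext h)
  have hdinv : (d : G) ≠ (d : G)⁻¹ := by
    intro h
    have h2 : (d : G) * d = 1 := by
      nth_rewrite 2 [h]; exact mul_inv_cancel _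
    apply hdG1
    calc (d : G) = (d : G) ^ 3 * ((d : G) * d)⁻¹ := by group
      _ = 1 := by rw [hd3, h2]; simp
  refine ⟨d, d.2, hdG1, hdinv, hd3, ?_⟩
  have ho : orderOf d = 3 := by
    have h1 : orderOf d ∣ 3 := orderOf_dvd_of_pow_eq_one hd3'
    rcases (Nat.dvd_prime (by norm_num : Nat.Prime 3)).mp h1 with h | h
    · exact absurd (orderOf_eq_one_iff.mp h) hd1
    · exact h
  have htop : Subgroup.zpowers d = ⊤ := by
    apply Subgroup.eq_top_of_card_eq
    rw [Nat.card_zpowers, ho, hD]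
  intro x hx
  have hx' : (⟨x, hx⟩ : D) ∈ Subgroup.zpowers d := by rw [htop]; trivial
  obtain ⟨k, hk⟩ := (mem_powers_iff_mem_zpowers.mpr hx')
  have hk' : x = (d : G) ^ k := by
    have h := congrArg Subtype.val hk
    simpa using h.symm
  have hmod : (d : G) ^ k = (d : G) ^ (k % 3) := pow_eq_pow_mod k hd3
  rw [hk', hmod]
  have h3 : k % 3 < 3 := Nat.mod_lt _ (by norm_num)
  interval_cases (k % 3)
  · left; simp
  · right; left; simp
  · right; right
    calc (d : G) ^ 2 = (d : G) ^ 3 * (d : G)⁻¹ := by group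
      _ = (d : G)⁻¹ := by rw [hd3, one_mul]

/-- an element commuting with the generator `d` of `D = {1, d, d⁻¹}` centralises `D` -/
theorem mem_centralizer_of_comm_gen (D : Subgroup G) (d : G)
    (hall : ∀ x ∈ D, x = 1 ∨ x = d ∨ x = d⁻¹) (n : G) (h : n * d = d * n) :
    n ∈ Subgroup.centralizer (D : Set G) := by
  rw [Subgroup.mem_centralizer_iff]
  intro x hx
  rcases hall x hx with rfl | rfl | rfl
  · simp
  · exact h.symm
  · calc d⁻¹ * n = d⁻¹ * (n * d) * d⁻¹ := by group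
      _ = d⁻¹ * (d * n) * d⁻¹ := by rw [h]
      _ = n * d⁻¹ := by group

/-- two Sylow `p`-subgroups of `G` contained in a subgroup `H` are conjugate under `H` -/
theorem sylow_conj_in [Finite G] {p : ℕ} [Fact p.Prime] (P Q : Sylow p G) (H : Subgroup G)
    (hP : (P : Subgroup G) ≤ H) (hQ : (Q : Subgroup G) ≤ H) :
    ∃ k ∈ H, ∀ y : G, y ∈ (Q : Subgroup G) ↔ k⁻¹ * y * k ∈ (P : Subgroup G) := by
  obtain ⟨k, hk⟩ := MulAction.exists_smul_eq ↥H (P.subtype hP) (Q.subtype hQ)
  refine ⟨k, k.2, fun y => ?_⟩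
  constructor
  · intro hy
    have hyH : y ∈ H := hQ hy
    have h1 : (⟨y, hyH⟩ : H) ∈ ((Q.subtype hQ : Sylow p H) : Subgroup H) := by
      rw [Sylow.coe_subtype, Subgroup.mem_subgroupOf]; exact hy
    rw [← hk, Sylow.coe_subgroup_smul, Subgroup.mem_pointwise_smul_iff_inv_smul_mem,
      Sylow.coe_subtype, Subgroup.mem_subgroupOf] at h1
    simpa [MulAut.smul_def] using h1
  · intro hy
    have hyH : y ∈ H := by
      have e : y = (k : G) * ((k : G)⁻¹ * y * (k : G)) * (k : G)⁻¹ := by group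
      rw [e]; exact H.mul_mem (H.mul_mem k.2 (hP hy)) (H.inv_mem k.2)
    have h1 : (⟨y, hyH⟩ : H) ∈ ((k • P.subtype hP : Sylow p H) : Subgroup H) := by
      rw [Sylow.coe_subgroup_smul, Subgroup.mem_pointwise_smul_iff_inv_smul_mem,
        Sylow.coe_subtype, Subgroup.mem_subgroupOf]
      simpa [MulAut.smul_def] using hy
    rw [hk, Sylow.coe_subtype, Subgroup.mem_subgroupOf] at h1
    exact h1

end Cfsg.Agent.Helper83.T7920Aux
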