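import Mathlib
import Cfsg.Agent.Helper52.O7920Defs
import Cfsg.Agent.Helper52.O7920Defs2
import Cfsg.Agent.Helper83.T7920Aux

set_option autoImplicit false
set_option linter.unusedSectionVars false
set_option linter.style.haveILetI false

namespace Cfsg.Agent.Helper83

open Cfsg.Agent.Helper52

variable {G : Type*} [Group G] [Finite G]

-- PIECE C4b
theorem o7920_C_star4 {R : Sylow 3 G} {D : Subgroup G} {j : G} (c : O7920Conf2 G R D j)
    (z : G) (hzC : Subgroup.centralizer ({z} : Set G) = Subgroup.normalizer (D : Set G))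
    (b : G) (hbD : b ∈ Subgroup.centralizer (D : Set G)) (hbb : b * b = z)
    (h9 : ¬ 9 ∣ Nat.card ↥(Subgroup.centralizer ({b} : Set G)))
    (g : G) (hg : ∀ d ∈ D, (g * d * g⁻¹) * b = b * (g * d * g⁻¹)) :
    ∀ d ∈ D, g * d * g⁻¹ ∈ D := by
  haveI : Fact (Nat.Prime 3) := ⟨by norm_num⟩
  by_contra hcon
  push Not at hcon
  obtain ⟨d0, hd0D, hd0⟩ := hcon
  have hCb : Subgroup.centralizer ({b} : Set G) ≤ Subgroup.normalizer (D : Set G) := by
    rw [← hzC]
    intro x hx
    rw [Subgroup.mem_centralizer_iff] at hx ⊢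
    intro w hw
    rw [Set.mem_singleton_iff] at hw
    rw [hw]
    have h1 : b * x = x * b := hx b rfl
    rw [← hbb]
    calc b * b * x = b * (b * x) := by group
      _ = b * (x * b) := by rw [h1]
      _ = (b * x) * b := by group
      _ = x * b * b := by rw [h1]
      _ = x * (b * b) := by group
  obtain ⟨D', hD'⟩ : ∃ D' : Subgroup G, D' = D.map (MulAut.conj g).toMonoidHom := ⟨_, rfl⟩
  have hD'mem : ∀ d ∈ D, g * d * g⁻¹ ∈ D' := by
    intro d hd
    rw [hD']
    exact ⟨d, hd, by simp [MulAut.conj_apply]⟩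
  have hD'C : D' ≤ Subgroup.centralizer ({b} : Set G) := by
    intro y hy
    rw [hD'] at hy
    obtain ⟨d, hd, rfl⟩ := hy
    rw [Subgroup.mem_centralizer_iff]
    intro w hw
    rw [Set.mem_singleton_iff] at hw
    rw [hw]
    have h0 := hg d hd
    simpa [MulAut.conj_apply] using h0.symm
  have hDC : D ≤ Subgroup.centralizer ({b} : Set G) := by
    intro d hd
    rw [Subgroup.mem_centralizer_iff]
    intro w hw
    rw [Set.mem_singleton_iff] at hw
    rw [hw]
    exact (Subgroup.mem_centralizer_iff.mp hbD d hd).symm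
  have hD'N : D' ≤ Subgroup.normalizer (D : Set G) := hD'C.trans hCb
  have hDp : IsPGroup 3 D := IsPGroup.of_card (n := 1) (by rw [c.conf.hD, pow_one])
  have hD'p : IsPGroup 3 D' := by
    apply IsPGroup.of_card (n := 1)
    rw [hD', Subgroup.card_map_of_injective (MulAut.conj g).injective, c.conf.hD, pow_one]
  have hsup : IsPGroup 3 (D' ⊔ D : Subgroup G) :=
    IsPGroup.to_sup_of_normal_right' hD'p hDp hD'N
  have hsupC : D' ⊔ D ≤ Subgroup.centralizer ({b} : Set G) := sup_le hD'C hDC
  obtain ⟨n, hn⟩ := IsPGroup.iff_card.mp hsup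
  have hlt : Nat.card D < Nat.card (D' ⊔ D : Subgroup G) := by
    by_contra hge
    push Not at hge
    have heq : D = D' ⊔ D := Subgroup.eq_of_le_of_card_ge le_sup_right hge
    apply hd0
    rw [heq]
    exact (le_sup_left : D' ≤ D' ⊔ D) (hD'mem d0 hd0D)
  rw [c.conf.hD, hn] at hlt
  have hn2 : 2 ≤ n := by
    rcases n with _ | _ | n
    · norm_num at hlt
    · norm_num at hlt
    · omega
  have h9' : 9 ∣ Nat.card (D' ⊔ D : Subgroup G) := by
    rw [hn]
    obtain ⟨m, rfl⟩ := Nat.exists_eq_add_of_le hn2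
    exact ⟨3 ^ m, by rw [pow_add]; norm_num⟩
  exact h9 (h9'.trans (Subgroup.card_dvd_of_le hsupC))

end Cfsg.Agent.Helper83
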