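import Mathlib
import Cfsg.Agent.Helper52.O7920Defs
import Cfsg.Agent.Helper52.O7920Defs2

set_option autoImplicit false
set_option linter.unusedSectionVars false
set_option linter.style.haveILetI false

namespace Cfsg.Agent.Helper83

open Cfsg.Agent.Helper52

variable {G : Type*} [Group G] [Finite G]

-- PIECE CN
theorem o7920_C_NR (R : Sylow 3 G) (z : G) (hz : orderOf z = 2)
    (hzR : z ∈ Subgroup.centralizer ((R : Subgroup G) : Set G))
    (hu : ∀ x ∈ Subgroup.centralizer ((R : Subgroup G) : Set G), x ^ 16 = 1 → x = 1 ∨ x = z) :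
    Subgroup.normalizer ((R : Subgroup G) : Set G) ≤ Subgroup.centralizer ({z} : Set G) := by
  intro n hn
  have hz2 : z ^ 2 = 1 := by rw [← hz]; exact pow_orderOf_eq_one z
  have hz1 : z ≠ 1 := by
    intro h; rw [h, orderOf_one] at hz; norm_num at hz
  have hninv : n⁻¹ ∈ Subgroup.normalizer ((R : Subgroup G) : Set G) := Subgroup.inv_mem _ hn
  have hmem : n * z * n⁻¹ ∈ Subgroup.centralizer ((R : Subgroup G) : Set G) := by
    rw [Subgroup.mem_centralizer_iff]
    intro r hr
    have h1 : n⁻¹ * r * n ∈ (R : Subgroup G) := by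
      have h0 := (Subgroup.mem_normalizer_iff.mp hninv r).mp hr
      simpa using h0
    have h2 : (n⁻¹ * r * n) * z = z * (n⁻¹ * r * n) := Subgroup.mem_centralizer_iff.mp hzR _ h1
    calc r * (n * z * n⁻¹) = n * ((n⁻¹ * r * n) * z) * n⁻¹ := by group
      _ = n * (z * (n⁻¹ * r * n)) * n⁻¹ := by rw [h2]
      _ = n * z * n⁻¹ * r := by group
  have h16 : (n * z * n⁻¹) ^ 16 = 1 := by
    rw [conj_pow]
    have hz16 : z ^ 16 = 1 := by
      calc z ^ 16 = (z ^ 2) ^ 8 := by rw [← pow_mul]
        _ = 1 := by rw [hz2, one_pow]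
    rw [hz16]; group
  rcases hu _ hmem h16 with h | h
  · exfalso; apply hz1
    have e : z = n⁻¹ * (n * z * n⁻¹) * n := by group
    rw [e, h]; group
  · rw [Subgroup.mem_centralizer_iff]
    intro w hw
    rw [Set.mem_singleton_iff] at hw
    subst hw
    calc w * n = (n * w * n⁻¹) * n := by rw [h]
      _ = n * w := by group

end Cfsg.Agent.Helper83
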