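import Mathlib
import Cfsg.Agent.Helper9.OrdTools
import Cfsg.Agent.Helper52.O7920Defs
import Cfsg.Agent.Helper52.O7920Defs2

set_option autoImplicit false
set_option linter.unusedSectionVars false
set_option linter.style.haveILetI false

namespace Cfsg.Agent.Helper83

open Cfsg.Agent.Helper52

variable {G : Type*} [Group G] [Finite G]

-- PIECE CU
theorem o7920_C_invol (hG : Nat.card G = 7920) (R : Sylow 3 G)
    (hCR : Nat.card ↥(Subgroup.centralizer ((R : Subgroup G) : Set G)) = 18)
    (z : G) (hz : orderOf z = 2) (hzR : z ∈ Subgroup.centralizer ((R : Subgroup G) : Set G))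
    (x : G) (hx : x ∈ Subgroup.centralizer ((R : Subgroup G) : Set G)) (hx16 : x ^ 16 = 1) :
    x = 1 ∨ x = z := by
  haveI : Fact (Nat.Prime 3) := ⟨by norm_num⟩
  have hR9 : Nat.card (R : Subgroup G) = 3 ^ 2 :=
    Cfsg.Agent.Helper9.OrdTools.sylow_card 2 880 (by rw [hG]; norm_num) (by norm_num) R
  have hRc : ∀ a ∈ (R : Subgroup G), ∀ b ∈ (R : Subgroup G), a * b = b * a := by
    haveI := IsPGroup.isMulCommutative_of_card_eq_prime_sq (p := 3) hR9
    intro a ha b hb
    have h0 := (IsMulCommutative.is_comm (M := ↥(R : Subgroup G))).comm ⟨a, ha⟩ ⟨b, hb⟩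
    exact congrArg Subtype.val h0
  have hRC : (R : Subgroup G) ≤ Subgroup.centralizer ((R : Subgroup G) : Set G) := by
    intro r hr
    rw [Subgroup.mem_centralizer_iff]
    intro a ha
    exact hRc a ha r hr
  have hz2 : z ^ 2 = 1 := by rw [← hz]; exact pow_orderOf_eq_one z
  have hz1 : z ≠ 1 := by intro h; rw [h, orderOf_one] at hz; norm_num at hz
  have hx2 : x ^ 2 = 1 := by
    have h1 : orderOf x ∣ 16 := orderOf_dvd_of_pow_eq_one hx16
    have h2 : orderOf x ∣ 18 := hCR ▸ Subgroup.orderOf_dvd_natCard _ hx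
    have h3 : orderOf x ∣ Nat.gcd 16 18 := Nat.dvd_gcd h1 h2
    have h4 : orderOf x ∣ 2 := by
      have e : Nat.gcd 16 18 = 2 := by norm_num
      rwa [e] at h3
    exact orderOf_dvd_iff_pow_eq_one.mp h4
  have hR1 : ∀ r ∈ (R : Subgroup G), r ^ 2 = 1 → r = 1 := by
    intro r hr h2
    have h9 : r ^ 9 = 1 := by
      have h0 := Subgroup.orderOf_dvd_natCard (R : Subgroup G) hr
      rw [hR9] at h0
      exact orderOf_dvd_iff_pow_eq_one.mp (by simpa using h0)
    calc r = r ^ 9 * ((r ^ 2) ^ 4)⁻¹ := by group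
      _ = 1 := by rw [h9, h2]; simp
  have hzR' : z ∉ (R : Subgroup G) := fun h => hz1 (hR1 z h hz2)
  by_cases hxR : x ∈ (R : Subgroup G)
  · left; exact hR1 x hxR hx2
  · right
    have hidx : ((R : Subgroup G).subgroupOf
        (Subgroup.centralizer ((R : Subgroup G) : Set G))).index = 2 := by
      have h1 := ((R : Subgroup G).subgroupOf
        (Subgroup.centralizer ((R : Subgroup G) : Set G))).card_mul_index
      rw [Nat.card_congr (Subgroup.subgroupOfEquivOfLe hRC).toEquiv, hR9, hCR] at h1
      omega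
    have hmem : ((⟨x, hx⟩ : Subgroup.centralizer ((R : Subgroup G) : Set G)) * ⟨z, hzR⟩) ∈
        (R : Subgroup G).subgroupOf (Subgroup.centralizer ((R : Subgroup G) : Set G)) := by
      rw [Subgroup.mul_mem_iff_of_index_two hidx]
      simp only [Subgroup.mem_subgroupOf]
      exact ⟨fun h => absurd h hxR, fun h => absurd h hzR'⟩
    have hr : x * z ∈ (R : Subgroup G) := by
      rw [Subgroup.mem_subgroupOf] at hmem; exact hmem
    have hcomm : (x * z) * z = z * (x * z) := Subgroup.mem_centralizer_iff.mp hzR _ hr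
    have hxz : x * z = z * x := by
      have h0 : x * z * z = z * x * z := by rw [hcomm, mul_assoc]
      exact mul_right_cancel h0
    have h2 : (x * z) ^ 2 = 1 := by
      rw [pow_two]
      calc x * z * (x * z) = x * (z * x) * z := by simp only [mul_assoc]
        _ = x * (x * z) * z := by rw [hxz]
        _ = (x * x) * (z * z) := by simp only [mul_assoc]
        _ = 1 := by rw [← pow_two, ← pow_two, hx2, hz2, one_mul]
    have h1 := hR1 _ hr h2
    have hzinv : z⁻¹ = z := by
      rw [inv_eq_iff_mul_eq_one, ← pow_two, hz2]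
    calc x = (x * z) * z⁻¹ := by group
      _ = z := by rw [h1, one_mul, hzinv]

end Cfsg.Agent.Helper83
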