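import Mathlib
import Cfsg.Agent.Helper52.O7920Defs
import Cfsg.Agent.Helper52.O7920Defs2
import Cfsg.Agent.Helper83.T7920Aux

set_option autoImplicit false
set_option linter.unusedSectionVars false
set_option linter.style.haveILetI false

namespace Cfsg.Agent.Helper83

open Cfsg.Agent.Helper52

variable {G : Type*} [Group G] [Finite G]

-- PIECE FUS
theorem o7920_fusion {R : Sylow 3 G} {D : Subgroup G} {j : G} (c : O7920Conf2 G R D j)
    (hNR : Subgroup.normalizer ((R : Subgroup G) : Set G) ≤ Subgroup.normalizer (D : Set G))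
    (g : G) (hg : ∀ d ∈ D, g * d * g⁻¹ ∈ (R : Subgroup G)) : ∀ d ∈ D, g * d * g⁻¹ ∈ D := by
  haveI : Fact (Nat.Prime 3) := ⟨by norm_num⟩
  have hmemS : ∀ q : G, q ∈ ((g • R : Sylow 3 G) : Subgroup G) ↔
      g⁻¹ * q * g ∈ (R : Subgroup G) := by
    intro q
    rw [Sylow.coe_subgroup_smul, Subgroup.mem_pointwise_smul_iff_inv_smul_mem]
    simp [MulAut.smul_def]
  obtain ⟨H, hH⟩ : ∃ H : Subgroup G,
      H = Subgroup.centralizer {y | ∃ d ∈ D, y = g * d * g⁻¹} := ⟨_, rfl⟩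
  have hRc := (c.syl3 R).2
  have hSc := (c.syl3 (g • R)).2
  have hRH : (R : Subgroup G) ≤ H := by
    intro r hr
    rw [hH, Subgroup.mem_centralizer_iff]
    rintro y ⟨d, hd, rfl⟩
    exact hRc _ (hg d hd) r hr
  have hSH : ((g • R : Sylow 3 G) : Subgroup G) ≤ H := by
    intro s hs
    rw [hH, Subgroup.mem_centralizer_iff]
    rintro y ⟨d, hd, rfl⟩
    have hy : g * d * g⁻¹ ∈ ((g • R : Sylow 3 G) : Subgroup G) := by
      rw [hmemS]
      have e : g⁻¹ * (g * d * g⁻¹) * g = d := by group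
      rw [e]; exact c.conf.hDR hd
    exact hSc _ hy s hs
  obtain ⟨k, hkH, hk⟩ := T7920Aux.sylow_conj_in (g • R) R H hSH hRH
  have hn : k * g ∈ Subgroup.normalizer ((R : Subgroup G) : Set G) := by
    rw [Subgroup.mem_normalizer_iff]
    intro y
    rw [hk ((k * g) * y * (k * g)⁻¹), hmemS]
    have e : g⁻¹ * (k⁻¹ * (k * g * y * (k * g)⁻¹) * k) * g = y := by group
    rw [e]
  have hnD := hNR hn
  intro d hd
  have h1 : (k * g) * d * (k * g)⁻¹ ∈ D := (Subgroup.mem_normalizer_iff.mp hnD d).mp hd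
  have h2 : (g * d * g⁻¹) * k = k * (g * d * g⁻¹) := by
    rw [hH] at hkH
    exact Subgroup.mem_centralizer_iff.mp hkH _ ⟨d, hd, rfl⟩
  have e : (k * g) * d * (k * g)⁻¹ = g * d * g⁻¹ := by
    calc (k * g) * d * (k * g)⁻¹ = (k * (g * d * g⁻¹)) * k⁻¹ := by group
      _ = ((g * d * g⁻¹) * k) * k⁻¹ := by rw [h2]
      _ = g * d * g⁻¹ := by group
  rw [← e]; exact h1

end Cfsg.Agent.Helper83
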