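import Mathlib
import Cfsg.Agent.Helper52.O7920Defs
import Cfsg.Agent.Helper52.O7920Defs2
import Cfsg.Agent.Helper83.T7920Aux

set_option autoImplicit false
set_option linter.unusedSectionVars false
set_option linter.style.haveILetI false

namespace Cfsg.Agent.Helper83

open Cfsg.Agent.Helper52

variable {G : Type*} [Group G] [Finite G]

-- PIECE ND
theorem o7920_norm_D (D : Subgroup G) (hD : Nat.card ↥D = 3) (j : G)
    (hj : ∀ d ∈ D, j * d * j⁻¹ = d⁻¹) :
    Nat.card ↥(Subgroup.normalizer (D : Set G)) =
      2 * Nat.card ↥(Subgroup.centralizer (D : Set G)) := by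
  obtain ⟨d, hdD, hd1, hdinv, hd3, hall⟩ := T7920Aux.exists_gen3 D hD
  have hCN : Subgroup.centralizer (D : Set G) ≤ Subgroup.normalizer (D : Set G) :=
    Subgroup.centralizer_le_normalizer _
  have hcent : ∀ n : G, n ∈ Subgroup.centralizer (D : Set G) ↔ n * d * n⁻¹ = d := by
    intro n
    constructor
    · intro hn
      have h0 := Subgroup.mem_centralizer_iff.mp hn d hdD
      rw [← h0]; group
    · intro h
      apply T7920Aux.mem_centralizer_of_comm_gen D d hall
      calc n * d = (n * d * n⁻¹) * n := by group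
        _ = d * n := by rw [h]
  have hnorm : ∀ n ∈ Subgroup.normalizer (D : Set G), n * d * n⁻¹ = d ∨ n * d * n⁻¹ = d⁻¹ := by
    intro n hn
    have h1 : n * d * n⁻¹ ∈ D := (Subgroup.mem_normalizer_iff.mp hn d).mp hdD
    rcases hall _ h1 with h | h | h
    · exfalso; apply hd1
      have e : d = n⁻¹ * (n * d * n⁻¹) * n := by group
      rw [e, h]; group
    · left; exact h
    · right; exact h
  have hjN : j ∈ Subgroup.normalizer (D : Set G) := by
    rw [Subgroup.mem_normalizer_iff]
    intro x
    constructor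
    · intro hx
      rw [hj x hx]; exact D.inv_mem hx
    · intro hx
      have h2 : (j * x * j⁻¹)⁻¹ = x := by
        have h1 := hj (j * x * j⁻¹)⁻¹ (D.inv_mem hx)
        rw [inv_inv] at h1
        exact mul_left_cancel (mul_right_cancel h1)
      rw [← h2]; exact D.inv_mem hx
  have hidx : ((Subgroup.centralizer (D : Set G)).subgroupOf
      (Subgroup.normalizer (D : Set G))).index = 2 := by
    rw [Subgroup.index_eq_two_iff]
    refine ⟨⟨j, hjN⟩, fun b => ?_⟩
    simp only [Subgroup.mem_subgroupOf, Subgroup.coe_mul]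
    have hb := hnorm b b.2
    have hbj : (b : G) * j * d * ((b : G) * j)⁻¹ = ((b : G) * d * (b : G)⁻¹)⁻¹ := by
      calc (b : G) * j * d * ((b : G) * j)⁻¹ = (b : G) * (j * d * j⁻¹) * (b : G)⁻¹ := by group
        _ = (b : G) * d⁻¹ * (b : G)⁻¹ := by rw [hj d hdD]
        _ = ((b : G) * d * (b : G)⁻¹)⁻¹ := by group
    rcases hb with h | h
    · right
      refine ⟨(hcent _).mpr h, fun hbjC => ?_⟩
      have h0 := (hcent _).mp hbjC
      rw [hbj, h] at h0
      exact hdinv h0.symm
    · left
      refine ⟨(hcent _).mpr ?_, fun hbC => ?_⟩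
      · rw [hbj, h, inv_inv]
      · have h0 := (hcent _).mp hbC
        rw [h] at h0
        exact hdinv h0.symm
  have h1 := ((Subgroup.centralizer (D : Set G)).subgroupOf
      (Subgroup.normalizer (D : Set G))).card_mul_index
  rw [hidx, Nat.card_congr (Subgroup.subgroupOfEquivOfLe hCN).toEquiv] at h1
  omega

end Cfsg.Agent.Helper83
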