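import Mathlib
import Cfsg.Agent.Helper52.O7920Defs
import Cfsg.Agent.Helper52.O7920Defs2
import Cfsg.Agent.Helper83.T7920Aux

set_option autoImplicit false
set_option linter.unusedSectionVars false
set_option linter.style.haveILetI false

namespace Cfsg.Agent.Helper83

open Cfsg.Agent.Helper52

variable {G : Type*} [Group G] [Finite G]

-- PIECE NRD
theorem o7920_NR_le {R : Sylow 3 G} {D : Subgroup G} {j : G} (c : O7920Conf2 G R D j)
    (h72 : Nat.card ↥(Subgroup.centralizer (D : Set G)) = 72) :
    Subgroup.normalizer ((R : Subgroup G) : Set G) ≤ Subgroup.normalizer (D : Set G) := by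
  obtain ⟨d, hdD, hd1, hdinv, hd3, hall⟩ := T7920Aux.exists_gen3 D c.conf.hD
  have hstab := c.stab
  rw [h72] at hstab
  have h18 : Nat.card ↥(Subgroup.centralizer (D : Set G) ⊓
      Subgroup.normalizer ((R : Subgroup G) : Set G)) = 18 := by omega
  have h36 := c.conf.hyp.n3 R
  have hjD : ∀ x ∈ D, j * x * j⁻¹ = x⁻¹ := fun x hx => c.conf.hjinv x (c.conf.hDR hx)
  have hjN : j ∈ Subgroup.normalizer (D : Set G) := by
    rw [Subgroup.mem_normalizer_iff]
    intro x
    constructor
    · intro hx
      rw [hjD x hx]; exact D.inv_mem hx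
    · intro hx
      have h2 : (j * x * j⁻¹)⁻¹ = x := by
        have h1 := hjD (j * x * j⁻¹)⁻¹ (D.inv_mem hx)
        rw [inv_inv] at h1
        exact mul_left_cancel (mul_right_cancel h1)
      rw [← h2]; exact D.inv_mem hx
  have hjC : j ∉ Subgroup.centralizer (D : Set G) := by
    intro h
    have h1 := Subgroup.mem_centralizer_iff.mp h d hdD
    have h2 := hjD d hdD
    apply hdinv
    calc d = (d * j) * j⁻¹ := by group
      _ = (j * d) * j⁻¹ := by rw [h1]
      _ = d⁻¹ := h2
  obtain ⟨K, hK⟩ : ∃ K : Subgroup G, K = Subgroup.normalizer ((R : Subgroup G) : Set G) ⊓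
      Subgroup.normalizer (D : Set G) := ⟨_, rfl⟩
  have hle1 : Subgroup.centralizer (D : Set G) ⊓
      Subgroup.normalizer ((R : Subgroup G) : Set G) ≤ K := by
    intro x hx
    rw [hK]
    exact ⟨hx.2, Subgroup.centralizer_le_normalizer _ hx.1⟩
  have hKN : K ≤ Subgroup.normalizer ((R : Subgroup G) : Set G) := by
    rw [hK]; exact inf_le_left
  have hjK : j ∈ K := by rw [hK]; exact ⟨c.conf.hjN, hjN⟩
  have hdvd1 : 18 ∣ Nat.card K := h18 ▸ Subgroup.card_dvd_of_le hle1
  have hdvd2 : Nat.card K ∣ 36 := h36 ▸ Subgroup.card_dvd_of_le hKN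
  have hne : Nat.card K ≠ 18 := by
    intro h
    have heq : Subgroup.centralizer (D : Set G) ⊓
        Subgroup.normalizer ((R : Subgroup G) : Set G) = K :=
      Subgroup.eq_of_le_of_card_ge hle1 (by rw [h, h18])
    have hjm : j ∈ Subgroup.centralizer (D : Set G) ⊓
        Subgroup.normalizer ((R : Subgroup G) : Set G) := by rw [heq]; exact hjK
    exact hjC hjm.1
  have h36K : Nat.card K = 36 := by
    have hle : Nat.card K ≤ 36 := Nat.le_of_dvd (by norm_num) hdvd2
    have hpos : 0 < Nat.card K := Nat.card_pos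
    obtain ⟨a, ha⟩ := hdvd1
    have ha2 : a ≤ 2 := by omega
    interval_cases a
    · omega
    · omega
    · omega
  have hKeq : K = Subgroup.normalizer ((R : Subgroup G) : Set G) :=
    Subgroup.eq_of_le_of_card_ge hKN (by rw [h36K, h36])
  intro x hx
  have hxK : x ∈ K := by rw [hKeq]; exact hx
  rw [hK] at hxK
  exact hxK.2

end Cfsg.Agent.Helper83
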