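import Mathlib

set_option autoImplicit false

namespace Cfsg.Agent.Helper83

namespace NE1158

variable {G : Type*} [Group G] [Finite G]

theorem mem_normalizer_of_conj_le (E : Subgroup G) (k : G) (h : ∀ x ∈ E, k * x * k⁻¹ ∈ E) :
    k ∈ Subgroup.normalizer (E : Set G) := by
  rw [Subgroup.mem_normalizer_iff]
  intro x
  refine ⟨h x, fun hx => ?_⟩
  let f : E → E := fun y => ⟨k * y.1 * k⁻¹, h y.1 y.2⟩
  have hinj : Function.Injective f := by
    intro y z hyz
    have := congrArg Subtype.val hyz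
    apply Subtype.ext
    simpa [f] using this
  have hsurj := Finite.injective_iff_surjective.mp hinj
  obtain ⟨y, hy⟩ := hsurj ⟨k * x * k⁻¹, hx⟩
  have := congrArg Subtype.val hy
  have hxy : y.1 = x := by simpa [f] using this
  rw [← hxy]; exact y.2

theorem sq_of_mem (S : Subgroup G) (hS8 : Nat.card S = 8)
    (h2 : ∀ (g : G) (k : ℕ), g ^ 2 ^ k = 1 → g * g = 1) : ∀ x ∈ S, x * x = 1 := by
  intro x hx
  apply h2 x 3
  have h := pow_card_eq_one' (G := S) (x := ⟨x, hx⟩)
  rw [hS8] at h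
  have := congrArg Subtype.val h
  simpa using this

theorem comm_of_mem (S : Subgroup G) (hC : Subgroup.centralizer (S : Set G) = S) :
    ∀ x ∈ S, ∀ y ∈ S, x * y = y * x := by
  intro x hx y hy
  have : y ∈ Subgroup.centralizer (S : Set G) := by rw [hC]; exact hy
  exact Subgroup.mem_centralizer_iff.mp this x hx

theorem four_elts (E : Subgroup G) (hE : Nat.card E = 4) (hE2 : ∀ x ∈ E, x * x = 1) :
    ∃ a b : G, a ∈ E ∧ b ∈ E ∧ a ≠ 1 ∧ b ≠ 1 ∧ a ≠ b ∧
      ∀ x ∈ E, x = 1 ∨ x = a ∨ x = b ∨ x = a * b := by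
  classical
  have hEn : (E : Set G).ncard = 4 := by rw [← hE]; exact (Nat.card_coe_set_eq _)
  have hfin : (E : Set G).Finite := Set.toFinite _
  -- a
  have h1 : ∃ a ∈ E, a ≠ 1 := by
    by_contra hcon
    push Not at hcon
    have : (E : Set G) ⊆ {1} := fun x hx => hcon x hx
    have := Set.ncard_le_ncard this (Set.toFinite _)
    rw [hEn, Set.ncard_singleton] at this
    omega
  obtain ⟨a, haE, ha1⟩ := h1
  have h2 : ∃ b ∈ E, b ≠ 1 ∧ b ≠ a := by
    by_contra hcon
    push Not at hcon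
    have : (E : Set G) ⊆ {1, a} := by
      intro x hx
      by_cases hx1 : x = 1
      · simp [hx1]
      · simp [hcon x hx hx1]
    have := Set.ncard_le_ncard this (Set.toFinite _)
    rw [hEn] at this
    have h3 : ({1, a} : Set G).ncard ≤ 2 := Set.ncard_insert_le _ _ |>.trans (by simp)
    omega
  obtain ⟨b, hbE, hb1, hba⟩ := h2
  refine ⟨a, b, haE, hbE, ha1, hb1, fun h => hba h.symm, ?_⟩
  have hab1 : a * b ≠ 1 := by
    intro h
    have : a * a = 1 := hE2 a haE
    have : b = a := by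
      have h3 : a * b = a * a := by rw [h, this]
      exact mul_left_cancel h3
    exact hba this
  have haba : a * b ≠ a := by
    intro h; apply hb1; simpa using h
  have habb : a * b ≠ b := by
    intro h; apply ha1; simpa using h
  have hsub : ({1, a, b, a * b} : Set G) ⊆ E := by
    intro x hx
    simp only [Set.mem_insert_iff, Set.mem_singleton_iff] at hx
    rcases hx with rfl | rfl | rfl | rfl
    · exact E.one_mem
    · exact haE
    · exact hbE
    · exact E.mul_mem haE hbE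
  have hcard : ({1, a, b, a * b} : Set G).ncard = 4 := by
    rw [Set.ncard_insert_of_notMem, Set.ncard_insert_of_notMem, Set.ncard_pair]
    · exact fun h => habb h.symm
    · simp only [Set.mem_insert_iff, Set.mem_singleton_iff, not_or]
      exact ⟨fun h => hba h.symm, fun h => haba h.symm⟩
    · simp only [Set.mem_insert_iff, Set.mem_singleton_iff, not_or]
      exact ⟨fun h => ha1 h.symm, fun h => hb1 h.symm, fun h => hab1 h.symm⟩
  have heq := Set.eq_of_subset_of_ncard_le hsub (by rw [hEn, hcard]) hfin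
  intro x hx
  have : x ∈ ({1, a, b, a * b} : Set G) := by rw [heq]; exact hx
  simpa using this

theorem index_two (E S : Subgroup G) (hE : Nat.card E = 4) (hES : E ≤ S) (hS8 : Nat.card S = 8) :
    ∀ s ∈ S, ∀ t ∈ S, s ∉ E → t ∉ E → s * t ∈ E := by
  have hidx : (E.subgroupOf S).index = 2 := by
    have h1 := Subgroup.card_mul_index (E.subgroupOf S)
    have h2 : Nat.card (E.subgroupOf S) = 4 := by
      rw [← hE]; exact Nat.card_congr (Subgroup.subgroupOfEquivOfLe hES).toEquiv
    rw [h2, hS8] at h1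
    omega
  intro s hs t ht hsE htE
  have := Subgroup.mul_mem_iff_of_index_two hidx (a := (⟨s, hs⟩ : S)) (b := ⟨t, ht⟩)
  rw [Subgroup.mem_subgroupOf, Subgroup.mem_subgroupOf, Subgroup.mem_subgroupOf] at this
  exact this.mpr ⟨fun h => absurd h hsE, fun h => absurd h htE⟩

theorem pow_four_eq (x : G) : x ^ 2 ^ 2 = (x * x) * (x * x) := by
  have : (2 : ℕ) ^ 2 = 2 + 2 := by norm_num
  rw [this, pow_add, pow_two]

/-- An element of `N(S)` centralising `a` and `b` (generators of `E`) lies in `S`. -/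
theorem cent_le (E S : Subgroup G) (hE : Nat.card E = 4) (hES : E ≤ S) (hS8 : Nat.card S = 8)
    (h2 : ∀ (g : G) (k : ℕ), g ^ 2 ^ k = 1 → g * g = 1)
    (hC : Subgroup.centralizer (S : Set G) = S)
    (g : G) (hg : g ∈ Subgroup.normalizer (S : Set G))
    (hgE : ∀ x ∈ E, g * x = x * g) : g ∈ S := by
  have hS2 := sq_of_mem S hS8 h2
  have hSc := comm_of_mem S hC
  have hidx := index_two E S hE hES hS8
  have hconj : ∀ s ∈ S, g * s * g⁻¹ ∈ S := fun s hs => (Subgroup.mem_normalizer_iff.mp hg s).mp hs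
  -- g * g centralises S
  have hgg : ∀ s ∈ S, s * (g * g) = (g * g) * s := by
    intro s hs
    by_cases hsE : s ∈ E
    · have := hgE s hsE
      calc s * (g * g) = (s * g) * g := by group
        _ = (g * s) * g := by rw [this]
        _ = g * (s * g) := by group
        _ = g * (g * s) := by rw [this]
        _ = (g * g) * s := by group
    · have ht : g * s * g⁻¹ ∈ S := hconj s hs
      have htE : g * s * g⁻¹ ∉ E := by
        intro h
        have h1 := hgE _ h
        have h3 : s = g * s * g⁻¹ := by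
          have : g * s = g * (g * s * g⁻¹) := by
            rw [h1]; group
          exact mul_left_cancel this
        exact hsE (h3 ▸ h)
      have hst := hidx s hs _ ht hsE htE
      have h1 := hgE _ hst
      -- g * (s * t) = (s * t) * g with t = g s g⁻¹
      have h3 : s * (g * s * g⁻¹) = (g * s * g⁻¹) * s := hSc s hs _ ht
      have h4 : g * (g * s * g⁻¹) = s * g := by
        have : (g * s * g⁻¹) * (g * (g * s * g⁻¹)) = (g * s * g⁻¹) * (s * g) := by
          calc (g * s * g⁻¹) * (g * (g * s * g⁻¹)) = g * (s * (g * s * g⁻¹)) := by group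
            _ = (s * (g * s * g⁻¹)) * g := h1
            _ = ((g * s * g⁻¹) * s) * g := by rw [h3]
            _ = (g * s * g⁻¹) * (s * g) := by group
        exact mul_left_cancel this
      calc s * (g * g) = (s * g) * g := by group
        _ = (g * (g * s * g⁻¹)) * g := by rw [h4]
        _ = (g * g) * s := by group
  have hggS : g * g ∈ S := by
    rw [← hC]; exact Subgroup.mem_centralizer_iff.mpr hgg
  have hg4 : g ^ 2 ^ 2 = 1 := by
    have := hS2 _ hggS
    calc g ^ 2 ^ 2 = (g * g) * (g * g) := pow_four_eq g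
      _ = 1 := this
  have hg2 : g * g = 1 := h2 g 2 hg4
  have hginv : g⁻¹ = g := inv_eq_of_mul_eq_one_left hg2
  rw [← hC]
  refine Subgroup.mem_centralizer_iff.mpr (fun s hs => ?_)
  have hu : g * s * g⁻¹ * s ∈ S := S.mul_mem (hconj s hs) hs
  have h4 : (g * s) ^ 2 ^ 2 = 1 := by
    have h5 : (g * s) * (g * s) = g * s * g⁻¹ * s := by rw [hginv]; group
    calc (g * s) ^ 2 ^ 2 = ((g * s) * (g * s)) * ((g * s) * (g * s)) := pow_four_eq _
      _ = (g * s * g⁻¹ * s) * (g * s * g⁻¹ * s) := by rw [h5]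
      _ = 1 := hS2 _ hu
  have h6 := h2 _ 2 h4
  -- g s g s = 1, g g = 1, s s = 1  ⟹ s g = g s
  have hss := hS2 s hs
  calc s * g = (g * g) * (s * g) * (s * s) := by rw [hg2, hss]; group
    _ = g * ((g * s) * (g * s)) * s := by group
    _ = g * s := by rw [h6]; group

/-- A 2-element of `N(E)` centralises `E`. -/
theorem two_elt_cent (E S : Subgroup G) (hES : E ≤ S) (hS8 : Nat.card S = 8)
    (h2 : ∀ (g : G) (k : ℕ), g ^ 2 ^ k = 1 → g * g = 1)
    (n : G) (hn : n ∈ Subgroup.normalizer (E : Set G)) (k : ℕ) (hnk : n ^ 2 ^ k = 1) :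
    ∀ x ∈ E, n * x = x * n := by
  have hS2 := sq_of_mem S hS8 h2
  have hn2 : n * n = 1 := h2 n k hnk
  have hninv : n⁻¹ = n := inv_eq_of_mul_eq_one_left hn2
  intro x hx
  have hy : n * x * n⁻¹ ∈ E := (Subgroup.mem_normalizer_iff.mp hn x).mp hx
  have hxy : x * (n * x * n⁻¹) ∈ E := E.mul_mem hx hy
  have h5 : (x * n) * (x * n) = x * (n * x * n⁻¹) := by rw [hninv]; group
  have h4 : (x * n) ^ 2 ^ 2 = 1 := by
    calc (x * n) ^ 2 ^ 2 = ((x * n) * (x * n)) * ((x * n) * (x * n)) := pow_four_eq _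
      _ = (x * (n * x * n⁻¹)) * (x * (n * x * n⁻¹)) := by rw [h5]
      _ = 1 := hS2 _ (hES hxy)
  have h6 := h2 _ 2 h4
  have hxx := hS2 x (hES hx)
  calc n * x = (x * x) * (n * x) * (n * n) := by rw [hn2, hxx]; group
    _ = x * ((x * n) * (x * n)) * n := by group
    _ = x * n := by rw [h6]; group

theorem exists_three_cycle (E S : Subgroup G) (hE : Nat.card E = 4) (hES : E ≤ S)
    (hS8 : Nat.card S = 8)
    (h2 : ∀ (g : G) (k : ℕ), g ^ 2 ^ k = 1 → g * g = 1)
    (hC : Subgroup.centralizer (S : Set G) = S)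
    (hN : Nat.card (Subgroup.normalizer (S : Set G)) = 168)
    (a b : G) (haE : a ∈ E) (hbE : b ∈ E) (ha1 : a ≠ 1) (hb1 : b ≠ 1) (hab : a ≠ b)
    (hall : ∀ x ∈ E, x = 1 ∨ x = a ∨ x = b ∨ x = a * b) :
    ∃ k ∈ Subgroup.normalizer (S : Set G),
      (k * a * k⁻¹ = b ∧ k * b * k⁻¹ = a * b) ∨ (k * a * k⁻¹ = a * b ∧ k * b * k⁻¹ = a) := by
  classical
  have := Fintype.ofFinite G
  have hS2 := sq_of_mem S hS8 h2
  have hSc := comm_of_mem S hC
  have haa : a * a = 1 := hS2 a (hES haE)
  have hbb : b * b = 1 := hS2 b (hES hbE)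
  have habE : a * b ∈ E := E.mul_mem haE hbE
  have hab1 : a * b ≠ 1 := by
    intro h
    have h3 : a * b = a * a := by rw [h, haa]
    exact hab (mul_left_cancel h3).symm
  set N := Subgroup.normalizer (S : Set G) with hNdef
  let NF : Finset G := Finset.univ.filter (fun g => g ∈ N)
  let SF : Finset G := Finset.univ.filter (fun g => g ∈ S)
  have hNF : NF.card = 168 := by
    rw [← hN, Nat.card_eq_fintype_card, Fintype.card_subtype]
  have hSF : SF.card = 8 := by
    rw [← hS8, Nat.card_eq_fintype_card, Fintype.card_subtype]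
  have hconj : ∀ g ∈ N, ∀ s ∈ S, g * s * g⁻¹ ∈ S :=
    fun g hg s hs => (Subgroup.mem_normalizer_iff.mp hg s).mp hs
  -- centralising a and b ⟹ in S
  have hst : ∀ g ∈ N, g * a = a * g → g * b = b * g → g ∈ S := by
    intro g hg hga hgb
    apply cent_le E S hE hES hS8 h2 hC g hg
    intro x hx
    rcases hall x hx with rfl | rfl | rfl | rfl
    · simp
    · exact hga
    · exact hgb
    · calc g * (a * b) = (g * a) * b := by group
        _ = a * (g * b) := by rw [hga]; group
        _ = a * b * g := by rw [hgb]; group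
  have fib : ∀ x y : G, (∀ g ∈ N, g * x = x * g → g * y = y * g → g ∈ S) →
      168 ≤ 8 * (NF.image (fun g => (g * x * g⁻¹, g * y * g⁻¹))).card := by
    intro x y hxy
    rw [← hNF]
    apply Finset.card_le_mul_card_image
    intro p hp
    obtain ⟨g₀, hg₀, rfl⟩ := Finset.mem_image.mp hp
    rw [← hSF]
    apply Finset.card_le_card_of_injOn (fun g => g₀⁻¹ * g)
    · intro g hg
      have hg' := Finset.mem_filter.mp (Finset.mem_coe.mp hg)
      obtain ⟨hgN, hgp⟩ := hg'
      have hgN' : g ∈ N := (Finset.mem_filter.mp hgN).2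
      have hg₀' : g₀ ∈ N := (Finset.mem_filter.mp hg₀).2
      have e1 : g * x * g⁻¹ = g₀ * x * g₀⁻¹ := (Prod.ext_iff.mp hgp).1
      have e2 : g * y * g⁻¹ = g₀ * y * g₀⁻¹ := (Prod.ext_iff.mp hgp).2
      refine Finset.mem_coe.mpr (Finset.mem_filter.mpr ⟨Finset.mem_univ _, ?_⟩)
      apply hxy
      · exact N.mul_mem (N.inv_mem hg₀') hgN'
      · calc g₀⁻¹ * g * x = g₀⁻¹ * (g * x * g⁻¹) * g := by group
          _ = g₀⁻¹ * (g₀ * x * g₀⁻¹) * g := by rw [e1]
          _ = x * (g₀⁻¹ * g) := by group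
      · calc g₀⁻¹ * g * y = g₀⁻¹ * (g * y * g⁻¹) * g := by group
          _ = g₀⁻¹ * (g₀ * y * g₀⁻¹) * g := by rw [e2]
          _ = y * (g₀⁻¹ * g) := by group
    · intro g _ g' _ h
      exact mul_left_cancel h
  have ha_eq : a = (a * b) * b := by rw [mul_assoc, hbb, mul_one]
  have hb_eq : b = a * (a * b) := by rw [← mul_assoc, haa, one_mul]
  have h0 := fib a b hst
  have h1 := fib b (a * b) (by
    intro g hg hgb hgab
    apply hst g hg _ hgb
    calc g * a = g * ((a * b) * b) := by rw [← ha_eq]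
      _ = (g * (a * b)) * b := by group
      _ = (a * b) * (g * b) := by rw [hgab]; group
      _ = (a * b) * b * g := by rw [hgb]; group
      _ = a * g := by rw [← ha_eq])
  have h2' := fib (a * b) a (by
    intro g hg hgab hga
    apply hst g hg hga
    calc g * b = g * (a * (a * b)) := by rw [← hb_eq]
      _ = (g * a) * (a * b) := by group
      _ = a * (g * (a * b)) := by rw [hga]; group
      _ = a * (a * b) * g := by rw [hgab]; group
      _ = b * g := by rw [← hb_eq])
  by_contra hno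
  have tr : ∀ g h x y : G, g * x * g⁻¹ = h * y * h⁻¹ → (h⁻¹ * g) * x * (h⁻¹ * g)⁻¹ = y := by
    intro g h x y e
    calc (h⁻¹ * g) * x * (h⁻¹ * g)⁻¹ = h⁻¹ * (g * x * g⁻¹) * h := by group
      _ = h⁻¹ * (h * y * h⁻¹) * h := by rw [e]
      _ = y := by group
  set I0 := NF.image (fun g => (g * a * g⁻¹, g * b * g⁻¹)) with hI0
  set I1 := NF.image (fun g => (g * b * g⁻¹, g * (a * b) * g⁻¹)) with hI1
  set I2 := NF.image (fun g => (g * (a * b) * g⁻¹, g * a * g⁻¹)) with hI2
  have d01 : Disjoint I0 I1 := by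
    rw [Finset.disjoint_left]
    intro p hp0 hp1
    obtain ⟨g, hg, rfl⟩ := Finset.mem_image.mp hp0
    obtain ⟨h, hh, e⟩ := Finset.mem_image.mp hp1
    have hgN : g ∈ N := (Finset.mem_filter.mp hg).2
    have hhN : h ∈ N := (Finset.mem_filter.mp hh).2
    have e1 : g * a * g⁻¹ = h * b * h⁻¹ := (Prod.ext_iff.mp e).1.symm
    have e2 : g * b * g⁻¹ = h * (a * b) * h⁻¹ := (Prod.ext_iff.mp e).2.symm
    exact hno ⟨h⁻¹ * g, N.mul_mem (N.inv_mem hhN) hgN, Or.inl ⟨tr _ _ _ _ e1, tr _ _ _ _ e2⟩⟩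
  have d02 : Disjoint I0 I2 := by
    rw [Finset.disjoint_left]
    intro p hp0 hp1
    obtain ⟨g, hg, rfl⟩ := Finset.mem_image.mp hp0
    obtain ⟨h, hh, e⟩ := Finset.mem_image.mp hp1
    have hgN : g ∈ N := (Finset.mem_filter.mp hg).2
    have hhN : h ∈ N := (Finset.mem_filter.mp hh).2
    have e1 : g * a * g⁻¹ = h * (a * b) * h⁻¹ := (Prod.ext_iff.mp e).1.symm
    have e2 : g * b * g⁻¹ = h * a * h⁻¹ := (Prod.ext_iff.mp e).2.symm
    exact hno ⟨h⁻¹ * g, N.mul_mem (N.inv_mem hhN) hgN, Or.inr ⟨tr _ _ _ _ e1, tr _ _ _ _ e2⟩⟩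
  have d12 : Disjoint I1 I2 := by
    rw [Finset.disjoint_left]
    intro p hp0 hp1
    obtain ⟨g, hg, rfl⟩ := Finset.mem_image.mp hp0
    obtain ⟨h, hh, e⟩ := Finset.mem_image.mp hp1
    have hgN : g ∈ N := (Finset.mem_filter.mp hg).2
    have hhN : h ∈ N := (Finset.mem_filter.mp hh).2
    have e1 : g * b * g⁻¹ = h * (a * b) * h⁻¹ := (Prod.ext_iff.mp e).1.symm
    have e2 : g * (a * b) * g⁻¹ = h * a * h⁻¹ := (Prod.ext_iff.mp e).2.symm
    have k1 := tr _ _ _ _ e1
    have k2 := tr _ _ _ _ e2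
    refine hno ⟨h⁻¹ * g, N.mul_mem (N.inv_mem hhN) hgN, Or.inl ⟨?_, k1⟩⟩
    calc (h⁻¹ * g) * a * (h⁻¹ * g)⁻¹ = (h⁻¹ * g) * ((a * b) * b) * (h⁻¹ * g)⁻¹ := by
          rw [← ha_eq]
      _ = ((h⁻¹ * g) * (a * b) * (h⁻¹ * g)⁻¹) * ((h⁻¹ * g) * b * (h⁻¹ * g)⁻¹) := by group
      _ = a * (a * b) := by rw [k1, k2]
      _ = b := hb_eq.symm
  -- containment
  let T : Finset (G × G) := (SF.erase 1) ×ˢ SF
  have hT : T.card = 56 := by
    have h1S : (1 : G) ∈ SF := Finset.mem_filter.mpr ⟨Finset.mem_univ _, S.one_mem⟩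
    rw [Finset.card_product, Finset.card_erase_of_mem h1S, hSF]
  have sub : ∀ x y : G, x ∈ S → x ≠ 1 → y ∈ S →
      NF.image (fun g => (g * x * g⁻¹, g * y * g⁻¹)) ⊆ T := by
    intro x y hx hx1 hy p hp
    obtain ⟨g, hg, rfl⟩ := Finset.mem_image.mp hp
    have hgN : g ∈ N := (Finset.mem_filter.mp hg).2
    refine Finset.mem_product.mpr ⟨Finset.mem_erase.mpr ⟨?_, ?_⟩, ?_⟩
    · intro h
      apply hx1
      have h3 : g * x * g⁻¹ = 1 := h
      calc x = g⁻¹ * (g * x * g⁻¹) * g := by group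
        _ = 1 := by rw [h3]; group
    · exact Finset.mem_filter.mpr ⟨Finset.mem_univ _, hconj g hgN x hx⟩
    · exact Finset.mem_filter.mpr ⟨Finset.mem_univ _, hconj g hgN y hy⟩
  have s0 : I0 ⊆ T := sub a b (hES haE) ha1 (hES hbE)
  have s1 : I1 ⊆ T := sub b (a * b) (hES hbE) hb1 (hES habE)
  have s2 : I2 ⊆ T := sub (a * b) a (hES habE) hab1 (hES haE)
  have hU : (I0 ∪ I1 ∪ I2).card ≤ 56 := by
    rw [← hT]
    exact Finset.card_le_card (Finset.union_subset (Finset.union_subset s0 s1) s2)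
  have hd : Disjoint (I0 ∪ I1) I2 := Finset.disjoint_union_left.mpr ⟨d02, d12⟩
  rw [Finset.card_union_of_disjoint hd, Finset.card_union_of_disjoint d01] at hU
  omega

end NE1158

open NE1158 in
theorem card_normalizer_four {G : Type*} [Group G] [Finite G] (E S : Subgroup G)
    (hE : Nat.card E = 4) (hES : E ≤ S) (hS8 : Nat.card S = 8)
    (h2 : ∀ (g : G) (k : ℕ), g ^ 2 ^ k = 1 → g * g = 1)
    (hC : Subgroup.centralizer (S : Set G) = S)
    (hN : Nat.card (Subgroup.normalizer (S : Set G)) = 168) :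
    Nat.card (Subgroup.normalizer (E : Set G)) = 3 * Nat.card (Subgroup.centralizer (E : Set G)) := by
  classical
  have hS2 := sq_of_mem S hS8 h2
  obtain ⟨a, b, haE, hbE, ha1, hb1, hab, hall⟩ := four_elts E hE (fun x hx => hS2 x (hES hx))
  obtain ⟨k, hkN, hk⟩ := exists_three_cycle E S hE hES hS8 h2 hC hN a b haE hbE ha1 hb1 hab hall
  have habE : a * b ∈ E := E.mul_mem haE hbE
  have hka : k * a * k⁻¹ ∈ E := by
    rcases hk with ⟨h, _⟩ | ⟨h, _⟩ <;> rw [h] <;> assumption
  have hkb : k * b * k⁻¹ ∈ E := by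
    rcases hk with ⟨_, h⟩ | ⟨_, h⟩ <;> rw [h] <;> assumption
  have hkE : k ∈ Subgroup.normalizer (E : Set G) := by
    apply mem_normalizer_of_conj_le
    intro x hx
    rcases hall x hx with rfl | rfl | rfl | rfl
    · simp [E.one_mem]
    · exact hka
    · exact hkb
    · have : k * (a * b) * k⁻¹ = (k * a * k⁻¹) * (k * b * k⁻¹) := by group
      rw [this]; exact E.mul_mem hka hkb
  have hkna : k * a * k⁻¹ ≠ a := by
    rcases hk with ⟨h, _⟩ | ⟨h, _⟩
    · rw [h]; exact fun h' => hab h'.symm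
    · rw [h]; intro h'; apply hb1; simpa using h'
  have hCN : Subgroup.centralizer (E : Set G) ≤ Subgroup.normalizer (E : Set G) :=
    Subgroup.centralizer_le_normalizer _
  have hker : (E.normalizerMonoidHom).ker =
      (Subgroup.centralizer (E : Set G)).subgroupOf (Subgroup.normalizer (E : Set G)) :=
    Subgroup.normalizerMonoidHom_ker E
  have hcardker : Nat.card (E.normalizerMonoidHom).ker =
      Nat.card (Subgroup.centralizer (E : Set G)) := by
    rw [hker]
    exact Nat.card_congr (Subgroup.subgroupOfEquivOfLe hCN).toEquiv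
  have h1 := Subgroup.card_mul_index (E.normalizerMonoidHom).ker
  rw [Subgroup.index_ker, hcardker] at h1
  have hr24 : Nat.card (E.normalizerMonoidHom).range ∣ 24 := by
    have h3 : Nat.card (E.normalizerMonoidHom).range ∣ Nat.card (MulAut E) :=
      Subgroup.card_subgroup_dvd_card _
    have h4 : Nat.card (MulAut E) ∣ Nat.card (Equiv.Perm E) :=
      Subgroup.card_dvd_of_injective (MulAut.toPerm E) (by
        intro x y h
        exact MulEquiv.ext (fun m => Equiv.congr_fun h m))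
    rw [Nat.card_perm, hE] at h4
    exact h3.trans h4
  have hrodd : ¬ 2 ∣ Nat.card (E.normalizerMonoidHom).range := by
    intro hdvd
    have : Fact (Nat.Prime 2) := ⟨Nat.prime_two⟩
    obtain ⟨φ, hφ⟩ := exists_prime_orderOf_dvd_card' (G := (E.normalizerMonoidHom).range) 2 hdvd
    obtain ⟨n, hn⟩ := φ.2
    have hm0 : orderOf n ≠ 0 := (orderOf_pos n).ne'
    obtain ⟨e, u, hu, hm⟩ := Nat.exists_eq_two_pow_mul_odd hm0
    have hnu : (n ^ u) ^ 2 ^ e = 1 := by
      rw [← pow_mul, mul_comm, ← hm]; exact pow_orderOf_eq_one n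
    have hnu' : ((n ^ u : Subgroup.normalizer (E : Set G)) : G) ^ 2 ^ e = 1 := by
      have := congrArg Subtype.val hnu
      simpa using this
    have hcent := two_elt_cent E S hES hS8 h2 _ (n ^ u).2 e hnu'
    have hmemker : n ^ u ∈ (E.normalizerMonoidHom).ker := by
      rw [hker, Subgroup.mem_subgroupOf, Subgroup.mem_centralizer_iff]
      intro x hx
      exact (hcent x hx).symm
    have hfu : (E.normalizerMonoidHom n) ^ u = 1 := by
      rw [← map_pow]; exact hmemker
    have hφu : φ ^ u = 1 := by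
      apply Subtype.ext
      rw [Subgroup.coe_pow, ← hn, hfu]; rfl
    have := orderOf_dvd_of_pow_eq_one hφu
    rw [hφ] at this
    exact (Nat.not_even_iff_odd.mpr hu) (even_iff_two_dvd.mpr this)
  have hr1 : Nat.card (E.normalizerMonoidHom).range ≠ 1 := by
    intro hr
    rw [hr, mul_one] at h1
    have heq := Subgroup.eq_of_le_of_card_ge hCN (le_of_eq h1.symm)
    have hkC : k ∈ Subgroup.centralizer (E : Set G) := by rw [heq]; exact hkE
    have := Subgroup.mem_centralizer_iff.mp hkC a haE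
    apply hkna
    rw [← this]; group
  obtain ⟨r, hr⟩ : ∃ r, r = Nat.card (E.normalizerMonoidHom).range := ⟨_, rfl⟩
  rw [← hr] at h1 hr24 hrodd hr1
  have hr3 : r = 3 := by
    have hle : r ≤ 24 := Nat.le_of_dvd (by norm_num) hr24
    have h24 : (Nat.factorial 4) = 24 := by decide
    interval_cases r <;> omega
  rw [← h1, hr3, mul_comm]

end Cfsg.Agent.Helper83
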