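import Mathlib

set_option autoImplicit false

namespace Cfsg.Agent.Helper83

theorem card_conj_union {G : Type*} [Group G] [Finite G] (M : Subgroup G) (P : G → Prop)
    (hP : ∀ g y : G, P g → P (y * g * y⁻¹))
    (hM : ∀ g ∈ M, P g → ∀ y : G, y * g * y⁻¹ ∈ M → y ∈ Subgroup.normalizer (M : Set G)) :
    Nat.card {g : G // P g ∧ ∃ y : G, y * g * y⁻¹ ∈ M} *
        Nat.card (Subgroup.normalizer (M : Set G)) =
      Nat.card G * Nat.card {g : G // g ∈ M ∧ P g} := by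
  classical
  rw [← Nat.card_prod, ← Nat.card_prod]
  have hch : ∀ a : {g : G // P g ∧ ∃ y : G, y * g * y⁻¹ ∈ M}, ∃ y : G, y * a.1 * y⁻¹ ∈ M :=
    fun a => a.2.2
  choose c hc using hch
  have hmemN : ∀ n ∈ Subgroup.normalizer (M : Set G), ∀ s ∈ M, n * s * n⁻¹ ∈ M :=
    fun n hn s hs => (Subgroup.mem_normalizer_iff.mp hn s).mp hs
  let back : G × {g : G // g ∈ M ∧ P g} → {g : G // P g ∧ ∃ y : G, y * g * y⁻¹ ∈ M} :=
    fun x => ⟨x.1⁻¹ * x.2.1 * x.1, by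
      have := hP x.2.1 x.1⁻¹ x.2.2.2
      simpa using this, x.1, by
      have : x.1 * (x.1⁻¹ * x.2.1 * x.1) * x.1⁻¹ = x.2.1 := by group
      rw [this]; exact x.2.2.1⟩
  have hback : ∀ x : G × {g : G // g ∈ M ∧ P g},
      x.1 * (c (back x))⁻¹ ∈ Subgroup.normalizer (M : Set G) := by
    intro x
    apply hM (c (back x) * (back x).1 * (c (back x))⁻¹) (hc _) (hP _ _ (back x).2.1)
    have : x.1 * (c (back x))⁻¹ * (c (back x) * (back x).1 * (c (back x))⁻¹) *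
        (x.1 * (c (back x))⁻¹)⁻¹ = x.2.1 := by
      show x.1 * (c (back x))⁻¹ * (c (back x) * (x.1⁻¹ * x.2.1 * x.1) * (c (back x))⁻¹) *
        (x.1 * (c (back x))⁻¹)⁻¹ = x.2.1
      group
    rw [this]; exact x.2.2.1
  let f : {g : G // P g ∧ ∃ y : G, y * g * y⁻¹ ∈ M} × Subgroup.normalizer (M : Set G) →
      G × {g : G // g ∈ M ∧ P g} :=
    fun x => (x.2.1 * c x.1, ⟨x.2.1 * (c x.1 * x.1.1 * (c x.1)⁻¹) * x.2.1⁻¹,
      hmemN _ x.2.2 _ (hc x.1), hP _ _ (hP _ _ x.1.2.1)⟩)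
  let g : G × {g : G // g ∈ M ∧ P g} →
      {g : G // P g ∧ ∃ y : G, y * g * y⁻¹ ∈ M} × Subgroup.normalizer (M : Set G) :=
    fun x => (back x, ⟨x.1 * (c (back x))⁻¹, hback x⟩)
  have h1 : ∀ x, g (f x) = x := by
    intro x
    have hb : back (f x) = x.1 := by
      apply Subtype.ext
      show (x.2.1 * c x.1)⁻¹ * (x.2.1 * (c x.1 * x.1.1 * (c x.1)⁻¹) * x.2.1⁻¹) *
        (x.2.1 * c x.1) = x.1.1
      group
    apply Prod.ext
    · exact hb
    · apply Subtype.ext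
      show x.2.1 * c x.1 * (c (back (f x)))⁻¹ = x.2.1
      rw [hb]; group
  have h2 : ∀ x, f (g x) = x := by
    intro x
    apply Prod.ext
    · show x.1 * (c (back x))⁻¹ * c (back x) = x.1
      group
    · apply Subtype.ext
      show x.1 * (c (back x))⁻¹ * (c (back x) * (x.1⁻¹ * x.2.1 * x.1) * (c (back x))⁻¹) *
        (x.1 * (c (back x))⁻¹)⁻¹ = x.2.1
      group
  exact Nat.card_congr ⟨f, g, h1, h2⟩

end Cfsg.Agent.Helper83
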