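import Mathlib
import Cfsg.Prelude.Def_Characters
import Cfsg.Agent.Helper75.Zeros2

set_option autoImplicit false
set_option maxHeartbeats 400000
set_option linter.unusedSectionVars false

namespace Cfsg.Agent.Helper83

open Cfsg Cfsg.Agent.Helper75

section Operators

variable {G : Type*} [Group G] {V : Type*} [AddCommGroup V] [Module ℂ V]
  [FiniteDimensional ℂ V] (ρ : Representation ℂ G V) (N : Subgroup G) [N.Normal] [Fintype N]

/-- The averaging operator over `N` on `End V`, for the conjugation action. -/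
noncomputable def avgN : Module.End ℂ (V →ₗ[ℂ] V) :=
  (Nat.card N : ℂ)⁻¹ • ∑ m : N, Representation.linHom ρ ρ (m : G)

theorem linHom_mul_sum (g : G) :
    Representation.linHom ρ ρ g * ∑ m : N, Representation.linHom ρ ρ (m : G) =
      (∑ m : N, Representation.linHom ρ ρ (m : G)) * Representation.linHom ρ ρ g := by
  rw [Finset.mul_sum, Finset.sum_mul]
  rw [← Equiv.sum_comp (MulAut.conjNormal g : N ≃* N).toEquiv
    (fun m : N => Representation.linHom ρ ρ (m : G) * Representation.linHom ρ ρ g)]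
  apply Finset.sum_congr rfl
  intro m _
  rw [← map_mul, ← map_mul]
  congr 1
  simp [MulAut.conjNormal_apply]

theorem linHom_mul_avgN (g : G) :
    Representation.linHom ρ ρ g * avgN ρ N = avgN ρ N * Representation.linHom ρ ρ g := by
  unfold avgN
  rw [mul_smul_comm, smul_mul_assoc, linHom_mul_sum]

theorem linHom_mem_mul_sum (m : N) :
    Representation.linHom ρ ρ (m : G) * ∑ m' : N, Representation.linHom ρ ρ (m' : G) =
      ∑ m' : N, Representation.linHom ρ ρ (m' : G) := by
  rw [Finset.mul_sum]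
  rw [← Equiv.sum_comp (Equiv.mulLeft m) (fun m' : N => Representation.linHom ρ ρ (m' : G))]
  apply Finset.sum_congr rfl
  intro m' _
  rw [← map_mul]
  rfl

theorem linHom_mem_mul_avgN (m : N) :
    Representation.linHom ρ ρ (m : G) * avgN ρ N = avgN ρ N := by
  unfold avgN
  rw [mul_smul_comm, linHom_mem_mul_sum]

theorem card_N_ne_zero : (Nat.card N : ℂ) ≠ 0 := by
  exact_mod_cast Nat.card_pos.ne'

theorem avgN_mul_avgN : avgN ρ N * avgN ρ N = avgN ρ N := by
  have h : avgN ρ N * avgN ρ N =
      ((Nat.card N : ℂ)⁻¹ • ∑ m : N, Representation.linHom ρ ρ (m : G)) * avgN ρ N := rfl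
  rw [h, smul_mul_assoc, Finset.sum_mul]
  simp only [linHom_mem_mul_avgN]
  rw [Finset.sum_const, Finset.card_univ, ← Nat.card_eq_fintype_card, ← Nat.cast_smul_eq_nsmul ℂ,
    smul_smul, inv_mul_cancel₀ (card_N_ne_zero N), one_smul]

/-- The trace formula for the coset sums. -/
theorem trace_avgN_mul (x : G) :
    LinearMap.trace ℂ (V →ₗ[ℂ] V) (avgN ρ N * Representation.linHom ρ ρ x) =
      (Nat.card N : ℂ)⁻¹ * ∑ m : N, ρ.character ((m : G) * x)⁻¹ * ρ.character ((m : G) * x) := by
  unfold avgN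
  rw [smul_mul_assoc, map_smul, smul_eq_mul, Finset.sum_mul, map_sum]
  congr 1
  apply Finset.sum_congr rfl
  intro m _
  rw [← map_mul]
  exact Representation.char_linHom ρ ρ ((m : G) * x)


/-- The `N`-invariant endomorphisms (the commutant of `ρ` restricted to `N`). -/
noncomputable def invN : Submodule ℂ (V →ₗ[ℂ] V) :=
  Representation.invariants ((Representation.linHom ρ ρ).comp N.subtype)

theorem mem_invN (f : V →ₗ[ℂ] V) :
    f ∈ invN ρ N ↔ ∀ m : N, Representation.linHom ρ ρ (m : G) f = f := Iff.rfl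

theorem isProj_avgN : LinearMap.IsProj (invN ρ N) (avgN ρ N) := by
  constructor
  · intro f m
    change Representation.linHom ρ ρ (m : G) (avgN ρ N f) = avgN ρ N f
    rw [← Module.End.mul_apply, linHom_mem_mul_avgN]
  · intro f hf
    rw [mem_invN] at hf
    unfold avgN
    rw [LinearMap.smul_apply, LinearMap.sum_apply]
    simp only [hf]
    rw [Finset.sum_const, Finset.card_univ, ← Nat.card_eq_fintype_card, ← Nat.cast_smul_eq_nsmul ℂ,
      smul_smul, inv_mul_cancel₀ (card_N_ne_zero N), one_smul]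

theorem trace_avgN :
    LinearMap.trace ℂ (V →ₗ[ℂ] V) (avgN ρ N) = (Module.finrank ℂ (invN ρ N) : ℂ) :=
  (isProj_avgN ρ N).trace

theorem one_mem_invN : (1 : V →ₗ[ℂ] V) ∈ invN ρ N := by
  rw [mem_invN]
  intro m
  rw [Representation.linHom_apply]
  ext v
  simp

theorem avgN_pow_formula (x : G) (k : ℕ) :
    (avgN ρ N * Representation.linHom ρ ρ x + (1 - avgN ρ N)) ^ k =
      avgN ρ N * Representation.linHom ρ ρ x ^ k + (1 - avgN ρ N) := by
  have hc := linHom_mul_avgN ρ N x
  have hP := avgN_mul_avgN ρ N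
  induction k with
  | zero => simp
  | succ k ih =>
    rw [pow_succ, ih, pow_succ]
    have h1 : (avgN ρ N * Representation.linHom ρ ρ x ^ k + (1 - avgN ρ N)) *
        (avgN ρ N * Representation.linHom ρ ρ x + (1 - avgN ρ N)) =
        avgN ρ N * (Representation.linHom ρ ρ x ^ k * avgN ρ N) * Representation.linHom ρ ρ x +
        avgN ρ N * (Representation.linHom ρ ρ x ^ k * (1 - avgN ρ N)) +
        ((1 - avgN ρ N) * avgN ρ N) * Representation.linHom ρ ρ x +
        (1 - avgN ρ N) * (1 - avgN ρ N) := by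
      simp only [mul_add, add_mul, mul_assoc]
      abel
    have hck : Representation.linHom ρ ρ x ^ k * avgN ρ N =
        avgN ρ N * Representation.linHom ρ ρ x ^ k := by
      have : Commute (Representation.linHom ρ ρ x) (avgN ρ N) := hc
      exact (this.pow_left k).eq
    have h2 : (1 - avgN ρ N) * avgN ρ N = 0 := by rw [sub_mul, one_mul, hP, sub_self]
    have h3 : (1 - avgN ρ N) * (1 - avgN ρ N) = 1 - avgN ρ N := by
      rw [mul_sub, mul_one, h2, sub_zero]
    have h4 : Representation.linHom ρ ρ x ^ k * (1 - avgN ρ N) =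
        (1 - avgN ρ N) * Representation.linHom ρ ρ x ^ k := by
      rw [mul_sub, sub_mul, hck, mul_one, one_mul]
    have h5 : avgN ρ N * (1 - avgN ρ N) = 0 := by rw [mul_sub, mul_one, hP, sub_self]
    rw [h1, hck, h4, ← mul_assoc (avgN ρ N) (1 - avgN ρ N), h5, zero_mul, add_zero, h2, zero_mul,
      add_zero, h3, ← mul_assoc (avgN ρ N) (avgN ρ N), hP, mul_assoc]

/-- The coset sum `trace (P ∘ c_x)` is an algebraic integer in the `|G|`-th cyclotomic field. -/
theorem trace_avgN_mul_isIntegral [Finite G] (x : G) :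
    IsIntegral ℤ (LinearMap.trace ℂ (V →ₗ[ℂ] V) (avgN ρ N * Representation.linHom ρ ρ x)) := by
  have hm : Nat.card G ≠ 0 := Nat.card_pos.ne'
  set Q := avgN ρ N * Representation.linHom ρ ρ x + (1 - avgN ρ N) with hQ
  have hQm : Q ^ Nat.card G = 1 := by
    rw [hQ, avgN_pow_formula, ← map_pow, pow_card_eq_one', map_one, mul_one]
    abel
  obtain ⟨s, hs1, -, hs3⟩ := exists_eigen_multiset Q (Nat.card G) hm hQm
  have h1 := hs3 1
  simp only [pow_one, Multiset.map_id'] at h1
  have h2 : LinearMap.trace ℂ (V →ₗ[ℂ] V) (avgN ρ N * Representation.linHom ρ ρ x) =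
      s.sum - (Module.finrank ℂ (V →ₗ[ℂ] V) : ℂ) + (Module.finrank ℂ (invN ρ N) : ℂ) := by
    rw [← h1, hQ, map_add, map_sub, trace_avgN, LinearMap.trace_one]
    ring
  rw [h2]
  have hsum : s.sum ∈ integralClosure ℤ ℂ := by
    refine multiset_sum_mem (S := integralClosure ℤ ℂ) _ (fun μ hμ => ?_)
    exact ⟨Polynomial.X ^ Nat.card G - 1, Polynomial.monic_X_pow_sub_C 1 hm, by simp [hs1 μ hμ]⟩
  exact add_mem (sub_mem hsum (natCast_mem _ _)) (natCast_mem _ _)

end Operators

end Cfsg.Agent.Helper83
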