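import Mathlib
import Cfsg.Prelude.Def_Characters
import Cfsg.Agent.Helper75.Zeros2
import Cfsg.Agent.Helper83.CosetZeros1

set_option autoImplicit false
set_option maxHeartbeats 400000
set_option linter.unusedSectionVars false

namespace Cfsg.Agent.Helper83

open Cfsg Cfsg.Agent.Helper75

section Galois

variable {G : Type*} [Group G] [Fintype G] {V : Type*} [AddCommGroup V] [Module ℂ V]
  [FiniteDimensional ℂ V] (ρ : Representation ℂ G V) (N : Subgroup G) [N.Normal] [Fintype N]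

/-- The Galois conjugates of the coset sums. -/
noncomputable def cosetT (u : (ZMod (Nat.card G))ˣ) (x : G) : ℂ :=
  (Nat.card N : ℂ)⁻¹ *
    ∑ m : N, ρ.character (upow ((m : G) * x)⁻¹ u) * ρ.character (upow ((m : G) * x) u)

/-- The same as a real number. -/
noncomputable def cosetR (u : (ZMod (Nat.card G))ˣ) (x : G) : ℝ :=
  (Nat.card N : ℝ)⁻¹ * ∑ m : N, ‖ρ.character (upow ((m : G) * x) u)‖ ^ 2

theorem upow_inv' (g : G) (u : (ZMod (Nat.card G))ˣ) : upow g⁻¹ u = (upow g u)⁻¹ := by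
  unfold upow
  rw [inv_pow]

theorem cosetT_eq_ofReal (u : (ZMod (Nat.card G))ˣ) (x : G) :
    cosetT ρ N u x = ((cosetR ρ N u x : ℝ) : ℂ) := by
  unfold cosetT cosetR
  push_cast
  congr 1
  apply Finset.sum_congr rfl
  intro m _
  rw [upow_inv', character_inv_eq_conj, Complex.conj_mul']

theorem cosetR_nonneg (u : (ZMod (Nat.card G))ˣ) (x : G) : 0 ≤ cosetR ρ N u x := by
  unfold cosetR
  positivity

theorem cosetT_one (x : G) :
    cosetT ρ N 1 x =
      LinearMap.trace ℂ (V →ₗ[ℂ] V) (avgN ρ N * Representation.linHom ρ ρ x) := by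
  rw [trace_avgN_mul]
  unfold cosetT
  simp only [upow_one]

theorem cosetT_galois (σ : ℂ ≃+* ℂ) :
    ∃ v : (ZMod (Nat.card G))ˣ, ∀ (u : (ZMod (Nat.card G))ˣ) (x : G),
      σ (cosetT ρ N u x) = cosetT ρ N (u * v) x := by
  obtain ⟨v, hv⟩ := exists_unit_of_ringEquiv (G := G) σ
  refine ⟨v, fun u x => ?_⟩
  unfold cosetT
  rw [map_mul, map_inv₀, map_natCast, map_sum]
  congr 1
  apply Finset.sum_congr rfl
  intro m _
  rw [map_mul, hv ρ, hv ρ, ← upow_mul, ← upow_mul]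

theorem cosetT_galois' (u : (ZMod (Nat.card G))ˣ) :
    ∃ σ : ℂ ≃+* ℂ, ∀ x : G, σ (cosetT ρ N 1 x) = cosetT ρ N u x := by
  obtain ⟨σ, hσ⟩ := exists_ringEquiv_of_unit (G := G) u
  refine ⟨σ, fun x => ?_⟩
  unfold cosetT
  rw [map_mul, map_inv₀, map_natCast, map_sum]
  congr 1
  apply Finset.sum_congr rfl
  intro m _
  rw [map_mul, hσ ρ, hσ ρ, upow_one, upow_one]

theorem cosetT_mem_cycField (u : (ZMod (Nat.card G))ˣ) (x : G) :
    cosetT ρ N u x ∈ cycField (Nat.card G) := by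
  unfold cosetT
  apply mul_mem
  · exact inv_mem (natCast_mem _ _)
  · apply sum_mem
    intro m _
    exact mul_mem (character_mem_cycField ρ _) (character_mem_cycField ρ _)

theorem cosetT_isIntegral (u : (ZMod (Nat.card G))ˣ) (x : G) :
    IsIntegral ℤ (cosetT ρ N u x) := by
  obtain ⟨σ, hσ⟩ := cosetT_galois' ρ N u
  rw [← hσ x, cosetT_one]
  exact (trace_avgN_mul_isIntegral ρ N x).map (σ : ℂ →+* ℂ).toIntAlgHom

theorem cosetT_ne_zero (u : (ZMod (Nat.card G))ˣ) (x : G) (hx : cosetT ρ N 1 x ≠ 0) :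
    cosetT ρ N u x ≠ 0 := by
  obtain ⟨σ, hσ⟩ := cosetT_galois' ρ N u
  rw [← hσ x]
  exact (map_ne_zero_iff σ σ.injective).mpr hx

theorem one_le_prod_cosetR [NeZero (Nat.card G)] (x : G) (hx : cosetT ρ N 1 x ≠ 0) :
    1 ≤ ∏ u : (ZMod (Nat.card G))ˣ, cosetR ρ N u x := by
  have hm : Nat.card G ≠ 0 := Nat.card_pos.ne'
  set P : ℂ := ∏ u : (ZMod (Nat.card G))ˣ, cosetT ρ N u x with hP
  have hmem : P ∈ cycField (Nat.card G) := prod_mem (fun u _ => cosetT_mem_cycField ρ N u x)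
  have hint : IsIntegral ℤ P := IsIntegral.prod _ (fun u _ => cosetT_isIntegral ρ N u x)
  have hfix : ∀ σ : ℂ ≃+* ℂ, σ P = P := by
    intro σ
    obtain ⟨v, hv⟩ := cosetT_galois ρ N σ
    rw [hP, map_prod]
    rw [← Equiv.prod_comp (Equiv.mulRight v)
      (fun u : (ZMod (Nat.card G))ˣ => cosetT ρ N u x)]
    apply Finset.prod_congr rfl
    intro u _
    rw [hv, Equiv.coe_mulRight]
  obtain ⟨m, hmP⟩ := int_of_fixed (Nat.card G) hm P hmem hint hfix
  have hP0 : P ≠ 0 := by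
    rw [hP, Finset.prod_ne_zero_iff]
    intro u _
    exact cosetT_ne_zero ρ N u x hx
  have hm0 : m ≠ 0 := by
    rintro rfl
    exact hP0 (by simpa using hmP)
  have h1 : (1 : ℝ) ≤ ‖P‖ := by
    rw [hmP, Complex.norm_intCast]
    exact_mod_cast Int.one_le_abs hm0
  have h2 : ‖P‖ = ∏ u : (ZMod (Nat.card G))ˣ, cosetR ρ N u x := by
    rw [hP, norm_prod]
    apply Finset.prod_congr rfl
    intro u _
    rw [cosetT_eq_ofReal, Complex.norm_real, Real.norm_of_nonneg (cosetR_nonneg ρ N u x)]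
  rw [← h2]
  exact h1

theorem sum_cosetR (hρ : ρ.IsIrreducible) (u : (ZMod (Nat.card G))ˣ) :
    ∑ x : G, cosetR ρ N u x = (Nat.card G : ℝ) := by
  unfold cosetR
  rw [← Finset.mul_sum, Finset.sum_comm]
  have h1 : ∀ m : N, ∑ x : G, ‖ρ.character (upow ((m : G) * x) u)‖ ^ 2 = (Nat.card G : ℝ) := by
    intro m
    calc ∑ x : G, ‖ρ.character (upow ((m : G) * x) u)‖ ^ 2
        = ∑ g : G, ‖ρ.character (upow g u)‖ ^ 2 :=
          Fintype.sum_equiv (Equiv.mulLeft (m : G)) _ _ (fun x => rfl)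
      _ = ∑ g : G, ‖ρ.character g‖ ^ 2 :=
          Fintype.sum_equiv (upowEquiv u) _ _ (fun x => rfl)
      _ = (Nat.card G : ℝ) := sum_normSq_character ρ hρ
  simp only [h1]
  rw [Finset.sum_const, Finset.card_univ, ← Nat.card_eq_fintype_card, nsmul_eq_mul, ← mul_assoc,
    inv_mul_cancel₀, one_mul]
  exact_mod_cast Nat.card_pos.ne'

theorem cosetT_of_mem (u : (ZMod (Nat.card G))ˣ) {x : G} (hx : x ∈ N) :
    cosetT ρ N u x = (Module.finrank ℂ (invN ρ N) : ℂ) := by
  have h1 : cosetT ρ N 1 x = (Module.finrank ℂ (invN ρ N) : ℂ) := by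
    have h2 : cosetT ρ N 1 x = cosetT ρ N 1 1 := by
      unfold cosetT
      congr 1
      rw [← Equiv.sum_comp (Equiv.mulRight (⟨x, hx⟩ : N))
        (fun m : N => ρ.character (upow ((m : G) * 1)⁻¹ 1) * ρ.character (upow ((m : G) * 1) 1))]
      apply Finset.sum_congr rfl
      intro m _
      simp
    rw [h2, cosetT_one, map_one, mul_one, trace_avgN]
  obtain ⟨σ, hσ⟩ := cosetT_galois' ρ N u
  rw [← hσ x, h1, map_natCast]

theorem cosetR_of_mem (u : (ZMod (Nat.card G))ˣ) {x : G} (hx : x ∈ N) :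
    cosetR ρ N u x = (Module.finrank ℂ (invN ρ N) : ℝ) := by
  have := cosetT_of_mem ρ N u hx
  rw [cosetT_eq_ofReal] at this
  exact_mod_cast this

/-- Burnside's argument on cosets: if no coset sum vanishes, the commutant of `ρ` restricted to `N`
is one-dimensional. -/
theorem finrank_invN_le_one (hρ : ρ.IsIrreducible) (h : ∀ x : G, cosetT ρ N 1 x ≠ 0) :
    Module.finrank ℂ (invN ρ N) ≤ 1 := by
  classical
  have hm : Nat.card G ≠ 0 := Nat.card_pos.ne'
  have : NeZero (Nat.card G) := ⟨hm⟩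
  set φ : ℝ := (Fintype.card (ZMod (Nat.card G))ˣ : ℝ) with hφdef
  have hφ : 0 < φ := by
    rw [hφdef]
    exact_mod_cast Fintype.card_pos
  set d : ℝ := (Module.finrank ℂ (invN ρ N) : ℝ) with hd
  have key1 : ∀ x : G, φ ≤ ∑ u : (ZMod (Nat.card G))ˣ, cosetR ρ N u x := by
    intro x
    have := card_le_sum_of_one_le_prod (Finset.univ : Finset (ZMod (Nat.card G))ˣ)
      (fun u => cosetR ρ N u x) (fun u _ => cosetR_nonneg ρ N u x) (one_le_prod_cosetR ρ N x (h x))
    simpa only [Finset.card_univ] using this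
  have key2 : ∀ x ∈ N, ∑ u : (ZMod (Nat.card G))ˣ, cosetR ρ N u x = φ * d := by
    intro x hx
    simp only [cosetR_of_mem ρ N _ hx]
    rw [Finset.sum_const, Finset.card_univ, nsmul_eq_mul]
  have hsum1 : ∑ x : G, ∑ u : (ZMod (Nat.card G))ˣ, cosetR ρ N u x = φ * (Nat.card G : ℝ) := by
    rw [Finset.sum_comm]
    simp only [sum_cosetR ρ N hρ]
    rw [Finset.sum_const, Finset.card_univ, nsmul_eq_mul]
  have hsplit : ∑ x : G, ∑ u : (ZMod (Nat.card G))ˣ, cosetR ρ N u x =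
      ∑ x ∈ Finset.univ.filter (fun g : G => g ∈ N), ∑ u : (ZMod (Nat.card G))ˣ, cosetR ρ N u x +
      ∑ x ∈ Finset.univ.filter (fun g : G => g ∉ N), ∑ u : (ZMod (Nat.card G))ˣ, cosetR ρ N u x :=
    (Finset.sum_filter_add_sum_filter_not Finset.univ (fun g : G => g ∈ N) _).symm
  have hA : ∑ x ∈ Finset.univ.filter (fun g : G => g ∈ N),
      ∑ u : (ZMod (Nat.card G))ˣ, cosetR ρ N u x =
      ((Finset.univ.filter (fun g : G => g ∈ N)).card : ℝ) * (φ * d) := by
    rw [Finset.sum_congr rfl (fun x hx => key2 x (Finset.mem_filter.mp hx).2), Finset.sum_const,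
      nsmul_eq_mul]
  have hB : ((Finset.univ.filter (fun g : G => g ∉ N)).card : ℝ) * φ ≤
      ∑ x ∈ Finset.univ.filter (fun g : G => g ∉ N),
        ∑ u : (ZMod (Nat.card G))ˣ, cosetR ρ N u x := by
    calc ((Finset.univ.filter (fun g : G => g ∉ N)).card : ℝ) * φ
        = ∑ x ∈ Finset.univ.filter (fun g : G => g ∉ N), φ := by
          rw [Finset.sum_const, nsmul_eq_mul]
      _ ≤ _ := Finset.sum_le_sum (fun x _ => key1 x)
  have hc : (Finset.univ.filter (fun g : G => g ∈ N)).card +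
      (Finset.univ.filter (fun g : G => g ∉ N)).card = Nat.card G := by
    rw [Finset.card_filter_add_card_filter_not, Finset.card_univ, Nat.card_eq_fintype_card]
  have hc' := congrArg (Nat.cast (R := ℝ)) hc
  push_cast at hc'
  have hcN : (0 : ℝ) < ((Finset.univ.filter (fun g : G => g ∈ N)).card : ℝ) := by
    have : (Finset.univ.filter (fun g : G => g ∈ N)).Nonempty :=
      ⟨1, Finset.mem_filter.mpr ⟨Finset.mem_univ _, N.one_mem⟩⟩
    exact_mod_cast this.card_pos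
  set cN : ℝ := ((Finset.univ.filter (fun g : G => g ∈ N)).card : ℝ) with hcNdef
  set cN' : ℝ := ((Finset.univ.filter (fun g : G => g ∉ N)).card : ℝ) with hcN'def
  have hfinal : cN * φ * d ≤ cN * φ * 1 := by
    have e1 : φ * (Nat.card G : ℝ) = cN * (φ * d) + ∑ x ∈ Finset.univ.filter (fun g : G => g ∉ N),
        ∑ u : (ZMod (Nat.card G))ˣ, cosetR ρ N u x := by
      rw [← hsum1, hsplit, hA]
    nlinarith
  have hd1 : d ≤ 1 := le_of_mul_le_mul_left hfinal (mul_pos hcN hφ)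
  rw [hd] at hd1
  exact_mod_cast hd1

end Galois

end Cfsg.Agent.Helper83
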