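import Mathlib
import Cfsg.Prelude.Def_Characters
import Cfsg.Agent.Helper75.Zeros2
import Cfsg.Agent.Helper83.CosetZeros2

set_option autoImplicit false
set_option maxHeartbeats 400000
set_option linter.unusedSectionVars false

namespace Cfsg.Agent.Helper83

open Cfsg Cfsg.Agent.Helper75

/-- A representation of a finite group whose commutant consists of scalars is irreducible. -/
theorem irreducible_of_scalar_commutant {H : Type*} [Group H] [Finite H] {V : Type*}
    [AddCommGroup V] [Module ℂ V] [Nontrivial V] (θ : Representation ℂ H V)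
    (hsc : ∀ f : V →ₗ[ℂ] V, (∀ h : H, θ h ∘ₗ f = f ∘ₗ θ h) → ∃ c : ℂ, f = c • LinearMap.id) :
    θ.IsIrreducible := by
  have hne : NeZero (Nat.card H : ℂ) := ⟨by exact_mod_cast Nat.card_pos.ne'⟩
  have hss : Representation.IsSemisimpleRepresentation θ := inferInstance
  obtain ⟨v₀, hv₀⟩ := exists_ne (0 : V)
  have hnt : Nontrivial (Subrepresentation θ) := by
    refine ⟨⊥, ⊤, fun e => ?_⟩
    have h1 : v₀ ∈ (⊤ : Subrepresentation θ).toSubmodule := Submodule.mem_top
    rw [← e] at h1
    exact hv₀ ((Submodule.mem_bot ℂ).mp h1)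
  refine { toNontrivial := hnt, eq_bot_or_eq_top := fun W => ?_ }
  obtain ⟨W', hW'⟩ := hss.exists_isCompl W
  have hc : IsCompl W.toSubmodule W'.toSubmodule := by
    constructor
    · rw [disjoint_iff, ← Subrepresentation.toSubmodule_inf, hW'.inf_eq_bot]
      rfl
    · rw [codisjoint_iff, ← Subrepresentation.toSubmodule_sup, hW'.sup_eq_top]
      rfl
  set π := W.toSubmodule.projection W'.toSubmodule hc with hπ
  have hπW : ∀ w ∈ W.toSubmodule, π w = w := fun w hw =>
    Submodule.projection_apply_of_mem_left hc hw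
  have hπW' : ∀ w ∈ W'.toSubmodule, π w = 0 := fun w hw =>
    (Submodule.projection_apply_eq_zero_iff hc).mpr hw
  have hπmem : ∀ v, π v ∈ W.toSubmodule := fun v => Submodule.projection_apply_mem hc v
  have hdec : ∀ v : V, ∃ w ∈ W.toSubmodule, ∃ w' ∈ W'.toSubmodule, w + w' = v := by
    intro v
    have : v ∈ W.toSubmodule ⊔ W'.toSubmodule := by
      rw [hc.sup_eq_top]; exact Submodule.mem_top
    exact Submodule.mem_sup.mp this
  have hcomm : ∀ h : H, θ h ∘ₗ π = π ∘ₗ θ h := by
    intro h
    ext v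
    obtain ⟨w, hw, w', hw', rfl⟩ := hdec v
    simp only [LinearMap.comp_apply, map_add]
    rw [hπW w hw, hπW' w' hw', hπW _ (W.apply_mem_toSubmodule h hw),
      hπW' _ (W'.apply_mem_toSubmodule h hw'), map_zero]
  obtain ⟨c, hcπ⟩ := hsc π hcomm
  have hidem : π (π v₀) = π v₀ := hπW _ (hπmem v₀)
  rw [hcπ] at hidem
  simp only [LinearMap.smul_apply, LinearMap.id_apply, smul_smul] at hidem
  have hc2 : (c * c - c) • v₀ = 0 := by rw [sub_smul, hidem, sub_self]
  rcases smul_eq_zero.mp hc2 with h0 | h0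
  · have hc01 : c * (c - 1) = 0 := by linear_combination h0
    rcases mul_eq_zero.mp hc01 with h1 | h1
    · left
      apply Subrepresentation.toSubmodule_injective
      change W.toSubmodule = ⊥
      rw [eq_bot_iff]
      intro w hw
      have := hπW w hw
      rw [hcπ, h1] at this
      simp only [zero_smul, LinearMap.zero_apply] at this
      rw [Submodule.mem_bot]
      exact this.symm
    · right
      apply Subrepresentation.toSubmodule_injective
      change W.toSubmodule = ⊤
      rw [eq_top_iff]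
      intro v _
      have := hπmem v
      rw [hcπ, sub_eq_zero.mp h1] at this
      simpa using this
  · exact absurd h0 hv₀

section Commutant

variable {G : Type*} [Group G] {V : Type*} [AddCommGroup V] [Module ℂ V]
  [FiniteDimensional ℂ V] (ρ : Representation ℂ G V) (N : Subgroup G) [N.Normal] [Fintype N]

theorem one_ne_zero_invN [Nontrivial V] :
    (⟨1, one_mem_invN ρ N⟩ : invN ρ N) ≠ 0 := by
  intro e
  have h1 : (1 : V →ₗ[ℂ] V) = 0 := congrArg Subtype.val e
  obtain ⟨v₀, hv₀⟩ := exists_ne (0 : V)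
  have := congrArg (fun f : V →ₗ[ℂ] V => f v₀) h1
  exact hv₀ this

theorem scalar_of_finrank_invN [Nontrivial V] (hd : Module.finrank ℂ (invN ρ N) = 1)
    {f : V →ₗ[ℂ] V} (hf : f ∈ invN ρ N) : ∃ c : ℂ, f = c • (1 : V →ₗ[ℂ] V) := by
  obtain ⟨c, hc⟩ := (finrank_eq_one_iff_of_nonzero' _ (one_ne_zero_invN ρ N)).mp hd ⟨f, hf⟩
  exact ⟨c, (congrArg Subtype.val hc).symm⟩

theorem mem_invN_of_commute {f : V →ₗ[ℂ] V} (hf : ∀ m : N, ρ (m : G) ∘ₗ f = f ∘ₗ ρ (m : G)) :
    f ∈ invN ρ N := by
  rw [mem_invN]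
  intro m
  rw [Representation.linHom_apply, ← LinearMap.comp_assoc, hf m, LinearMap.comp_assoc]
  have : ρ (m : G) ∘ₗ ρ (m : G)⁻¹ = LinearMap.id := by
    change ρ (m : G) * ρ (m : G)⁻¹ = 1
    rw [← map_mul, mul_inv_cancel, map_one]
  rw [this, LinearMap.comp_id]

/-- If the commutant of `ρ` restricted to `N` is one-dimensional, all coset sums are `1`. -/
theorem trace_eq_one_of_finrank [Nontrivial V] (hd : Module.finrank ℂ (invN ρ N) = 1) (x : G) :
    LinearMap.trace ℂ (V →ₗ[ℂ] V) (avgN ρ N * Representation.linHom ρ ρ x) = 1 := by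
  have hproj : LinearMap.IsProj (Submodule.span ℂ {(1 : V →ₗ[ℂ] V)})
      (avgN ρ N * Representation.linHom ρ ρ x) := by
    constructor
    · intro f
      have h1 : (avgN ρ N * Representation.linHom ρ ρ x) f ∈ invN ρ N :=
        (isProj_avgN ρ N).map_mem _
      obtain ⟨c, hc⟩ := scalar_of_finrank_invN ρ N hd h1
      rw [hc]
      exact Submodule.smul_mem _ _ (Submodule.mem_span_singleton_self _)
    · intro f hf
      obtain ⟨c, rfl⟩ := Submodule.mem_span_singleton.mp hf
      rw [map_smul]
      congr 1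
      rw [Module.End.mul_apply]
      have h1 : Representation.linHom ρ ρ x (1 : V →ₗ[ℂ] V) = 1 := by
        rw [Representation.linHom_apply]
        ext v
        simp
      rw [h1]
      exact (isProj_avgN ρ N).map_id _ (one_mem_invN ρ N)
  rw [hproj.trace]
  have h1 : (1 : V →ₗ[ℂ] V) ≠ 0 := fun e => one_ne_zero_invN ρ N (Subtype.ext e)
  rw [finrank_span_singleton h1, Nat.cast_one]

end Commutant

end Cfsg.Agent.Helper83
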