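-- helper83: piece HM of CALL BG16 (helper25), double: `M_σ` and `M_F` are Hall subgroups of `M`.
import Cfsg.Agent.Helper22.BG10b
import Cfsg.Agent.Helper23.FittingHall
import Cfsg.Agent.S1403

set_option autoImplicit false

namespace Cfsg.Agent.Helper83

open Cfsg Subgroup

universe u

variable {G : Type u} [Group G] [Finite G]

/-- HM. -/
theorem bg16_hall_facts (hG : IsMinSimpleOddOrder G) (M : Subgroup G) (hM : IsCoatom M) :
    (Nat.card (sigmaCore M)).Coprime ((sigmaCore M).relIndex M) ∧
      (Nat.card (fittingHallOf M)).Coprime ((fittingHallOf M).relIndex M) := by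
  constructor
  · obtain ⟨⟨-, h1, h2⟩, -, -⟩ := Cfsg.Agent.Helper22.bg10_sigma_hall hG
      (fun K hK h1 h2 => Cfsg.Agent.S1403.result hG K hK h1 h2) hM
    apply Nat.coprime_of_dvd
    intro p hp hd1 hd2
    exact h2 p hp (h1 p hp hd1) hd2
  · have h := Cfsg.Agent.Helper23.fittingHall_coprime ↥M
    have e1 : Nat.card (fittingHallOf M) = Nat.card (fittingHall ↥M) := by
      unfold fittingHallOf
      exact Subgroup.card_map_of_injective M.subtype_injective
    have e2 : (fittingHallOf M).relIndex M = (fittingHall ↥M).index := by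
      unfold fittingHallOf Subgroup.relIndex Subgroup.subgroupOf
      rw [Subgroup.comap_map_eq_self_of_injective M.subtype_injective]
    rw [e1, e2]
    exact h

end Cfsg.Agent.Helper83
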