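/-
CALL BG36 (helper2, row S1436), piece P3 (double, helper83): `bg36_p_kappa`, statement verbatim
from tools/calls/BG36Skel.lean.txt.
-/
import Mathlib
import Cfsg.Agent.S1432
import Cfsg.Agent.Helper54.BG14T4

set_option autoImplicit false

namespace Cfsg.Agent.Helper83

open Cfsg Subgroup

universe u

variable {G : Type u} [Group G] [Finite G]

/-- PIECE P3: S1432 in `N` for `(g z g⁻¹, g a₁ g⁻¹)`. -/
theorem bg36_p_kappa (hG : IsMinSimpleOddOrder G) {N : Subgroup G} (hN : IsCoatom N) {p : ℕ}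
    (hp : p.Prime) (hpσN : p ∉ sigma N) {A : Subgroup G} (hAel : IsElementaryAbelian p A)
    {z g a₁ : G} (hz1 : z ≠ 1) (hgσ : g * z * g⁻¹ ∈ sigmaCore N)
    (hgC : centralizer ({g * z * g⁻¹} : Set G) ≤ N)
    (hnle : ¬ A.map (MulAut.conj g).toMonoidHom ≤ N)
    (ha₁ : a₁ ∈ A) (ha₁1 : a₁ ≠ 1) (hza₁ : z * a₁ = a₁ * z) :
    p ∈ kappa N ∧ ¬ ∀ a ∈ A, z * a = a * z := by
  obtain ⟨hAc, hAp⟩ := hAel
  have hAcomm : ∀ a ∈ A, ∀ b ∈ A, a * b = b * a := fun a ha b hb =>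
    congrArg Subtype.val (hAc.is_comm.comm ⟨a, ha⟩ ⟨b, hb⟩)
  have hx1 : g * z * g⁻¹ ≠ 1 := by
    intro h
    apply hz1
    have e : z = g⁻¹ * (g * z * g⁻¹) * g := by group
    rw [e, h]
    group
  have hx'1 : g * a₁ * g⁻¹ ≠ 1 := by
    intro h
    apply ha₁1
    have e : a₁ = g⁻¹ * (g * a₁ * g⁻¹) * g := by group
    rw [e, h]
    group
  have hcomm : (g * z * g⁻¹) * (g * a₁ * g⁻¹) = (g * a₁ * g⁻¹) * (g * z * g⁻¹) := by
    have e1 : (g * z * g⁻¹) * (g * a₁ * g⁻¹) = g * (z * a₁) * g⁻¹ := by group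
    have e2 : (g * a₁ * g⁻¹) * (g * z * g⁻¹) = g * (a₁ * z) * g⁻¹ := by group
    rw [e1, e2, hza₁]
  have hx'C : g * a₁ * g⁻¹ ∈ centralizer ({g * z * g⁻¹} : Set G) :=
    Cfsg.Agent.Helper54.bg14t_mem_cent.mpr hcomm
  have hx'N : g * a₁ * g⁻¹ ∈ N ⊓ centralizer ({g * z * g⁻¹} : Set G) := ⟨hgC hx'C, hx'C⟩
  have hord : orderOf (g * a₁ * g⁻¹) = p := by
    have : Fact p.Prime := ⟨hp⟩
    apply orderOf_eq_prime _ hx'1
    have e : (g * a₁ * g⁻¹) ^ p = g * a₁ ^ p * g⁻¹ := conj_pow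
    rw [e, hAp a₁ ha₁]
    group
  have hσ : ∀ p' : ℕ, p'.Prime → p' ∣ orderOf (g * a₁ * g⁻¹) → p' ∉ sigma N := by
    intro p' hp' hpd
    rw [hord] at hpd
    rw [(Nat.prime_dvd_prime_iff_eq hp' hp).mp hpd]
    exact hpσN
  refine ⟨?_, ?_⟩
  · rcases Cfsg.Agent.S1432.result hG N hN (g * z * g⁻¹) hgσ hx1 (g * a₁ * g⁻¹) hx'N hx'1 hσ
      with h | h
    · exact h.1 p hp (by rw [hord])
    · exfalso
      obtain ⟨-, -, hCN, -⟩ := h
      apply hnle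
      intro c hc
      rw [Cfsg.Agent.Helper54.bg14t_mem_map_conj] at hc
      apply hCN
      rw [Cfsg.Agent.Helper54.bg14t_mem_cent_conj, Cfsg.Agent.Helper54.bg14t_mem_cent]
      exact hAcomm a₁ ha₁ _ hc
  · intro hall
    apply hnle
    intro c hc
    rw [Cfsg.Agent.Helper54.bg14t_mem_map_conj] at hc
    apply hgC
    rw [Cfsg.Agent.Helper54.bg14t_mem_cent_conj, Cfsg.Agent.Helper54.bg14t_mem_cent]
    exact hall _ hc

end Cfsg.Agent.Helper83
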