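/-
CALL BG36 (helper2, row S1436), piece T5 (double, helper83): `bg36_step2`, statement verbatim from
tools/calls/BG36Skel.lean.txt.
-/
import Mathlib
import Cfsg.Agent.S1355
import Cfsg.Agent.Helper22.Generation
import Cfsg.Agent.Helper23.Trans
import Cfsg.Agent.Helper23.Uniq

set_option autoImplicit false

namespace Cfsg.Agent.Helper83

open Cfsg Subgroup

universe u

variable {G : Type u} [Group G] [Finite G]

/-- PIECE T5 (step 2): `q ∉ τ₂(M)` when all elements of order `q` of `M` act fixed-point-freely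
on `M_σ`. -/
theorem bg36_step2 (hG : IsMinSimpleOddOrder G) {M : Subgroup G} (hM : IsCoatom M) {q : ℕ}
    (hqσ : q ∉ sigma M)
    (hreg : ∀ z ∈ M, orderOf z = q → sigmaCore M ⊓ centralizer ({z} : Set G) = ⊥) :
    q ∉ tau2 M := by
  rintro ⟨hq, -, -, hr1⟩
  haveI : Fact q.Prime := ⟨hq⟩
  unfold PRankLE at hr1
  push Not at hr1
  obtain ⟨A, hAc, hAq, hAcard⟩ := hr1
  rw [pow_one] at hAcard
  have hA1 : 1 < Nat.card A := lt_trans hq.one_lt hAcard
  obtain ⟨a, ha1⟩ : ∃ a : ↥A, a ≠ 1 := by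
    haveI : Nontrivial ↥A := Finite.one_lt_card_iff_nontrivial.mp hA1
    exact exists_ne 1
  have hord : ∀ c : ↥M, c ∈ A → c ≠ 1 → orderOf c = q := fun c hc hc1 =>
    orderOf_eq_prime (hAq c hc) hc1
  have ha1' : (a : ↥M) ≠ 1 := fun h => ha1 (Subtype.ext h)
  obtain ⟨b, hbA, hbz⟩ : ∃ b : ↥M, b ∈ A ∧ b ∉ Subgroup.zpowers (a : ↥M) := by
    by_contra hcon
    push Not at hcon
    have hle : A ≤ Subgroup.zpowers (a : ↥M) := fun b hb => hcon b hb
    have h1 : Nat.card A ≤ Nat.card (Subgroup.zpowers (a : ↥M)) := Subgroup.card_le_of_le hle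
    rw [Nat.card_zpowers, hord (a : ↥M) a.2 ha1'] at h1
    omega
  have hab : (a : ↥M) * b = b * (a : ↥M) :=
    congrArg Subtype.val (hAc.is_comm.comm a ⟨b, hbA⟩)
  -- the elements in `G`
  have hab' : ((a : ↥M) : G) * (b : G) = (b : G) * ((a : ↥M) : G) := by
    have h1 := congrArg (Subtype.val : ↥M → G) hab
    simpa using h1
  have ha' : ((a : ↥M) : G) ^ q = 1 := by
    have h1 := congrArg (Subtype.val : ↥M → G) (hAq (a : ↥M) a.2)
    simpa using h1
  have hb' : (b : G) ^ q = 1 := by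
    have h1 := congrArg (Subtype.val : ↥M → G) (hAq b hbA)
    simpa using h1
  have hσM : sigmaCore M ≤ M := Cfsg.Agent.Helper23.piCoreOf_le (sigma M) M
  have hn : M ≤ normalizer (sigmaCore M : Set G) :=
    Cfsg.Agent.Helper23.le_normalizer_piCoreOf (sigma M) M
  have hsolM : Group.IsSolvable ↥M := Cfsg.Agent.Helper23.uq_isSolvable hG hM.1
  have hsol : Group.IsSolvable ↥(sigmaCore M) :=
    Group.isSolvable_of_isSolvable_injective (Subgroup.inclusion_injective hσM)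
  have hqX : ¬ q ∣ Nat.card ↥(sigmaCore M) := fun h =>
    hqσ (Cfsg.Agent.Helper23.mem_of_dvd_card_piCoreOf (sigma M) M hq h)
  have hSa : sigmaCore M ⊓ centralizer {((a : ↥M) : G)} ≤ ⊥ := by
    have h1 : orderOf ((a : ↥M) : G) = q := by
      rw [Subgroup.orderOf_coe]
      exact hord (a : ↥M) a.2 ha1'
    exact (hreg _ (a : ↥M).2 h1).le
  have hSk : ∀ k : ℕ, sigmaCore M ⊓ centralizer {((a : ↥M) : G) ^ k * (b : G)} ≤ ⊥ := by
    intro k
    have hcA : (a : ↥M) ^ k * b ∈ A := A.mul_mem (A.pow_mem a.2 k) hbA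
    have hc1 : (a : ↥M) ^ k * b ≠ 1 := by
      intro h
      apply hbz
      have h2 : b = ((a : ↥M) ^ k)⁻¹ := eq_inv_of_mul_eq_one_right h
      rw [h2]
      exact Subgroup.inv_mem _ (Subgroup.pow_mem _ (Subgroup.mem_zpowers _) k)
    have h1 : orderOf (((a : ↥M) ^ k * b : ↥M) : G) = q := by
      rw [Subgroup.orderOf_coe]
      exact hord _ hcA hc1
    have h3 : (((a : ↥M) ^ k * b : ↥M) : G) = ((a : ↥M) : G) ^ k * (b : G) := by
      simp
    rw [← h3]
    exact (hreg _ ((a : ↥M) ^ k * b : ↥M).2 h1).le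
  have hX : sigmaCore M ≤ ⊥ :=
    Cfsg.Agent.Helper22.le_of_centralizer_le_of_commuting q ((a : ↥M) : G) (b : G) hab' ha' hb' ⊥
      (Nat.card ↥(sigmaCore M)) (sigmaCore M) le_rfl hsol hqX (hn (a : ↥M).2) (hn b.2) hSa hSk
  obtain ⟨hF1, hF2, -⟩ := Cfsg.Agent.S1355.result hG M hM
  exact hF1 (le_bot_iff.mp (hF2.trans hX))

end Cfsg.Agent.Helper83
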