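/-
CALL BG36 (helper2, row S1436), piece T7 (double, helper83): `bg36_exists_z`, statement verbatim
from tools/calls/BG36Skel.lean.txt.
-/
import Mathlib
import Cfsg.Agent.Helper23.Trans

set_option autoImplicit false

namespace Cfsg.Agent.Helper83

open Cfsg Subgroup

universe u

variable {G : Type u} [Group G] [Finite G]

/-- PIECE T7: Cauchy in the complement `E` (`|M| = |E| |M_σ|`, `q ∤ |M_σ|`). -/
theorem bg36_exists_z (hG : IsMinSimpleOddOrder G) {M E : Subgroup G} (hM : IsCoatom M)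
    (hE : IsComplIn E (sigmaCore M) M) {q : ℕ} (hq : q.Prime) (hqM : q ∣ Nat.card M)
    (hqσ : q ∉ sigma M) : ∃ z ∈ E, orderOf z = q := by
  have hcard : Nat.card M = Nat.card E * Nat.card (sigmaCore M) :=
    Cfsg.Agent.Helper23.card_of_isComplIn E (sigmaCore M) M hE
  have hqX : ¬ q ∣ Nat.card ↥(sigmaCore M) := fun h =>
    hqσ (Cfsg.Agent.Helper23.mem_of_dvd_card_piCoreOf (sigma M) M hq h)
  have hqE : q ∣ Nat.card E := by
    rw [hcard] at hqM
    exact (hq.dvd_mul.mp hqM).resolve_right hqX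
  have : Fact q.Prime := ⟨hq⟩
  obtain ⟨z, hz⟩ := exists_prime_orderOf_dvd_card' q hqE
  exact ⟨(z : G), z.2, by rw [Subgroup.orderOf_coe]; exact hz⟩

end Cfsg.Agent.Helper83
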