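-- helper83: piece FPFA (double) of CALL S1435 (helper23).
import Cfsg.Agent.Helper23.BG65Defs
import Cfsg.Agent.Helper23.BG139D1

set_option autoImplicit false

namespace Cfsg.Agent.Helper83

open Cfsg Subgroup

universe u

variable {G : Type u} [Group G] [Finite G] {M K U Mstar H : Subgroup G}

/-- FPFA. -/
theorem bg65_fpf_A (h : Helper23.BG65H M K U Mstar H) {r : ℕ} (hr : r.Prime)
    (hrK : r ≠ Nat.card K)
    (hrσ : r ∉ sigma H) {A : Subgroup G} (hAH : A ≤ H) (hA : Nat.card A = r ^ 2) {k : G}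
    (hk : k ∈ K) (hk1 : k ≠ 1) (hkA : k ∈ normalizer (A : Set G))
    (hfix : ∀ a ∈ A, k * a = a * k → a = 1) : sigmaCore H ≤ centralizer (A : Set G) := by
  have hHn : H ≤ normalizer (sigmaCore H : Set G) := Helper23.le_normalizer_piCoreOf (sigma H) H
  have hpT : ¬ Nat.card K ∣ Nat.card (sigmaCore H) :=
    fun hd => h.hpσ (Helper23.mem_of_dvd_card_piCoreOf (sigma H) H h.hKp hd)
  have hrT : ¬ r ∣ Nat.card (sigmaCore H) :=
    fun hd => hrσ (Helper23.mem_of_dvd_card_piCoreOf (sigma H) H hr hd)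
  have hpS : ¬ Nat.card K ∣ Nat.card A := by
    rw [hA]
    intro hd
    have h1 := h.hKp.dvd_of_dvd_pow hd
    exact hrK ((Nat.prime_dvd_prime_iff_eq h.hKp hr).mp h1).symm
  have hcop : (Nat.card (sigmaCore H)).Coprime (Nat.card A) := by
    rw [hA]
    apply Nat.Coprime.pow_right
    exact (Nat.Coprime.symm ((Nat.Prime.coprime_iff_not_dvd hr).mpr hrT))
  have hxp : k ^ Nat.card K = 1 := by
    have h1 : (⟨k, hk⟩ : ↥K) ^ Nat.card K = 1 := pow_card_eq_one'
    exact congrArg Subtype.val h1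
  exact Helper23.bg139_frob_cent h.hG.1 h.hKp h.hnil (hAH.trans hHn) (hHn (h.hKH hk)) hkA hxp
    hpT hpS hcop (h.hfpf k hk hk1) hfix

end Cfsg.Agent.Helper83
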