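/-
CALL S1376 / C9 (helper1), piece FC (double, helper83): `c9_frobc`, statement verbatim from
tools/calls/C9Skel.lean.txt.  Pure (Mathlib + Prelude).
-/
import Mathlib
import Cfsg.Prelude.Def_OddOrderLocal

set_option autoImplicit false

namespace Cfsg.Agent.Helper83

open Cfsg Subgroup

universe u

variable {G : Type u} [Group G] [Finite G]

/-- FC (pure): a complement acting regularly on the normal factor is a Frobenius complement. -/
theorem c9_frobc {M H E : Subgroup G} (hE : IsComplIn E H M) (hHn : M ≤ normalizer (H : Set G))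
    (hE1 : E ≠ ⊥) (hH1 : H ≠ ⊥)
    (hreg : ∀ e ∈ E, e ≠ 1 → ∀ y ∈ H, e * y = y * e → y = 1) :
    IsFrobeniusComplement (E.subgroupOf M) := by
  obtain ⟨hEM, hHM, hEH, hfac⟩ := hE
  refine ⟨?_, ?_, ?_⟩
  · intro hbot
    apply hE1
    rw [eq_bot_iff]
    intro e he
    have h1 : (⟨e, hEM he⟩ : ↥M) ∈ E.subgroupOf M := Subgroup.mem_subgroupOf.mpr he
    rw [hbot, Subgroup.mem_bot] at h1
    rw [Subgroup.mem_bot]
    exact congrArg Subtype.val h1
  · intro htop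
    apply hH1
    rw [eq_bot_iff]
    intro y hy
    have h1 : (⟨y, hHM hy⟩ : ↥M) ∈ E.subgroupOf M := by
      rw [htop]
      exact Subgroup.mem_top _
    have h2 : y ∈ E := Subgroup.mem_subgroupOf.mp h1
    have h3 : y ∈ E ⊓ H := ⟨h2, hy⟩
    rwa [hEH] at h3
  · intro g hg
    rw [eq_bot_iff]
    rintro z ⟨hz1, hz2⟩
    rw [Subgroup.mem_bot]
    have hzE : (z : G) ∈ E := Subgroup.mem_subgroupOf.mp hz1
    have hwE : ((g⁻¹ * z * g : ↥M) : G) ∈ E := by
      have h1 := (Subgroup.mem_pointwise_smul_iff_inv_smul_mem).mp hz2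
      rw [← map_inv, MulAut.smul_def, MulAut.conj_apply, inv_inv] at h1
      exact Subgroup.mem_subgroupOf.mp h1
    obtain ⟨a, ha, b, hb, hgab⟩ := hfac (g : G) g.2
    have hb1 : b ≠ 1 := by
      rintro rfl
      apply hg
      rw [Subgroup.mem_subgroupOf, hgab, mul_one]
      exact ha
    have hz'E : a⁻¹ * (z : G) * a ∈ E := E.mul_mem (E.mul_mem (E.inv_mem ha) hzE) ha
    have hwE' : b⁻¹ * (a⁻¹ * (z : G) * a) * b ∈ E := by
      have h1 : ((g⁻¹ * z * g : ↥M) : G) = b⁻¹ * (a⁻¹ * (z : G) * a) * b := by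
        rw [Subgroup.coe_mul, Subgroup.coe_mul, Subgroup.coe_inv, hgab]
        group
      rwa [h1] at hwE
    have hcomm : (a⁻¹ * (z : G) * a)⁻¹ * (b⁻¹ * (a⁻¹ * (z : G) * a) * b) = 1 := by
      have h1 : (a⁻¹ * (z : G) * a)⁻¹ * (b⁻¹ * (a⁻¹ * (z : G) * a) * b) ∈ E :=
        E.mul_mem (E.inv_mem hz'E) hwE'
      have h2 : (a⁻¹ * (z : G) * a)⁻¹ * (b⁻¹ * (a⁻¹ * (z : G) * a) * b) ∈ H := by
        have hn := hHn (M.inv_mem (hEM hz'E))
        have h3 : (a⁻¹ * (z : G) * a)⁻¹ * b⁻¹ * (a⁻¹ * (z : G) * a)⁻¹⁻¹ ∈ H :=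
          (Subgroup.mem_normalizer_iff.mp hn b⁻¹).mp (H.inv_mem hb)
        rw [inv_inv] at h3
        have h4 := H.mul_mem h3 hb
        have h5 : (a⁻¹ * (z : G) * a)⁻¹ * b⁻¹ * (a⁻¹ * (z : G) * a) * b =
            (a⁻¹ * (z : G) * a)⁻¹ * (b⁻¹ * (a⁻¹ * (z : G) * a) * b) := by group
        rwa [h5] at h4
      have h6 : (a⁻¹ * (z : G) * a)⁻¹ * (b⁻¹ * (a⁻¹ * (z : G) * a) * b) ∈ E ⊓ H := ⟨h1, h2⟩
      rw [hEH] at h6
      exact Subgroup.mem_bot.mp h6
    have hzb : (a⁻¹ * (z : G) * a) * b = b * (a⁻¹ * (z : G) * a) := by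
      have h1 : b⁻¹ * (a⁻¹ * (z : G) * a) * b = a⁻¹ * (z : G) * a := by
        have h2 := congrArg (fun t => (a⁻¹ * (z : G) * a) * t) hcomm
        simpa [mul_assoc] using h2
      calc (a⁻¹ * (z : G) * a) * b = b * (b⁻¹ * (a⁻¹ * (z : G) * a) * b) := by group
        _ = b * (a⁻¹ * (z : G) * a) := by rw [h1]
    by_contra hz0
    have hz'1 : a⁻¹ * (z : G) * a ≠ 1 := by
      intro h1
      apply hz0
      have h2 : (z : G) = a * (a⁻¹ * (z : G) * a) * a⁻¹ := by group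
      have h3 : (z : G) = 1 := by
        rw [h2, h1]
        group
      exact Subtype.ext h3
    exact hb1 (hreg _ hz'E hz'1 b hb hzb)

end Cfsg.Agent.Helper83
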