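/-
CALL S1376 / C9 (helper1), piece REG (double, helper83): `c9_reg`, statement verbatim from
tools/calls/C9Skel.lean.txt.  Pure (Mathlib + Prelude).
-/
import Mathlib
import Cfsg.Prelude.Def_OddOrderLocal

set_option autoImplicit false

namespace Cfsg.Agent.Helper83

open Cfsg Subgroup

universe u

variable {G : Type u} [Group G] [Finite G]

/-- REG (pure given `hsyl`): regularity and cyclic Sylow subgroups of `E`. -/
theorem c9_reg {M E H : Subgroup G} (hEM : E ≤ M)
    (hEp : ∀ s : ℕ, s.Prime → s ∣ Nat.card E → s ∣ Nat.card M ∧ s ∉ sigma M)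
    (hsyl : ∀ s : ℕ, s.Prime → s ∣ Nat.card M → s ∉ sigma M → ∀ P : Subgroup G, P ≤ M →
      IsPGroup s P → IsCyclic ↥P ∧ ∀ e ∈ P, e ≠ 1 → ∀ y ∈ H, e * y = y * e → y = 1) :
    (∀ e ∈ E, e ≠ 1 → ∀ y ∈ H, e * y = y * e → y = 1) ∧
      ∀ (s : ℕ) [Fact s.Prime] (P : Sylow s ↥E), IsCyclic ↥(P : Subgroup ↥E) := by
  classical
  refine ⟨?_, ?_⟩
  · intro e he he1 y hy hey
    have ho1 : orderOf e ≠ 1 := fun h => he1 (orderOf_eq_one_iff.mp h)
    have ho0 : orderOf e ≠ 0 := (orderOf_pos e).ne'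
    obtain ⟨s, hs, hsd⟩ := Nat.exists_prime_and_dvd ho1
    have hsE : s ∣ Nat.card E := by
      have h1 : orderOf (⟨e, he⟩ : ↥E) ∣ Nat.card E := orderOf_dvd_natCard _
      have h2 : orderOf (⟨e, he⟩ : ↥E) = orderOf e := Subgroup.orderOf_mk e he
      rw [h2] at h1
      exact hsd.trans h1
    obtain ⟨hsM, hsσ⟩ := hEp s hs hsE
    have ho : orderOf (e ^ (orderOf e / s)) = s := orderOf_pow_orderOf_div ho0 hsd
    have he₁E : e ^ (orderOf e / s) ∈ E := E.pow_mem he _
    have hP : IsPGroup s ↥(Subgroup.zpowers (e ^ (orderOf e / s))) := by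
      apply IsPGroup.of_card (n := 1)
      rw [Nat.card_zpowers, ho, pow_one]
    have hPM : Subgroup.zpowers (e ^ (orderOf e / s)) ≤ M := by
      rw [Subgroup.zpowers_le]
      exact hEM he₁E
    have he₁1 : e ^ (orderOf e / s) ≠ 1 := by
      intro h
      rw [h, orderOf_one] at ho
      exact hs.one_lt.ne ho
    have hc : e ^ (orderOf e / s) * y = y * e ^ (orderOf e / s) := by
      have h1 : Commute e y := hey
      exact h1.pow_left _
    exact (hsyl s hs hsM hsσ _ hPM hP).2 _ (Subgroup.mem_zpowers _) he₁1 y hy hc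
  · intro s hsF P
    have hs := hsF.out
    by_cases hsE : s ∣ Nat.card E
    · obtain ⟨hsM, hsσ⟩ := hEp s hs hsE
      have hP' : IsPGroup s ↥((P : Subgroup ↥E).map E.subtype) := P.isPGroup'.map E.subtype
      have hP'M : (P : Subgroup ↥E).map E.subtype ≤ M := by
        rintro _ ⟨x, _, rfl⟩
        exact hEM x.2
      haveI hcyc : IsCyclic ↥((P : Subgroup ↥E).map E.subtype) :=
        (hsyl s hs hsM hsσ _ hP'M hP').1
      exact isCyclic_of_surjective
        ((P : Subgroup ↥E).equivMapOfInjective E.subtype E.subtype_injective).symm.toMonoidHom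
        ((P : Subgroup ↥E).equivMapOfInjective E.subtype E.subtype_injective).symm.surjective
    · have hc : Nat.card ↥(P : Subgroup ↥E) = 1 := by
        rw [Sylow.card_eq_multiplicity, Nat.factorization_eq_zero_of_not_dvd hsE, pow_zero]
      haveI : Subsingleton ↥(P : Subgroup ↥E) := (Nat.card_eq_one_iff_unique.mp hc).1
      exact isCyclic_of_subsingleton

end Cfsg.Agent.Helper83
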