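import Mathlib
import Cfsg.Prelude.Def_LieExceptional

set_option autoImplicit false
set_option linter.style.haveILetI false

namespace Cfsg.Agent.Helper83

/-- Commuting is transitive on the non-identity elements. -/
def CAProp (G : Type*) [Group G] : Prop :=
  ∀ a b c : G, a ≠ 1 → b ≠ 1 → c ≠ 1 → Commute a b → Commute b c → Commute a c

/-- Centraliser of one element. -/
abbrev cz1 {G : Type*} [Group G] (g : G) : Subgroup G := Subgroup.centralizer {g}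

/-- Normaliser of the centraliser of one element. -/
abbrev caN {G : Type*} [Group G] (t : G) : Subgroup G := Subgroup.normalizer (cz1 t : Set G)

/-- An involution, in multiplicative form. -/
def IsInvo {G : Type*} [Group G] (s : G) : Prop := s ≠ 1 ∧ s * s = 1

section basic
variable {G : Type*} [Group G]

theorem mem_cz1 {g x : G} : x ∈ cz1 g ↔ x * g = g * x := Subgroup.mem_centralizer_singleton_iff

theorem self_mem_cz1 (g : G) : g ∈ cz1 g := mem_cz1.2 rfl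

theorem IsInvo.orderOf_eq {s : G} (hs : IsInvo s) : orderOf s = 2 := by
  have : Fact (Nat.Prime 2) := ⟨Nat.prime_two⟩
  exact orderOf_eq_prime_iff.2 ⟨by rw [pow_two]; exact hs.2, hs.1⟩

theorem isInvo_of_orderOf {s : G} (hs : orderOf s = 2) : IsInvo s := by
  have : Fact (Nat.Prime 2) := ⟨Nat.prime_two⟩
  obtain ⟨h1, h2⟩ := orderOf_eq_prime_iff.1 hs
  exact ⟨h2, by rw [← pow_two]; exact h1⟩

theorem IsInvo.inv_eq {s : G} (hs : IsInvo s) : s⁻¹ = s := inv_eq_of_mul_eq_one_left hs.2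

theorem conj_ne_one' {s : G} (hs : s ≠ 1) (g : G) : g⁻¹ * s * g ≠ 1 := by
  intro h1
  apply hs
  have : s = g * (g⁻¹ * s * g) * g⁻¹ := by group
  rw [this, h1]; group

theorem conj_mul_self' {s : G} (hs : s * s = 1) (g : G) : (g⁻¹ * s * g) * (g⁻¹ * s * g) = 1 := by
  calc (g⁻¹ * s * g) * (g⁻¹ * s * g) = g⁻¹ * (s * s) * g := by group
    _ = 1 := by rw [hs]; group

theorem IsInvo.conj {s : G} (hs : IsInvo s) (g : G) : IsInvo (g⁻¹ * s * g) :=
  ⟨conj_ne_one' hs.1 g, conj_mul_self' hs.2 g⟩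

theorem IsInvo.conj' {s : G} (hs : IsInvo s) (g : G) : IsInvo (g * s * g⁻¹) := by
  have := hs.conj g⁻¹
  rwa [inv_inv] at this

theorem cz1_comm (hCA : CAProp G) {g : G} (hg : g ≠ 1) {x y : G} (hx : x ∈ cz1 g)
    (hy : y ∈ cz1 g) : x * y = y * x := by
  by_cases hx1 : x = 1
  · subst hx1; simp
  by_cases hy1 : y = 1
  · subst hy1; simp
  exact hCA x g y hx1 hg hy1 (mem_cz1.1 hx) (mem_cz1.1 hy).symm

theorem cz1_eq (hCA : CAProp G) {g a : G} (hg : g ≠ 1) (ha : a ≠ 1) (hag : a ∈ cz1 g) :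
    cz1 a = cz1 g := by
  ext y
  rw [mem_cz1, mem_cz1]
  by_cases hy1 : y = 1
  · subst hy1; simp
  constructor
  · intro h
    exact hCA y a g hy1 ha hg h (mem_cz1.1 hag)
  · intro h
    exact hCA y g a hy1 hg ha h (mem_cz1.1 hag).symm

theorem mem_cz1_of_comm (hCA : CAProp G) {t a y : G} (ht : t ≠ 1) (ha : a ∈ cz1 t) (ha1 : a ≠ 1)
    (hy : y * a = a * y) : y ∈ cz1 t := by
  rw [← cz1_eq hCA ht ha1 ha]; exact mem_cz1.2 hy

theorem ca_TI_aux (hCA : CAProp G) {t x g : G} (ht : t ≠ 1) (hx : x ∈ cz1 t) (hx1 : x ≠ 1)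
    (hxg : g⁻¹ * x * g ∈ cz1 t) {h : G} (hh : h ∈ cz1 t) : g⁻¹ * h * g ∈ cz1 t := by
  apply mem_cz1_of_comm hCA ht hxg (conj_ne_one' hx1 g)
  have := cz1_comm hCA ht hh hx
  calc g⁻¹ * h * g * (g⁻¹ * x * g) = g⁻¹ * (h * x) * g := by group
    _ = g⁻¹ * (x * h) * g := by rw [this]
    _ = g⁻¹ * x * g * (g⁻¹ * h * g) := by group

theorem ca_TI (hCA : CAProp G) {t x g : G} (ht : t ≠ 1) (hx : x ∈ cz1 t) (hx1 : x ≠ 1)
    (hxg : g⁻¹ * x * g ∈ cz1 t) : g ∈ caN t := by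
  rw [Subgroup.mem_normalizer_iff]
  intro h
  constructor
  · intro hh
    have := ca_TI_aux hCA (g := g⁻¹) ht hxg (conj_ne_one' hx1 g)
      (by simpa [mul_assoc] using hx) hh
    simpa using this
  · intro hh
    have := ca_TI_aux hCA ht hx hx1 hxg hh
    simpa [mul_assoc] using this

theorem ca_sylow [Finite G] (hCA : CAProp G) {t : G} (ht : IsInvo t) :
    ∃ P : Sylow 2 G, t ∈ (P : Subgroup G) ∧ (P : Subgroup G) ≤ cz1 t := by
  have : Fact (Nat.Prime 2) := ⟨Nat.prime_two⟩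
  have hz : IsPGroup 2 (Subgroup.zpowers t) := by
    apply IsPGroup.of_card (n := 1)
    rw [Nat.card_zpowers, ht.orderOf_eq, pow_one]
  obtain ⟨P, hP⟩ := hz.exists_le_sylow
  have htP : t ∈ (P : Subgroup G) := hP (Subgroup.mem_zpowers t)
  refine ⟨P, htP, ?_⟩
  haveI : Nontrivial (P : Subgroup G) :=
    ⟨⟨⟨t, htP⟩, 1, fun h => ht.1 (congrArg Subtype.val h)⟩⟩
  haveI := (P.2 : IsPGroup 2 (P : Subgroup G)).center_nontrivial
  obtain ⟨z, hz1⟩ := exists_ne (1 : Subgroup.center (P : Subgroup G))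
  have hzt : ((z : (P : Subgroup G)) : G) ∈ cz1 t := by
    rw [mem_cz1]
    have := Subgroup.mem_center_iff.1 z.2 ⟨t, htP⟩
    exact (congrArg Subtype.val this).symm
  have hzne : ((z : (P : Subgroup G)) : G) ≠ 1 := by
    intro h; apply hz1; exact Subtype.ext (Subtype.ext h)
  intro y hy
  apply mem_cz1_of_comm hCA ht.1 hzt hzne
  have := Subgroup.mem_center_iff.1 z.2 ⟨y, hy⟩
  exact congrArg Subtype.val this

theorem ca_relIndex_odd [Finite G] (hCA : CAProp G) {t : G} (ht : IsInvo t) :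
    Odd ((cz1 t).relIndex (caN t)) := by
  have : Fact (Nat.Prime 2) := ⟨Nat.prime_two⟩
  obtain ⟨P, -, hP⟩ := ca_sylow hCA ht
  have h1 : ¬ 2 ∣ (P : Subgroup G).index := P.not_dvd_index
  have h2 : (P : Subgroup G).relIndex (cz1 t) * (cz1 t).index = (P : Subgroup G).index :=
    Subgroup.relIndex_mul_index hP
  have h3 : (cz1 t).relIndex (caN t) * (caN t).index = (cz1 t).index :=
    Subgroup.relIndex_mul_index Subgroup.le_normalizer
  rw [← Nat.not_even_iff_odd, even_iff_two_dvd]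
  intro h
  apply h1
  rw [← h2, ← h3]
  exact Dvd.dvd.mul_left (Dvd.dvd.mul_right h _) _

theorem ca_invo_mem [Finite G] (hCA : CAProp G) {t : G} (ht : IsInvo t) {s : G}
    (hs : s ∈ caN t) (hss : s * s = 1) : s ∈ cz1 t := by
  obtain ⟨m, hm⟩ := ca_relIndex_odd hCA ht
  haveI : ((cz1 t).subgroupOf (caN t)).Normal := Subgroup.normal_in_normalizer
  have h := Subgroup.pow_index_mem ((cz1 t).subgroupOf (caN t)) ⟨s, hs⟩
  rw [Subgroup.mem_subgroupOf] at h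
  have hk : ((cz1 t).subgroupOf (caN t)).index = 2 * m + 1 := hm
  rw [hk] at h
  have h2 : s ^ (2 * m + 1) = s := by
    rw [pow_succ, pow_mul, pow_two, hss, one_pow, one_mul]
  have h3 : s ^ (2 * m + 1) ∈ cz1 t := h
  rwa [h2] at h3

theorem ca_invo_conj [Finite G] (hCA : CAProp G) {t : G} (ht : IsInvo t) {s : G} (hs : IsInvo s) :
    ∃ g : G, g⁻¹ * s * g ∈ cz1 t := by
  have : Fact (Nat.Prime 2) := ⟨Nat.prime_two⟩
  obtain ⟨P, -, hP⟩ := ca_sylow hCA ht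
  obtain ⟨Q, hsQ, -⟩ := ca_sylow hCA hs
  obtain ⟨g, hg⟩ := MulAction.exists_smul_eq G Q P
  refine ⟨g⁻¹, hP ?_⟩
  rw [← hg, Sylow.coe_subgroup_smul, Subgroup.mem_pointwise_smul_iff_inv_smul_mem]
  simpa [MulAut.smul_def, mul_assoc] using hsQ

theorem ca_exists_invo [Finite G] [IsSimpleGroup G] (hG : ¬ IsMulCommutative G) (hCA : CAProp G)
    (h183 : Odd (Nat.card G) → Cfsg.IsCNGroup G → Group.IsSolvable G) : ∃ t : G, IsInvo t := by
  have hCN : Cfsg.IsCNGroup G := by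
    intro g hg
    letI : CommGroup (cz1 g) :=
      { (inferInstance : Group (cz1 g)) with
        mul_comm := fun a b => Subtype.ext (cz1_comm hCA hg a.2 b.2) }
    exact CommGroup.isNilpotent
  have heven : ¬ Odd (Nat.card G) := by
    intro hodd
    have hs := h183 hodd hCN
    apply hG
    exact ⟨⟨IsSimpleGroup.comm_iff_isSolvable.2 hs⟩⟩
  rw [Nat.not_odd_iff_even, even_iff_two_dvd] at heven
  have : Fact (Nat.Prime 2) := ⟨Nat.prime_two⟩
  obtain ⟨t, ht⟩ := exists_prime_orderOf_dvd_card' 2 heven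
  exact ⟨t, isInvo_of_orderOf ht⟩

theorem ca_normalizer_ne_top [IsSimpleGroup G] (hG : ¬ IsMulCommutative G) (hCA : CAProp G)
    {t : G} (ht : t ≠ 1) : caN t ≠ ⊤ := by
  intro h
  have hn : (cz1 t).Normal := Subgroup.normalizer_eq_top_iff.1 h
  rcases hn.eq_bot_or_eq_top with h0 | h1
  · have : t ∈ cz1 t := self_mem_cz1 t
    rw [h0, Subgroup.mem_bot] at this
    exact ht this
  · apply hG
    refine ⟨⟨fun a b => cz1_comm hCA ht ?_ ?_⟩⟩ <;> rw [h1] <;> exact Subgroup.mem_top _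

theorem ca_fix_iff (N : Subgroup G) {x g : G} :
    x • (g : G ⧸ N) = (g : G ⧸ N) ↔ g⁻¹ * x * g ∈ N := by
  rw [MulAction.Quotient.smul_mk, QuotientGroup.eq, smul_eq_mul]
  constructor
  · intro h; have := N.inv_mem h; simpa [mul_assoc] using this
  · intro h; have := N.inv_mem h; simpa [mul_assoc] using this

theorem ca_fix_one_iff (N : Subgroup G) {x : G} :
    x • ((1 : G) : G ⧸ N) = ((1 : G) : G ⧸ N) ↔ x ∈ N := by
  rw [ca_fix_iff]; simp

theorem ca_invo_fix_unique [Finite G] (hCA : CAProp G) {t : G} (ht : IsInvo t) {s : G}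
    (hs : IsInvo s) {ω₁ ω₂ : G ⧸ caN t} (h1 : s • ω₁ = ω₁) (h2 : s • ω₂ = ω₂) :
    ω₁ = ω₂ := by
  obtain ⟨g₁, rfl⟩ := QuotientGroup.mk_surjective ω₁
  obtain ⟨g₂, rfl⟩ := QuotientGroup.mk_surjective ω₂
  rw [ca_fix_iff] at h1 h2
  have hA1 : g₁⁻¹ * s * g₁ ∈ cz1 t := ca_invo_mem hCA ht h1 (conj_mul_self' hs.2 g₁)
  have hA2 : g₂⁻¹ * s * g₂ ∈ cz1 t := ca_invo_mem hCA ht h2 (conj_mul_self' hs.2 g₂)
  rw [QuotientGroup.eq]
  apply ca_TI hCA ht.1 hA1 (conj_ne_one' hs.1 g₁)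
  have : (g₁⁻¹ * g₂)⁻¹ * (g₁⁻¹ * s * g₁) * (g₁⁻¹ * g₂) = g₂⁻¹ * s * g₂ := by group
  rw [this]; exact hA2

theorem ca_conj_fix {A N : Subgroup G} (hAN : A ≤ N) {a : G} (ha : a ∈ A) (g : G) :
    (g * a * g⁻¹) • (g : G ⧸ N) = (g : G ⧸ N) := by
  rw [ca_fix_iff]
  have : g⁻¹ * (g * a * g⁻¹) * g = a := by group
  rw [this]; exact hAN ha

theorem ca_k_le [Finite G] {t : G} (ht : IsInvo t) :
    (cz1 t).relIndex (caN t) ≤ Nat.card {a : G // IsInvo a ∧ a ∈ cz1 t} := by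
  unfold Subgroup.relIndex Subgroup.index
  apply Nat.card_le_card_of_injective
    (fun q : (caN t) ⧸ (cz1 t).subgroupOf (caN t) =>
      (⟨(q.out : G) * t * (q.out : G)⁻¹, ht.conj' _,
        (Subgroup.mem_normalizer_iff.1 q.out.2 t).1 (self_mem_cz1 t)⟩ :
          {a : G // IsInvo a ∧ a ∈ cz1 t}))
  intro q q' h
  have h' : (q.out : G) * t * (q.out : G)⁻¹ = (q'.out : G) * t * (q'.out : G)⁻¹ :=
    congrArg Subtype.val h
  rw [← QuotientGroup.out_eq' q, ← QuotientGroup.out_eq' q', QuotientGroup.eq,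
    Subgroup.mem_subgroupOf, Subgroup.coe_mul, Subgroup.coe_inv, mem_cz1]
  calc (q.out : G)⁻¹ * (q'.out : G) * t
      = (q.out : G)⁻¹ * ((q'.out : G) * t * (q'.out : G)⁻¹) * (q'.out : G) := by group
    _ = (q.out : G)⁻¹ * ((q.out : G) * t * (q.out : G)⁻¹) * (q'.out : G) := by rw [h']
    _ = t * ((q.out : G)⁻¹ * (q'.out : G)) := by group

theorem ca_swap_disj (hCA : CAProp G) {t : G} (ht : t ≠ 1) {s₀ : G} (hs₀ : IsInvo s₀)
    (hs₀N : s₀ ∉ caN t) {r : G} (hrA : r ∈ cz1 t)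
    (hr : s₀⁻¹ * r * s₀ ∈ caN t) : r = 1 := by
  by_contra hr1
  apply hs₀N
  have e : s₀ * r * s₀⁻¹ = s₀⁻¹ * r * s₀ := by rw [hs₀.inv_eq]
  have hconj : (s₀⁻¹ * r * s₀)⁻¹ * r * (s₀⁻¹ * r * s₀) ∈ cz1 t := by
    have := (Subgroup.mem_normalizer_iff.1 ((caN t).inv_mem hr) r).1 hrA
    rwa [inv_inv] at this
  have hc : r⁻¹ * ((s₀⁻¹ * r * s₀)⁻¹ * r * (s₀⁻¹ * r * s₀)) ∈ cz1 t :=
    (cz1 t).mul_mem ((cz1 t).inv_mem hrA) hconj
  by_cases hc1 : r⁻¹ * ((s₀⁻¹ * r * s₀)⁻¹ * r * (s₀⁻¹ * r * s₀)) = 1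
  · have hcomm : (s₀⁻¹ * r * s₀) * r = r * (s₀⁻¹ * r * s₀) := by
      calc (s₀⁻¹ * r * s₀) * r
          = (s₀⁻¹ * r * s₀) * r * (r⁻¹ * ((s₀⁻¹ * r * s₀)⁻¹ * r * (s₀⁻¹ * r * s₀))) := by
            rw [hc1, mul_one]
        _ = r * (s₀⁻¹ * r * s₀) := by group
    have hr'A : s₀⁻¹ * r * s₀ ∈ cz1 t := mem_cz1_of_comm hCA ht hrA hr1 hcomm
    exact ca_TI hCA ht hrA hr1 hr'A
  · apply ca_TI hCA ht hc hc1
    have key : s₀⁻¹ * (r⁻¹ * ((s₀ * r * s₀⁻¹)⁻¹ * r * (s₀ * r * s₀⁻¹))) * s₀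
        = (r⁻¹ * ((s₀⁻¹ * r * s₀)⁻¹ * r * (s₀⁻¹ * r * s₀)))⁻¹ := by group
    rw [e] at key
    rw [key]; exact (cz1 t).inv_mem hc

theorem ca_card_le_k [Finite G] {A N B : Subgroup G} (hB : B ≤ N) (hBA : B ⊓ A = ⊥) :
    Nat.card B ≤ A.relIndex N := by
  have h1 : A.relIndex B = Nat.card B := by
    rw [← Subgroup.inf_relIndex_right, inf_comm, hBA, Subgroup.relIndex_bot_left]
  rw [← h1]
  exact Subgroup.relIndex_le_of_le_right hB Subgroup.index_ne_zero_of_finite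

end basic

end Cfsg.Agent.Helper83
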