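import Cfsg.Agent.Helper83.CA1

set_option autoImplicit false
set_option linter.style.haveILetI false
set_option linter.unusedSectionVars false

namespace Cfsg.Agent.Helper83

section count
variable {G : Type*} [Group G] [Finite G]

/-- Stabiliser in `N` of a point. -/
abbrev caK (t : G) (ω : G ⧸ caN t) : Subgroup G := caN t ⊓ MulAction.stabilizer G ω

/-- Involutions moving the base point to `ω`. -/
abbrev caJ (t : G) (ω : G ⧸ caN t) : Type _ :=
  {s : G // IsInvo s ∧ s • ((1 : G) : G ⧸ caN t) = ω}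

/-- Points other than the base point. -/
abbrev caT (t : G) : Type _ := {ω : G ⧸ caN t // ω ≠ ((1 : G) : G ⧸ caN t)}

omit [Finite G] in
theorem caJ_not_mem {t : G} {ω : G ⧸ caN t} (hω : ω ≠ ((1 : G) : G ⧸ caN t)) (s : caJ t ω) :
    (s : G) ∉ caN t := by
  intro h
  apply hω
  rw [← s.2.2]
  exact (ca_fix_one_iff _).2 h

theorem caJ_coe {t : G} {ω : G ⧸ caN t} (s : caJ t ω) : ((s : G) : G ⧸ caN t) = ω := by
  have h := s.2.2
  rw [MulAction.Quotient.smul_mk, smul_eq_mul, mul_one] at h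
  exact h

theorem caK_inf (hCA : CAProp G) {t : G} (ht : IsInvo t) {ω : G ⧸ caN t}
    (hω : ω ≠ ((1 : G) : G ⧸ caN t)) (s₀ : caJ t ω) : caK t ω ⊓ cz1 t = ⊥ := by
  rw [eq_bot_iff]
  intro r hr
  rw [Subgroup.mem_bot]
  obtain ⟨hrK, hrA⟩ := Subgroup.mem_inf.1 hr
  obtain ⟨hrN, hrω⟩ := Subgroup.mem_inf.1 hrK
  apply ca_swap_disj hCA ht.1 s₀.2.1 (caJ_not_mem hω s₀) hrA
  rw [← ca_fix_iff, caJ_coe]
  exact hrω

theorem caJ_mul_mem {t : G} {ω : G ⧸ caN t} (s₀ s : caJ t ω) :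
    (s₀ : G) * (s : G) ∈ caK t ω := by
  have h0 := s₀.2.2
  have h1 := s.2.2
  have hs0 : (s₀ : G) • ω = ((1 : G) : G ⧸ caN t) := by
    calc (s₀ : G) • ω = (s₀ : G) • ((s₀ : G) • ((1 : G) : G ⧸ caN t)) := by rw [h0]
      _ = _ := by rw [smul_smul, s₀.2.1.2, one_smul]
  have hs1 : (s : G) • ω = ((1 : G) : G ⧸ caN t) := by
    calc (s : G) • ω = (s : G) • ((s : G) • ((1 : G) : G ⧸ caN t)) := by rw [h1]
      _ = _ := by rw [smul_smul, s.2.1.2, one_smul]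
  refine Subgroup.mem_inf.2 ⟨?_, ?_⟩
  · rw [← ca_fix_one_iff, mul_smul, h1, hs0]
  · rw [MulAction.mem_stabilizer_iff, mul_smul, hs1, h0]

theorem caJ_card_le_K {t : G} {ω : G ⧸ caN t} : Nat.card (caJ t ω) ≤ Nat.card (caK t ω) := by
  by_cases hne : Nonempty (caJ t ω)
  · obtain ⟨s₀⟩ := hne
    apply Nat.card_le_card_of_injective
      (fun s : caJ t ω => (⟨(s₀ : G) * (s : G), caJ_mul_mem s₀ s⟩ : caK t ω))
    intro s s' h
    have : (s₀ : G) * (s : G) = (s₀ : G) * (s' : G) := congrArg Subtype.val h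
    exact Subtype.ext (mul_left_cancel this)
  · rw [not_nonempty_iff] at hne
    rw [Nat.card_of_isEmpty]; exact Nat.zero_le _

theorem caJ_card_le_k (hCA : CAProp G) {t : G} (ht : IsInvo t) {ω : G ⧸ caN t}
    (hω : ω ≠ ((1 : G) : G ⧸ caN t)) : Nat.card (caJ t ω) ≤ (cz1 t).relIndex (caN t) := by
  by_cases hne : Nonempty (caJ t ω)
  · obtain ⟨s₀⟩ := hne
    exact caJ_card_le_K.trans (ca_card_le_k inf_le_left (caK_inf hCA ht hω s₀))
  · rw [not_nonempty_iff] at hne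
    rw [Nat.card_of_isEmpty]; exact Nat.zero_le _

theorem ca_conj_not_mem (hCA : CAProp G) {t : G} (ht : IsInvo t) {ω : G ⧸ caN t}
    (hω : ω ≠ ((1 : G) : G ⧸ caN t)) {a : G} (ha : IsInvo a) (haA : a ∈ cz1 t) :
    ω.out * a * ω.out⁻¹ ∉ cz1 t := by
  intro h
  apply hω
  have h1 := ca_conj_fix (N := caN t) Subgroup.le_normalizer haA ω.out
  rw [QuotientGroup.out_eq'] at h1
  have h2 : (ω.out * a * ω.out⁻¹) • ((1 : G) : G ⧸ caN t) = ((1 : G) : G ⧸ caN t) :=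
    (ca_fix_one_iff _).2 (Subgroup.le_normalizer h)
  exact ca_invo_fix_unique hCA ht (ha.conj' _) h1 h2

theorem ca_count_lb (hCA : CAProp G) {t : G} (ht : IsInvo t) :
    Nat.card (caT t) * Nat.card {a : G // IsInvo a ∧ a ∈ cz1 t}
      ≤ Nat.card {s : G // IsInvo s ∧ s ∉ cz1 t} := by
  rw [← Nat.card_prod]
  apply Nat.card_le_card_of_injective
    (fun p : caT t × {a : G // IsInvo a ∧ a ∈ cz1 t} =>
      (⟨(p.1 : G ⧸ caN t).out * (p.2 : G) * ((p.1 : G ⧸ caN t).out)⁻¹, p.2.2.1.conj' _,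
        ca_conj_not_mem hCA ht p.1.2 p.2.2.1 p.2.2.2⟩ : {s : G // IsInvo s ∧ s ∉ cz1 t}))
  intro p p' h
  have h' : (p.1 : G ⧸ caN t).out * (p.2 : G) * ((p.1 : G ⧸ caN t).out)⁻¹
      = (p'.1 : G ⧸ caN t).out * (p'.2 : G) * ((p'.1 : G ⧸ caN t).out)⁻¹ :=
    congrArg Subtype.val h
  have h1 := ca_conj_fix (N := caN t) Subgroup.le_normalizer p.2.2.2 (p.1 : G ⧸ caN t).out
  have h2 := ca_conj_fix (N := caN t) Subgroup.le_normalizer p'.2.2.2 (p'.1 : G ⧸ caN t).out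
  rw [QuotientGroup.out_eq'] at h1 h2
  rw [h'] at h1
  have hω : (p.1 : G ⧸ caN t) = p'.1 := ca_invo_fix_unique hCA ht (p'.2.2.1.conj' _) h1 h2
  obtain ⟨⟨ω, hω1⟩, ⟨a, ha⟩⟩ := p
  obtain ⟨⟨ω', hω1'⟩, ⟨a', ha'⟩⟩ := p'
  simp only at hω h'
  subst hω
  have : a = a' := mul_left_cancel (mul_right_cancel h')
  subst this
  rfl

theorem ca_count_ub (hCA : CAProp G) {t : G} (ht : IsInvo t) :
    Nat.card {s : G // IsInvo s ∧ s ∉ cz1 t} ≤ Nat.card (Σ ω : caT t, caJ t (ω : G ⧸ caN t)) := by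
  have hne : ∀ s : {s : G // IsInvo s ∧ s ∉ cz1 t},
      (s : G) • ((1 : G) : G ⧸ caN t) ≠ ((1 : G) : G ⧸ caN t) := by
    intro s h
    exact s.2.2 (ca_invo_mem hCA ht ((ca_fix_one_iff _).1 h) s.2.1.2)
  apply Nat.card_le_card_of_injective
    (fun s : {s : G // IsInvo s ∧ s ∉ cz1 t} =>
      (⟨⟨(s : G) • ((1 : G) : G ⧸ caN t), hne s⟩, ⟨(s : G), s.2.1, rfl⟩⟩ :
        Σ ω : caT t, caJ t (ω : G ⧸ caN t)))
  apply Function.Injective.of_comp
    (f := fun x : (Σ ω : caT t, caJ t (ω : G ⧸ caN t)) => (x.2 : G))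
  intro s s' h
  exact Subtype.ext h

theorem caT_card_pos [IsSimpleGroup G] (hG : ¬ IsMulCommutative G) (hCA : CAProp G) {t : G}
    (ht : IsInvo t) : 0 < Nat.card (caT t) := by
  have hN := ca_normalizer_ne_top hG hCA ht.1
  have : ∃ g : G, g ∉ caN t := by
    by_contra hcon
    push Not at hcon
    exact hN ((Subgroup.eq_top_iff' _).2 hcon)
  obtain ⟨g, hg⟩ := this
  have : Nonempty (caT t) :=
    ⟨⟨g • ((1 : G) : G ⧸ caN t), fun h => hg ((ca_fix_one_iff _).1 h)⟩⟩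
  exact Nat.card_pos

theorem ca_count [IsSimpleGroup G] (hG : ¬ IsMulCommutative G) (hCA : CAProp G) {t : G}
    (ht : IsInvo t) :
    (cz1 t).relIndex (caN t) = Nat.card {a : G // IsInvo a ∧ a ∈ cz1 t} ∧
    ∀ ω : G ⧸ caN t, ω ≠ ((1 : G) : G ⧸ caN t) →
      Nat.card (caJ t ω) = (cz1 t).relIndex (caN t) := by
  classical
  letI : Fintype (caT t) := Fintype.ofFinite _
  have h1 := ca_count_lb hCA ht
  have h2 := ca_count_ub hCA ht
  rw [Nat.card_sigma] at h2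
  have h3 : ∀ ω : caT t, Nat.card (caJ t (ω : G ⧸ caN t)) ≤ (cz1 t).relIndex (caN t) :=
    fun ω => caJ_card_le_k hCA ht ω.2
  have h4 : ∑ ω : caT t, Nat.card (caJ t (ω : G ⧸ caN t))
      ≤ ∑ _ω : caT t, (cz1 t).relIndex (caN t) := Finset.sum_le_sum (fun ω _ => h3 ω)
  have h5 : ∑ _ω : caT t, (cz1 t).relIndex (caN t)
      = Nat.card (caT t) * (cz1 t).relIndex (caN t) := by
    rw [Finset.sum_const, Finset.card_univ, Nat.card_eq_fintype_card, smul_eq_mul]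
  have hpos := caT_card_pos hG hCA ht
  have h6 := ca_k_le ht
  have h7 : Nat.card {a : G // IsInvo a ∧ a ∈ cz1 t} ≤ (cz1 t).relIndex (caN t) := by
    have : Nat.card (caT t) * Nat.card {a : G // IsInvo a ∧ a ∈ cz1 t}
        ≤ Nat.card (caT t) * (cz1 t).relIndex (caN t) := by
      rw [← h5]; exact (h1.trans h2).trans h4
    exact Nat.le_of_mul_le_mul_left this hpos
  have h8 := le_antisymm h6 h7
  refine ⟨h8, ?_⟩
  have h9 : ∑ ω : caT t, Nat.card (caJ t (ω : G ⧸ caN t))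
      = ∑ _ω : caT t, (cz1 t).relIndex (caN t) := by
    apply le_antisymm h4
    rw [h5, h8]
    exact h1.trans h2
  have h10 := (Finset.sum_eq_sum_iff_of_le (fun ω _ => h3 ω)).1 h9
  intro ω hω
  exact h10 ⟨ω, hω⟩ (Finset.mem_univ _)

theorem ca_k_pos {t : G} : 0 < (cz1 t).relIndex (caN t) :=
  Nat.pos_of_ne_zero Subgroup.index_ne_zero_of_finite

theorem caJ_nonempty [IsSimpleGroup G] (hG : ¬ IsMulCommutative G) (hCA : CAProp G) {t : G}
    (ht : IsInvo t) {ω : G ⧸ caN t} (hω : ω ≠ ((1 : G) : G ⧸ caN t)) : Nonempty (caJ t ω) := by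
  have h := (ca_count hG hCA ht).2 ω hω
  have hpos : 0 < Nat.card (caJ t ω) := by rw [h]; exact ca_k_pos
  exact (Nat.card_pos_iff.1 hpos).1

theorem caK_inf' [IsSimpleGroup G] (hG : ¬ IsMulCommutative G) (hCA : CAProp G) {t : G}
    (ht : IsInvo t) {ω : G ⧸ caN t} (hω : ω ≠ ((1 : G) : G ⧸ caN t)) :
    caK t ω ⊓ cz1 t = ⊥ := by
  obtain ⟨s₀⟩ := caJ_nonempty hG hCA ht hω
  exact caK_inf hCA ht hω s₀

theorem caK_card [IsSimpleGroup G] (hG : ¬ IsMulCommutative G) (hCA : CAProp G) {t : G}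
    (ht : IsInvo t) {ω : G ⧸ caN t} (hω : ω ≠ ((1 : G) : G ⧸ caN t)) :
    Nat.card (caK t ω) = (cz1 t).relIndex (caN t) := by
  apply le_antisymm (ca_card_le_k inf_le_left (caK_inf' hG hCA ht hω))
  rw [← (ca_count hG hCA ht).2 ω hω]
  exact caJ_card_le_K

theorem ca_swap_inverts [IsSimpleGroup G] (hG : ¬ IsMulCommutative G) (hCA : CAProp G) {t : G}
    (ht : IsInvo t) {ω : G ⧸ caN t} (hω : ω ≠ ((1 : G) : G ⧸ caN t)) (s₀ : caJ t ω) {y : G}
    (hy : y ∈ caK t ω) : (s₀ : G) * y * (s₀ : G)⁻¹ = y⁻¹ := by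
  have hinj : Function.Injective
      (fun s : caJ t ω => (⟨(s₀ : G) * (s : G), caJ_mul_mem s₀ s⟩ : caK t ω)) := by
    intro s s' h
    have : (s₀ : G) * (s : G) = (s₀ : G) * (s' : G) := congrArg Subtype.val h
    exact Subtype.ext (mul_left_cancel this)
  have hbij := hinj.bijective_of_nat_card_le
    (by rw [caK_card hG hCA ht hω, (ca_count hG hCA ht).2 ω hω])
  obtain ⟨s, hs⟩ := hbij.2 ⟨y, hy⟩
  have hs' : (s₀ : G) * (s : G) = y := congrArg Subtype.val hs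
  rw [← hs', mul_inv_rev, IsInvo.inv_eq s.2.1, IsInvo.inv_eq s₀.2.1, ← mul_assoc (s₀ : G),
    s₀.2.1.2, one_mul]

theorem ca_k_ne_one [IsSimpleGroup G] (hG : ¬ IsMulCommutative G) (hCA : CAProp G) {t : G}
    (ht : IsInvo t) : (cz1 t).relIndex (caN t) ≠ 1 := by
  intro hk1
  have : Fact (Nat.Prime 2) := ⟨Nat.prime_two⟩
  obtain ⟨hki, -⟩ := ca_count hG hCA ht
  rw [hk1] at hki
  have huniq : ∀ a : G, IsInvo a → a ∈ cz1 t → a = t := by
    intro a ha haA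
    have hsub : Subsingleton {a : G // IsInvo a ∧ a ∈ cz1 t} :=
      (Nat.card_eq_one_iff_unique.1 hki.symm).1
    exact congrArg Subtype.val
      (Subsingleton.elim (⟨a, ha, haA⟩ : {a : G // IsInvo a ∧ a ∈ cz1 t})
        ⟨t, ht, self_mem_cz1 t⟩)
  obtain ⟨P, htP, hP⟩ := ca_sylow hCA ht
  have hNC : Subgroup.normalizer ((P : Subgroup G) : Set G)
      ≤ Subgroup.centralizer ((P : Subgroup G) : Set G) := by
    intro g hg
    have h1 : g * t * g⁻¹ ∈ (P : Subgroup G) := (Subgroup.mem_normalizer_iff.1 hg t).1 htP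
    have h2 : g * t * g⁻¹ = t := huniq _ (ht.conj' g) (hP h1)
    have hgA : g ∈ cz1 t := by
      rw [mem_cz1]
      calc g * t = g * t * g⁻¹ * g := by group
        _ = t * g := by rw [h2]
    rw [Subgroup.mem_centralizer_iff]
    intro p hp
    exact cz1_comm hCA ht.1 (hP hp) hgA
  have hcompl := MonoidHom.ker_transferSylow_isComplement' P hNC
  have hKn : (MonoidHom.transferSylow P hNC).ker.Normal := MonoidHom.normal_ker _
  have hcard := hcompl.card_mul_card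
  rcases hKn.eq_bot_or_eq_top with h0 | h1
  · rw [h0, Subgroup.card_bot, one_mul] at hcard
    have hPtop : (P : Subgroup G) = ⊤ := Subgroup.eq_top_of_card_eq _ hcard
    apply hG
    refine ⟨⟨fun a b => cz1_comm hCA ht.1 (hP ?_) (hP ?_)⟩⟩ <;> rw [hPtop] <;>
      exact Subgroup.mem_top _
  · rw [h1, Subgroup.card_top] at hcard
    have hP1 : Nat.card (P : Subgroup G) = 1 := by
      have hpos : 0 < Nat.card G := Nat.card_pos
      exact Nat.eq_of_mul_eq_mul_left hpos (by rw [hcard, mul_one])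
    have hbot := Subgroup.card_eq_one.1 hP1
    rw [hbot, Subgroup.mem_bot] at htP
    exact ht.1 htP

end count

end Cfsg.Agent.Helper83
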