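import Mathlib
import Cfsg.Prelude.Def_GeometricClasses
import Cfsg.Prelude.Def_LieClassical
import Cfsg.Agent.Helper69.E3Def
import Cfsg.Agent.Helper84.E3BASE
import Cfsg.Agent.Helper66.E3INV
import Cfsg.Agent.Helper97.UForm

/-!
# Piece TINV of CALL S5999 (helper69): the involution `-swap` in `N(E3) ∩ SU₃`
-/

set_option autoImplicit false

namespace Cfsg.Agent.Helper83

open Cfsg.Agent.Helper69

theorem e3u_odd_of_card {F : Type*} [Field F] [Fintype F] {p : ℕ} (hF : Fintype.card F = p ^ 2)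
    (h2 : (2 : F) ≠ 0) : Odd p := by
  obtain ⟨c, hc⟩ := CharP.exists F
  obtain ⟨n, hcp, hcard⟩ := FiniteField.card F c
  rw [← Nat.not_even_iff_odd]
  intro hev
  have h2p : 2 ∣ p := even_iff_two_dvd.mp hev
  have h2c : 2 ∣ c ^ (n : ℕ) := by
    rw [← hcard, hF]; exact dvd_pow h2p (by norm_num)
  have h2c' : 2 ∣ c := Nat.Prime.dvd_of_dvd_pow Nat.prime_two h2c
  have hc2 : 2 = c := (Nat.prime_dvd_prime_iff_eq Nat.prime_two hcp).mp h2c'
  subst hc2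
  apply h2
  exact_mod_cast CharP.cast_eq_zero F 2

theorem e3u_swap {F : Type*} [Field F] [Fintype F] {p : ℕ} (hF : Fintype.card F = p ^ 2)
    (h2 : (2 : F) ≠ 0) (ω : F) (hω1 : ω ≠ 1) (hω3 : ω ^ 3 = 1) :
    ∃ t : GL (Fin 3) F, t ∈ Cfsg.Geo.subgroupNormalizer (E3 ω) ∧ t ∈ Cfsg.GU 3 F p ∧
      (t : Matrix (Fin 3) (Fin 3) F).det = 1 ∧ (t : Matrix (Fin 3) (Fin 3) F) ^ 2 = 1 ∧
      ∀ c : F, (t : Matrix (Fin 3) (Fin 3) F) ≠ c • (1 : Matrix (Fin 3) (Fin 3) F) := by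
  have hodd : Odd p := e3u_odd_of_card hF h2
  obtain ⟨t, ht, hti⟩ : ∃ t : GL (Fin 3) F,
      (t : Matrix (Fin 3) (Fin 3) F) = Cfsg.Agent.Helper66.e3S F ∧
      ((t⁻¹ : GL (Fin 3) F) : Matrix (Fin 3) (Fin 3) F) = Cfsg.Agent.Helper66.e3S F :=
    ⟨⟨Cfsg.Agent.Helper66.e3S F, Cfsg.Agent.Helper66.e3S F,
      Cfsg.Agent.Helper66.e3S_mul_self F, Cfsg.Agent.Helper66.e3S_mul_self F⟩, rfl, rfl⟩
  refine ⟨t, ?_, ?_, ?_, ?_, ?_⟩
  · apply Cfsg.Agent.Helper84.e3_mem_normalizer ω hω1 hω3 t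
    · intro g hg
      rw [Cfsg.Agent.Helper84.e3_mem_iff ω hω3]
      refine ⟨0, 2, 0, ?_⟩
      rw [Units.val_mul, Units.val_mul, ht, hti, hg, pow_zero, pow_zero, one_smul, mul_one,
        Cfsg.Agent.Helper66.e3S_conj_X]
    · intro g hg
      rw [Cfsg.Agent.Helper84.e3_mem_iff ω hω3]
      refine ⟨1, 0, 2, ?_⟩
      rw [Units.val_mul, Units.val_mul, ht, hti, hg, pow_one, pow_zero, one_mul,
        Cfsg.Agent.Helper66.e3S_conj_Z ω hω3]
  · rw [Cfsg.Agent.Helper97.IsSigma.mem_GU_iff]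
    intro u v
    rw [ht]
    simp only [Cfsg.hermForm, Fin.sum_univ_three, Matrix.mulVec, dotProduct,
      Cfsg.Agent.Helper66.e3S]
    simp [hodd.neg_pow]
    ring
  · rw [ht]; exact Cfsg.Agent.Helper66.e3S_det F
  · rw [ht, pow_two]; exact Cfsg.Agent.Helper66.e3S_mul_self F
  · intro c hc
    rw [ht] at hc
    have h01 := congrFun (congrFun hc 0) 1
    simp [Cfsg.Agent.Helper66.e3S] at h01

end Cfsg.Agent.Helper83
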