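import Mathlib
import Cfsg.Prelude.Def_GeometricClasses
import Cfsg.Prelude.Def_LieClassical
import Cfsg.Agent.Helper97.UForm

set_option autoImplicit false
set_option linter.unusedSimpArgs false
set_option linter.unreachableTactic false
set_option linter.unusedTactic false

/-!
helper83: PIECE BAD5U of CALL S6001 (helper69): for `p ≡ ±1 (mod 5)` there is an element of
order `5` of `SU_4(p)` with `tr x * tr x⁻¹ ≠ 1`.
-/

namespace Cfsg.Agent.Helper83
open Cfsg Cfsg.Geo Matrix Cfsg.Agent.Helper97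
open scoped Matrix

/-- a matrix with `gᵀ g^σ = 1` is an isometry of the standard unitary form
(copy of `Helper97.U9.mem_GU_of_matrix`, to avoid its heavy imports) -/
theorem e4u5_mem_GU_of_matrix {F : Type*} [Field F] {n : ℕ} {q : ℕ} {σ : F ≃+* F}
    (h : IsSigma q σ) (g : GL (Fin n) F)
    (hg : (g : Matrix (Fin n) (Fin n) F)ᵀ * (g : Matrix (Fin n) (Fin n) F).map σ = 1) :
    g ∈ GU n F q := by
  intro u v
  show hermForm n F q ((g : Matrix (Fin n) (Fin n) F) *ᵥ u) ((g : Matrix (Fin n) (Fin n) F) *ᵥ v)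
    = hermForm n F q u v
  rw [h.isSesq.apply_mulVec, h.gram_herm, Matrix.mul_one, hg, h.isSesq.apply_eq, h.gram_herm]

theorem e4u5_det_fin_four {F : Type*} [Field F] (g : Matrix (Fin 4) (Fin 4) F) :
    g.det = g 0 0 * (g 1 1 * (g 2 2 * g 3 3 - g 2 3 * g 3 2) - g 1 2 * (g 2 1 * g 3 3 - g 2 3 * g 3 1)
        + g 1 3 * (g 2 1 * g 3 2 - g 2 2 * g 3 1))
      - g 0 1 * (g 1 0 * (g 2 2 * g 3 3 - g 2 3 * g 3 2) - g 1 2 * (g 2 0 * g 3 3 - g 2 3 * g 3 0)
        + g 1 3 * (g 2 0 * g 3 2 - g 2 2 * g 3 0))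
      + g 0 2 * (g 1 0 * (g 2 1 * g 3 3 - g 2 3 * g 3 1) - g 1 1 * (g 2 0 * g 3 3 - g 2 3 * g 3 0)
        + g 1 3 * (g 2 0 * g 3 1 - g 2 1 * g 3 0))
      - g 0 3 * (g 1 0 * (g 2 1 * g 3 2 - g 2 2 * g 3 1) - g 1 1 * (g 2 0 * g 3 2 - g 2 2 * g 3 0)
        + g 1 2 * (g 2 0 * g 3 1 - g 2 1 * g 3 0)) := by
  rw [Matrix.det_succ_row_zero]
  simp [Fin.sum_univ_four, Matrix.det_fin_three, Fin.succAbove]
  ring

/-! ### BAD5U -/

theorem e4u_bad_five {F : Type*} [Field F] [Fintype F] {p : ℕ} [Fact p.Prime] [CharP F p]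
    (hF : Fintype.card F = p ^ 2) (h2 : (2 : F) ≠ 0) (hp5 : p % 5 = 1 ∨ p % 5 = 4) :
    ∃ x : GL (Fin 4) F, x ∈ Cfsg.GU 4 F p ⊓ Cfsg.Geo.specialLinear (Fin 4) F ∧ x ^ 5 = 1 ∧
      (∀ c : F, (x : Matrix (Fin 4) (Fin 4) F) ≠ c • (1 : Matrix (Fin 4) (Fin 4) F)) ∧
      (x : Matrix (Fin 4) (Fin 4) F).trace *
        ((x⁻¹ : GL (Fin 4) F) : Matrix (Fin 4) (Fin 4) F).trace ≠ 1 := by
  classical
  have f5 : Fact (Nat.Prime 5) := ⟨by norm_num⟩
  have hp : p.Prime := Fact.out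
  have hp2 : p ≠ 2 := by
    rintro rfl
    apply h2
    have h0 := CharP.cast_eq_zero F 2
    exact_mod_cast h0
  have hp5' : p ≠ 5 := by
    rintro rfl
    omega
  have h5 : (5 : F) ≠ 0 := by
    intro h
    have h' : ((5 : ℕ) : F) = 0 := by exact_mod_cast h
    rw [CharP.cast_eq_zero_iff F p] at h'
    exact hp5' ((Nat.prime_dvd_prime_iff_eq hp (by norm_num)).mp h')
  have h4 : (4 : F) ≠ 0 := by
    have e : (4 : F) = 2 * 2 := by norm_num
    rw [e]
    exact mul_ne_zero h2 h2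
  -- a square root of `5` in the prime field
  have hsq5 : IsSquare ((p : ℕ) : ZMod 5) := by
    rcases hp5 with h | h
    · have e : ((p : ℕ) : ZMod 5) = ((1 : ℕ) : ZMod 5) :=
        (ZMod.natCast_eq_natCast_iff' p 1 5).mpr (by rw [h])
      rw [e]
      exact ⟨1, by rw [Nat.cast_one, mul_one]⟩
    · have e : ((p : ℕ) : ZMod 5) = ((4 : ℕ) : ZMod 5) :=
        (ZMod.natCast_eq_natCast_iff' p 4 5).mpr (by rw [h])
      rw [e]
      exact ⟨2, by norm_num⟩
  obtain ⟨s, hs⟩ := (ZMod.exists_sq_eq_prime_iff_of_mod_four_eq_one (p := 5) (q := p)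
    (by norm_num) hp2).mp hsq5
  obtain ⟨S, hSdef⟩ : ∃ S : F, S = ZMod.castHom (dvd_refl p) F s := ⟨_, rfl⟩
  have hS : S * S = 5 := by
    rw [hSdef, ← map_mul, ← hs, map_natCast]
    norm_num
  have hSp : S ^ p = S := by
    rw [hSdef, ← map_pow, ZMod.pow_card]
  obtain ⟨u, hu4⟩ : ∃ u : F, 4 * u = S - 1 := ⟨(S - 1) / 4, by field_simp⟩
  have h1 : 4 * u ^ 2 + 2 * u - 1 = 0 := by
    have h0 : 4 * (4 * u ^ 2 + 2 * u - 1) = 0 := by
      linear_combination hS + (4 * u + 1 + S) * hu4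
    exact (mul_eq_zero.mp h0).resolve_left h4
  obtain ⟨σ, hσ⟩ := exists_sigma hF
  have hσS : σ S = S := by rw [hσ.pow, hSp]
  have hσu : σ u = u := by
    have h0 : 4 * σ u = 4 * u := by
      calc 4 * σ u = σ 4 * σ u := by rw [map_ofNat]
        _ = σ (4 * u) := (map_mul σ 4 u).symm
        _ = σ (S - 1) := by rw [hu4]
        _ = S - 1 := by rw [map_sub, map_one, hσS]
        _ = 4 * u := hu4.symm
    exact mul_left_cancel₀ h4 h0
  have ha0 : 1 - u ^ 2 ≠ 0 := by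
    intro h
    apply h5
    linear_combination (-4 * (2 * u - 2)) * h + (-(2 * u - 3)) * h1
  have hσa : σ (1 - u ^ 2) = 1 - u ^ 2 := by
    rw [map_sub, map_one, map_pow, hσu]
  obtain ⟨b, hb⟩ := hσ.exists_norm_eq hF (1 - u ^ 2) hσa ha0
  obtain ⟨c, hc⟩ : ∃ c : F, c = σ b := ⟨_, rfl⟩
  rw [← hc] at hb
  have hσb : σ b = c := hc.symm
  have hσc : σ c = b := by rw [hc, hσ.inv]
  -- the matrices
  obtain ⟨M, hM⟩ : ∃ M : Matrix (Fin 4) (Fin 4) F,
      M = !![u, b, 0, 0; -c, u, 0, 0; 0, 0, 1, 0; 0, 0, 0, 1] := ⟨_, rfl⟩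
  obtain ⟨M', hM'⟩ : ∃ M' : Matrix (Fin 4) (Fin 4) F,
      M' = !![u, -b, 0, 0; c, u, 0, 0; 0, 0, 1, 0; 0, 0, 0, 1] := ⟨_, rfl⟩
  obtain ⟨M2, hM2⟩ : ∃ M2 : Matrix (Fin 4) (Fin 4) F,
      M2 = !![2 * u * u - 1, 2 * u * b, 0, 0; -(2 * u * c), 2 * u * u - 1, 0, 0; 0, 0, 1, 0;
        0, 0, 0, 1] := ⟨_, rfl⟩
  have hMM' : M * M' = 1 := by
    rw [hM, hM']
    ext i j
    fin_cases i <;> fin_cases j <;>
      simp [Matrix.mul_apply, Fin.sum_univ_four, Matrix.one_apply] <;>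
      first | ring1 | linear_combination hb | linear_combination (-1 : F) * hb
  have hM'M : M' * M = 1 := by
    rw [hM, hM']
    ext i j
    fin_cases i <;> fin_cases j <;>
      simp [Matrix.mul_apply, Fin.sum_univ_four, Matrix.one_apply] <;>
      first | ring1 | linear_combination hb | linear_combination (-1 : F) * hb
  have hsq : M * M = M2 := by
    rw [hM, hM2]
    ext i j
    fin_cases i <;> fin_cases j <;>
      simp [Matrix.mul_apply, Fin.sum_univ_four] <;>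
      first | ring1 | linear_combination hb | linear_combination (-1 : F) * hb
  have hfour : M2 * M2 = M' := by
    rw [hM2, hM']
    ext i j
    fin_cases i <;> fin_cases j <;>
      simp [Matrix.mul_apply, Fin.sum_univ_four] <;>
      first
        | ring1
        | linear_combination (-4 * u ^ 2) * hb + (2 * u ^ 2 - u - 1) * h1
        | linear_combination (b * (2 * u - 1)) * h1
        | linear_combination (-c * (2 * u - 1)) * h1
  have hpow5 : M ^ 5 = 1 := by
    have e : M ^ 5 = (M * M) * (M * M) * M := by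
      simp only [pow_succ, pow_zero, one_mul, mul_assoc]
    rw [e, hsq, hfour, hM'M]
  have hunit : Mᵀ * M.map σ = 1 := by
    rw [hM]
    ext i j
    fin_cases i <;> fin_cases j <;>
      simp [Matrix.mul_apply, Fin.sum_univ_four, Matrix.one_apply, Matrix.transpose_apply,
        Matrix.map_apply, hσu, hσb, hσc] <;>
      first | ring1 | linear_combination hb | linear_combination (-1 : F) * hb
  have hdet : M.det = 1 := by
    rw [e4u5_det_fin_four, hM]
    simp
    linear_combination hb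
  refine ⟨⟨M, M', hMM', hM'M⟩, ⟨?_, ?_⟩, ?_, ?_, ?_⟩
  · exact e4u5_mem_GU_of_matrix hσ _ hunit
  · show (⟨M, M', hMM', hM'M⟩ : GL (Fin 4) F) ∈
      (Matrix.GeneralLinearGroup.det : GL (Fin 4) F →* Fˣ).ker
    rw [MonoidHom.mem_ker]
    apply Units.ext
    rw [Matrix.GeneralLinearGroup.val_det_apply, Units.val_one]
    exact hdet
  · apply Units.ext
    rw [Units.val_pow_eq_pow_val, Units.val_one]
    exact hpow5
  · intro cc hcc
    have hcc' : M = cc • (1 : Matrix (Fin 4) (Fin 4) F) := hcc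
    have e00 := congrFun (congrFun hcc' 0) 0
    have e22 := congrFun (congrFun hcc' 2) 2
    rw [hM] at e00 e22
    simp at e00 e22
    apply h5
    have hu1 : u = 1 := by rw [e00, ← e22]
    rw [hu1] at h1
    linear_combination h1
  · show M.trace * M'.trace ≠ 1
    intro h
    rw [hM, hM'] at h
    simp [Matrix.trace, Fin.sum_univ_four] at h
    have hE : (2 * u + 2) * (2 * u + 2) = 1 := by linear_combination h
    apply h5
    linear_combination (3 * (2 * u) - 1) * hE - (3 * (2 * u) - 1) * h1 - 9 * h1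

end Cfsg.Agent.Helper83
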