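import Mathlib
import Cfsg.Agent.S0183

set_option autoImplicit false

/-!
# Groups in which every element has order `1` or a prime (EPO groups)
-/

namespace Cfsg.Agent.Helper83

/-- Every element has order `1` or a prime. -/
def EPO (G : Type*) [Group G] : Prop := ∀ g : G, orderOf g = 1 ∨ (orderOf g).Prime

theorem epo_subgroup {G : Type*} [Group G] (h : EPO G) (H : Subgroup G) : EPO H := by
  intro g
  have := h (g : G)
  rwa [Subgroup.orderOf_coe] at this

theorem epo_quotient {G : Type*} [Group G] (h : EPO G) (N : Subgroup G) [N.Normal] :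
    EPO (G ⧸ N) := by
  intro x
  obtain ⟨g, rfl⟩ := QuotientGroup.mk_surjective x
  have hd : orderOf (QuotientGroup.mk' N g) ∣ orderOf g := orderOf_map_dvd _ g
  rcases h g with h1 | hp
  · left
    rw [h1] at hd
    exact Nat.dvd_one.1 hd
  · rcases (Nat.dvd_prime hp).1 hd with h1 | h2
    · left; exact h1
    · right
      have : orderOf (QuotientGroup.mk' N g) = orderOf g := h2
      change (orderOf (QuotientGroup.mk' N g)).Prime
      rw [this]; exact hp

theorem epo_mulEquiv {G H : Type*} [Group G] [Group H] (h : EPO G) (e : G ≃* H) : EPO H := by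
  intro y
  have := h (e.symm y)
  rwa [MulEquiv.orderOf_eq] at this

/-- In an EPO group, the centraliser of an element of prime order `p` has exponent `p`. -/
theorem epo_cent_pow {G : Type*} [Group G] (h : EPO G) (g : G) {p : ℕ} (hp : p.Prime)
    (hg : orderOf g = p) (c : G) (hc : c ∈ Subgroup.centralizer ({g} : Set G)) : c ^ p = 1 := by
  have hcomm : Commute g c := Subgroup.mem_centralizer_iff.1 hc g (Set.mem_singleton g)
  rcases h c with h1 | hq
  · rw [orderOf_eq_one_iff.1 h1, one_pow]
  · by_cases hqp : orderOf c = p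
    · rw [← hqp]; exact pow_orderOf_eq_one c
    · exfalso
      have hco : (orderOf g).Coprime (orderOf c) := by
        rw [hg]; exact (Nat.coprime_primes hp hq).2 (fun hh => hqp hh.symm)
      have hmul := hcomm.orderOf_mul_eq_mul_orderOf_of_coprime hco
      rcases h (g * c) with h1 | hpr
      · rw [hmul, hg] at h1
        have := Nat.eq_one_of_mul_eq_one_right h1
        exact hp.one_lt.ne' this
      · rw [hmul, hg] at hpr
        exact Nat.not_prime_mul hp.one_lt.ne' hq.one_lt.ne' hpr

theorem epo_cn {G : Type*} [Group G] [Finite G] (h : EPO G) : Cfsg.IsCNGroup G := by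
  intro g hg
  have hp : (orderOf g).Prime := by
    rcases h g with h1 | hp
    · exact absurd (orderOf_eq_one_iff.1 h1) hg
    · exact hp
  have : Fact (orderOf g).Prime := ⟨hp⟩
  have hP : IsPGroup (orderOf g) (Subgroup.centralizer ({g} : Set G)) := by
    intro c
    refine ⟨1, ?_⟩
    rw [pow_one]
    apply Subtype.ext
    rw [Subgroup.coe_pow]
    exact epo_cent_pow h g hp rfl c.1 c.2
  exact hP.isNilpotent

theorem epo_odd_solvable {G : Type*} [Group G] [Finite G] (h : EPO G)
    (hodd : Odd (Nat.card G)) : Group.IsSolvable G :=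
  Cfsg.Agent.S0183.result hodd (epo_cn h)

/-- The hypothesis on centralisers of involutions. -/
theorem epo_cent_invol {G : Type*} [Group G] (h : EPO G) (t : G) (ht : orderOf t = 2) :
    IsMulCommutative (Subgroup.centralizer ({t} : Set G)) ∧
      ∀ c ∈ Subgroup.centralizer ({t} : Set G), c ^ 2 = 1 := by
  have h2 : ∀ c ∈ Subgroup.centralizer ({t} : Set G), c ^ 2 = 1 :=
    fun c hc => epo_cent_pow h t Nat.prime_two ht c hc
  refine ⟨⟨⟨fun a b => ?_⟩⟩, h2⟩
  have ha : (a : G) ^ 2 = 1 := h2 a.1 a.2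
  have hb : (b : G) ^ 2 = 1 := h2 b.1 b.2
  have hab : ((a : G) * b) ^ 2 = 1 := h2 _ (mul_mem a.2 b.2)
  apply Subtype.ext
  rw [Subgroup.coe_mul, Subgroup.coe_mul]
  have e1 : (a : G)⁻¹ = a := by rw [inv_eq_iff_mul_eq_one, ← sq]; exact ha
  have e2 : (b : G)⁻¹ = b := by rw [inv_eq_iff_mul_eq_one, ← sq]; exact hb
  have e3 : ((a : G) * b)⁻¹ = a * b := by rw [inv_eq_iff_mul_eq_one, ← sq]; exact hab
  calc (a : G) * b = ((a : G) * b)⁻¹ := e3.symm
    _ = (b : G)⁻¹ * (a : G)⁻¹ := mul_inv_rev _ _
    _ = b * a := by rw [e1, e2]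

/-- Elements of a Sylow `2`-subgroup of an EPO group square to one. -/
theorem epo_sylow_sq {G : Type*} [Group G] (h : EPO G) (T : Sylow 2 G) (x : G)
    (hx : x ∈ (T : Subgroup G)) : x ^ 2 = 1 := by
  obtain ⟨k, hk⟩ := (T.2 ⟨x, hx⟩)
  have hk' : x ^ 2 ^ k = 1 := by
    have := congrArg Subtype.val hk
    simpa using this
  have hd : orderOf x ∣ 2 ^ k := orderOf_dvd_of_pow_eq_one hk'
  rcases h x with h1 | hp
  · rw [orderOf_eq_one_iff.1 h1, one_pow]
  · have : orderOf x = 2 := (Nat.prime_dvd_prime_iff_eq hp Nat.prime_two).1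
      (hp.dvd_of_dvd_pow hd)
    rw [← this]; exact pow_orderOf_eq_one x

theorem epo_sylow_comm {G : Type*} [Group G] (h : EPO G) (T : Sylow 2 G) (a b : G)
    (ha : a ∈ (T : Subgroup G)) (hb : b ∈ (T : Subgroup G)) : a * b = b * a := by
  have ha2 := epo_sylow_sq h T a ha
  have hb2 := epo_sylow_sq h T b hb
  have hab := epo_sylow_sq h T (a * b) (mul_mem ha hb)
  have e1 : a⁻¹ = a := by rw [inv_eq_iff_mul_eq_one, ← sq]; exact ha2
  have e2 : b⁻¹ = b := by rw [inv_eq_iff_mul_eq_one, ← sq]; exact hb2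
  have e3 : (a * b)⁻¹ = a * b := by rw [inv_eq_iff_mul_eq_one, ← sq]; exact hab
  calc a * b = (a * b)⁻¹ := e3.symm
    _ = b⁻¹ * a⁻¹ := mul_inv_rev _ _
    _ = b * a := by rw [e1, e2]

theorem epo_sylow_solvable {G : Type*} [Group G] (h : EPO G) (T : Sylow 2 G) :
    Group.IsSolvable (T : Subgroup G) :=
  Group.isSolvable_of_comm (fun a b => Subtype.ext (epo_sylow_comm h T a b a.2 b.2))

theorem epo_sylow2_not_normal {G : Type*} [Group G] [Finite G] (h : EPO G)
    (hns : ¬ Group.IsSolvable G) (T : Sylow 2 G) : ¬ (T : Subgroup G).Normal := by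
  intro hn
  have := hn
  have : Fact (Nat.Prime 2) := ⟨Nat.prime_two⟩
  have hodd : Odd (Nat.card (G ⧸ (T : Subgroup G))) := by
    rw [← Subgroup.index_eq_card, ← Nat.not_even_iff_odd, even_iff_two_dvd]
    exact T.not_dvd_index
  have : Group.IsSolvable (G ⧸ (T : Subgroup G)) :=
    epo_odd_solvable (epo_quotient h _) hodd
  have : Group.IsSolvable (T : Subgroup G) := epo_sylow_solvable h T
  exact hns (Group.isSolvable_of_ker_le_range (T : Subgroup G).subtype
    (QuotientGroup.mk' (T : Subgroup G)) (by simp))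

theorem epo_sylow2_not_cyclic {G : Type*} [Group G] [Finite G] (h : EPO G)
    (hns : ¬ Group.IsSolvable G) (T : Sylow 2 G) : ¬ IsCyclic (T : Subgroup G) := by
  intro hcyc
  have : Fact (Nat.Prime 2) := ⟨Nat.prime_two⟩
  obtain ⟨z, hz⟩ := hcyc.exists_generator
  -- every element of `T` is `1` or `z`
  have hz2 : (z : G) ^ 2 = 1 := epo_sylow_sq h T z.1 z.2
  have hall : ∀ x ∈ (T : Subgroup G), x = 1 ∨ x = (z : G) := by
    intro x hx
    have hx' : (⟨x, hx⟩ : (T : Subgroup G)) ∈ Subgroup.zpowers z := hz _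
    obtain ⟨k, hk⟩ := hx'
    have hk' : (z : G) ^ k = x := by
      have := congrArg Subtype.val hk
      simpa using this
    rcases Int.even_or_odd' k with ⟨m, rfl | rfl⟩
    · left
      rw [← hk', zpow_mul, zpow_ofNat, hz2, one_zpow]
    · right
      rw [← hk', zpow_add, zpow_mul, zpow_ofNat, hz2, one_zpow, one_mul, zpow_one]
  have hP : Subgroup.normalizer ((T : Subgroup G) : Set G) ≤
      Subgroup.centralizer ((T : Subgroup G) : Set G) := by
    intro g hg
    rw [Subgroup.mem_centralizer_iff]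
    intro x hx
    have hx' : x ∈ (T : Subgroup G) := hx
    have hgx : g * x * g⁻¹ ∈ (T : Subgroup G) := (Subgroup.mem_normalizer_iff.1 hg x).1 hx'
    rcases hall x hx' with rfl | rfl
    · simp
    · rcases hall _ hgx with h1 | h1
      · have : (z : G) = 1 := by
          have := congrArg (fun y => g⁻¹ * y * g) h1
          simpa [mul_assoc] using this
        rw [this]; simp
      · calc (z : G) * g = g * z * g⁻¹ * g := by rw [h1]
          _ = g * z := by group
  have hodd : Odd (Nat.card (MonoidHom.transferSylow T hP).ker) := by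
    rw [← Nat.not_even_iff_odd, even_iff_two_dvd]
    exact MonoidHom.not_dvd_card_ker_transferSylow T hP
  have : Group.IsSolvable (MonoidHom.transferSylow T hP).ker :=
    epo_odd_solvable (epo_subgroup h _) hodd
  have : Group.IsSolvable (T : Subgroup G) := epo_sylow_solvable h T
  exact hns (Group.isSolvable_of_ker_le_range (MonoidHom.transferSylow T hP).ker.subtype
    (MonoidHom.transferSylow T hP) (by simp))

end Cfsg.Agent.Helper83
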