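import Mathlib
import Cfsg.Agent.Helper83.EPO1
import Cfsg.Agent.Helper3.Burnside2

set_option autoImplicit false

/-!
# Four automorphism orbits: every element has prime order, and exactly three primes divide `|G|`
-/

namespace Cfsg.Agent.Helper83

theorem solvable_of_primeFactors_card_le_two {G : Type*} [Group G] [Finite G]
    (h : (Nat.card G).primeFactors.card ≤ 2) : Group.IsSolvable G := by
  have hn : Nat.card G ≠ 0 := Nat.card_pos.ne'
  have hprod : ∏ p ∈ (Nat.card G).primeFactors, p ^ (Nat.card G).factorization p = Nat.card G := by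
    have := Nat.prod_factorization_pow_eq_self hn
    rwa [Nat.prod_factorization_eq_prod_primeFactors] at this
  have hcases : (Nat.card G).primeFactors.card = 0 ∨ (Nat.card G).primeFactors.card = 1 ∨
      (Nat.card G).primeFactors.card = 2 := by omega
  rcases hcases with h0 | h1 | h2
  · rw [Finset.card_eq_zero] at h0
    rw [h0, Finset.prod_empty] at hprod
    exact Cfsg.Agent.Helper3.isSolvable_of_card_eq 2 3 0 0 Nat.prime_two Nat.prime_three
      (by rw [← hprod]; norm_num)
  · rw [Finset.card_eq_one] at h1
    obtain ⟨p, hp⟩ := h1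
    have hpp : p.Prime := Nat.prime_of_mem_primeFactors (by rw [hp]; exact Finset.mem_singleton_self p)
    rw [hp, Finset.prod_singleton] at hprod
    exact Cfsg.Agent.Helper3.isSolvable_of_card_eq p 2 ((Nat.card G).factorization p) 0 hpp
      Nat.prime_two (by rw [pow_zero, mul_one]; exact hprod.symm)
  · rw [Finset.card_eq_two] at h2
    obtain ⟨p, q, hpq, hp⟩ := h2
    have hpp : p.Prime := Nat.prime_of_mem_primeFactors (by rw [hp]; simp)
    have hqp : q.Prime := Nat.prime_of_mem_primeFactors (by rw [hp]; simp)
    rw [hp, Finset.prod_pair hpq] at hprod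
    exact Cfsg.Agent.Helper3.isSolvable_of_card_eq p q ((Nat.card G).factorization p)
      ((Nat.card G).factorization q) hpp hqp hprod.symm

theorem epo_of_orbits {G : Type*} [Group G] [Finite G] (hns : ¬ Group.IsSolvable G)
    (h4 : Nat.card (MulAction.orbitRel.Quotient (MulAut G) G) = 4) :
    EPO G ∧ (Nat.card G).primeFactors.card = 3 := by
  classical
  have : Fintype (MulAction.orbitRel.Quotient (MulAut G) G) := Fintype.ofFinite _
  let ord : MulAction.orbitRel.Quotient (MulAut G) G → ℕ :=
    Quotient.lift (fun g : G => orderOf g) (by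
      intro a b hab
      have hab' : a ∈ MulAction.orbit (MulAut G) b := hab
      obtain ⟨φ, rfl⟩ := hab'
      change orderOf (φ b) = orderOf b
      exact MulEquiv.orderOf_eq φ b)
  have hord : ∀ g : G, ord (Quotient.mk'' g) = orderOf g := fun g => rfl
  have hsub : insert 1 (Nat.card G).primeFactors ⊆ Finset.univ.image ord := by
    intro n hn
    rw [Finset.mem_insert] at hn
    rw [Finset.mem_image]
    rcases hn with rfl | hn
    · exact ⟨Quotient.mk'' 1, Finset.mem_univ _, by rw [hord, orderOf_one]⟩
    · have hp : n.Prime := Nat.prime_of_mem_primeFactors hn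
      have : Fact n.Prime := ⟨hp⟩
      obtain ⟨g, hg⟩ := exists_prime_orderOf_dvd_card' n (Nat.dvd_of_mem_primeFactors hn)
      exact ⟨Quotient.mk'' g, Finset.mem_univ _, by rw [hord, hg]⟩
  have hcardimg : (Finset.univ.image ord).card ≤ 4 := by
    refine le_trans Finset.card_image_le ?_
    rw [Finset.card_univ, ← Nat.card_eq_fintype_card, h4]
  have h1 : (1 : ℕ) ∉ (Nat.card G).primeFactors := fun h => Nat.not_prime_one
    (Nat.prime_of_mem_primeFactors h)
  have hcardins : (insert 1 (Nat.card G).primeFactors).card =
      (Nat.card G).primeFactors.card + 1 := Finset.card_insert_of_notMem h1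
  have hle := Finset.card_le_card hsub
  have hge : 3 ≤ (Nat.card G).primeFactors.card := by
    by_contra hlt
    exact hns (solvable_of_primeFactors_card_le_two (by omega))
  have h3 : (Nat.card G).primeFactors.card = 3 := by omega
  refine ⟨?_, h3⟩
  have heq : insert 1 (Nat.card G).primeFactors = Finset.univ.image ord :=
    Finset.eq_of_subset_of_card_le hsub (by omega)
  intro g
  have hg : orderOf g ∈ Finset.univ.image ord :=
    Finset.mem_image.2 ⟨Quotient.mk'' g, Finset.mem_univ _, hord g⟩
  rw [← heq, Finset.mem_insert] at hg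
  rcases hg with hg | hg
  · left; exact hg
  · right; exact Nat.prime_of_mem_primeFactors hg

end Cfsg.Agent.Helper83
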