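import Mathlib
import Cfsg.Agent.Helper83.EPO1
import Cfsg.Agent.Helper5.SLCard

set_option autoImplicit false

/-!
# `PSL₂(8)` has an element whose order is neither `1` nor a prime
-/

namespace Cfsg.Agent.Helper83

open Matrix

theorem char_two_of_card {F : Type*} [Field F] [Fintype F] (n : ℕ)
    (hF : Fintype.card F = 2 ^ n) : (2 : F) = 0 := by
  have h := Nat.cast_card_eq_zero F
  rw [hF] at h
  push_cast at h
  have hn : n ≠ 0 := by
    rintro rfl
    have := Fintype.one_lt_card (α := F)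
    rw [hF] at this
    simp at this
  exact (pow_eq_zero_iff hn).1 h

theorem card_psl2_char_two {F : Type*} [Field F] [Fintype F] (h2 : (2 : F) = 0) :
    Nat.card (Matrix.ProjectiveSpecialLinearGroup (Fin 2) F) =
      Fintype.card F * (Fintype.card F ^ 2 - 1) := by
  have h := Cfsg.Agent.Helper5.card_PSL2_mul (F := F)
  rw [Cfsg.Agent.Helper5.center_SL2_eq_bot h2, Subgroup.card_bot, mul_one] at h
  exact h

theorem exists_good_elt {F : Type*} [Field F] [Fintype F] (hF : Fintype.card F = 8) :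
    ∃ a : F, a ≠ 0 ∧ a ≠ 1 ∧ a ^ 3 + a ^ 2 + 1 ≠ 0 := by
  classical
  by_contra hcon
  push Not at hcon
  have hdeg : (Polynomial.X ^ 3 + Polynomial.X ^ 2 + 1 : Polynomial F).natDegree = 3 := by
    compute_degree!
  have hp : (Polynomial.X ^ 3 + Polynomial.X ^ 2 + 1 : Polynomial F) ≠ 0 := by
    intro h
    rw [h] at hdeg
    simp at hdeg
  have hsub : (Finset.univ : Finset F) ⊆
      {0, 1} ∪ (Polynomial.X ^ 3 + Polynomial.X ^ 2 + 1 : Polynomial F).roots.toFinset := by
    intro a _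
    rw [Finset.mem_union, Finset.mem_insert, Finset.mem_singleton, Multiset.mem_toFinset,
      Polynomial.mem_roots hp]
    by_cases h0 : a = 0
    · left; left; exact h0
    by_cases h1 : a = 1
    · left; right; exact h1
    right
    have := hcon a h0 h1
    simp [Polynomial.IsRoot, this]
  have hc1 := Finset.card_le_card hsub
  have hc2 := Finset.card_union_le ({0, 1} : Finset F)
    (Polynomial.X ^ 3 + Polynomial.X ^ 2 + 1 : Polynomial F).roots.toFinset
  have hc3 : ({0, 1} : Finset F).card ≤ 2 := Finset.card_le_two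
  have hc4 : (Polynomial.X ^ 3 + Polynomial.X ^ 2 + 1 : Polynomial F).roots.toFinset.card ≤ 3 := by
    refine le_trans (Multiset.toFinset_card_le
      (Polynomial.X ^ 3 + Polynomial.X ^ 2 + 1 : Polynomial F).roots) ?_
    have hcr := Polynomial.card_roots' (Polynomial.X ^ 3 + Polynomial.X ^ 2 + 1 : Polynomial F)
    rw [hdeg] at hcr
    exact hcr
  rw [Finset.card_univ, hF] at hc1
  omega

theorem psl2_eight_not_epo {F : Type*} [Field F] [Fintype F] (hF : Fintype.card F = 8) :
    ¬ EPO (Matrix.ProjectiveSpecialLinearGroup (Fin 2) F) := by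
  classical
  intro hepo
  have h2 : (2 : F) = 0 := char_two_of_card 3 (by rw [hF]; norm_num)
  obtain ⟨a, ha0, ha1, ha3⟩ := exists_good_elt hF
  have hdet : Matrix.det (!![0, 1; 1, a] : Matrix (Fin 2) (Fin 2) F) = 1 := by
    rw [Matrix.det_fin_two_of]; linear_combination (-1 : F) * h2
  let M : Matrix.SpecialLinearGroup (Fin 2) F := ⟨!![0, 1; 1, a], hdet⟩
  have hM1 : (M : Matrix (Fin 2) (Fin 2) F) = !![0, 1; 1, a] := rfl
  have hM2 : ((M ^ 2 : Matrix.SpecialLinearGroup (Fin 2) F) : Matrix (Fin 2) (Fin 2) F) =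
      !![1, a; a, a ^ 2 + 1] := by
    rw [Matrix.SpecialLinearGroup.coe_pow, hM1, pow_two, Matrix.mul_fin_two]
    ext i j; fin_cases i <;> fin_cases j <;> simp <;> ring
  have hM3 : ((M ^ 3 : Matrix.SpecialLinearGroup (Fin 2) F) : Matrix (Fin 2) (Fin 2) F) =
      !![a, a ^ 2 + 1; a ^ 2 + 1, a ^ 3 + 2 * a] := by
    rw [pow_succ, Matrix.SpecialLinearGroup.coe_mul, hM2, hM1, Matrix.mul_fin_two]
    ext i j; fin_cases i <;> fin_cases j <;> simp <;> ring
  have hM4 : ((M ^ 4 : Matrix.SpecialLinearGroup (Fin 2) F) : Matrix (Fin 2) (Fin 2) F) =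
      !![a ^ 2 + 1, a ^ 3 + 2 * a; a ^ 3 + 2 * a, a ^ 4 + 3 * a ^ 2 + 1] := by
    rw [pow_succ, Matrix.SpecialLinearGroup.coe_mul, hM3, hM1, Matrix.mul_fin_two]
    ext i j; fin_cases i <;> fin_cases j <;> simp <;> ring
  have hM7 : ((M ^ 7 : Matrix.SpecialLinearGroup (Fin 2) F) : Matrix (Fin 2) (Fin 2) F) 0 1 =
      a ^ 6 + 5 * a ^ 4 + 6 * a ^ 2 + 1 := by
    have e : M ^ 7 = M ^ 4 * M ^ 3 := by rw [← pow_add]
    rw [e, Matrix.SpecialLinearGroup.coe_mul, hM4, hM3, Matrix.mul_fin_two]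
    simp
    ring
  have key : ∀ k : ℕ, (QuotientGroup.mk M : Matrix.ProjectiveSpecialLinearGroup (Fin 2) F) ^ k = 1 →
      ((M ^ k : Matrix.SpecialLinearGroup (Fin 2) F) : Matrix (Fin 2) (Fin 2) F) 0 1 = 0 := by
    intro k hk
    have hmem : M ^ k ∈ Subgroup.center (Matrix.SpecialLinearGroup (Fin 2) F) := by
      rw [← QuotientGroup.eq_one_iff]; exact hk
    rw [Matrix.SpecialLinearGroup.mem_center_iff] at hmem
    obtain ⟨r, -, hr⟩ := hmem
    rw [← hr]
    simp
  have hx1 : (QuotientGroup.mk M : Matrix.ProjectiveSpecialLinearGroup (Fin 2) F) ≠ 1 := by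
    intro h
    have := key 1 (by rw [pow_one]; exact h)
    rw [pow_one, hM1] at this
    simp at this
  have hcard : Nat.card (Matrix.ProjectiveSpecialLinearGroup (Fin 2) F) = 504 := by
    rw [card_psl2_char_two h2, hF]
    norm_num
  have hpr : (orderOf (QuotientGroup.mk M : Matrix.ProjectiveSpecialLinearGroup (Fin 2) F)).Prime := by
    rcases hepo (QuotientGroup.mk M) with h1 | hp
    · exact absurd (orderOf_eq_one_iff.1 h1) hx1
    · exact hp
  have hdvd : orderOf (QuotientGroup.mk M : Matrix.ProjectiveSpecialLinearGroup (Fin 2) F) ∣ 504 := by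
    rw [← hcard]; exact orderOf_dvd_natCard _
  have hcases : orderOf (QuotientGroup.mk M : Matrix.ProjectiveSpecialLinearGroup (Fin 2) F) = 2 ∨
      orderOf (QuotientGroup.mk M : Matrix.ProjectiveSpecialLinearGroup (Fin 2) F) = 3 ∨
      orderOf (QuotientGroup.mk M : Matrix.ProjectiveSpecialLinearGroup (Fin 2) F) = 7 := by
    have h504 : (504 : ℕ) = 2 ^ 3 * 3 ^ 2 * 7 := by norm_num
    rw [h504] at hdvd
    rcases (Nat.Prime.dvd_mul hpr).1 hdvd with h | h
    · rcases (Nat.Prime.dvd_mul hpr).1 h with h | h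
      · left; exact (Nat.prime_dvd_prime_iff_eq hpr Nat.prime_two).1 (hpr.dvd_of_dvd_pow h)
      · right; left
        exact (Nat.prime_dvd_prime_iff_eq hpr Nat.prime_three).1 (hpr.dvd_of_dvd_pow h)
    · right; right
      exact (Nat.prime_dvd_prime_iff_eq hpr (by norm_num)).1 h
  have hpow : ∀ k : ℕ,
      orderOf (QuotientGroup.mk M : Matrix.ProjectiveSpecialLinearGroup (Fin 2) F) = k →
      (QuotientGroup.mk M : Matrix.ProjectiveSpecialLinearGroup (Fin 2) F) ^ k = 1 := by
    intro k hk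
    rw [← hk]
    exact pow_orderOf_eq_one _
  rcases hcases with h | h | h
  · have := key 2 (hpow 2 h)
    rw [hM2] at this
    simp at this
    exact ha0 this
  · have := key 3 (hpow 3 h)
    rw [hM3] at this
    simp at this
    have h' : (a - 1) ^ 2 = 0 := by linear_combination this - a * h2
    have h'' := (pow_eq_zero_iff (two_ne_zero)).1 h'
    exact ha1 (by linear_combination h'')
  · have := key 7 (hpow 7 h)
    rw [hM7] at this
    have h' : (a ^ 3 + a ^ 2 + 1) ^ 2 = 0 := by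
      linear_combination this + (a ^ 5 - 2 * a ^ 4 + a ^ 3 - 2 * a ^ 2) * h2
    exact ha3 ((pow_eq_zero_iff (two_ne_zero)).1 h')

end Cfsg.Agent.Helper83
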