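-- helper83: piece c7c2 of CALL S4415 (helper63): `|T| = 32` and all elements of `T` outside `Z`
-- have the same square type.
import Cfsg.Prelude.Def_Transfer
import Cfsg.Prelude.Def_Solvable
import Cfsg.Agent.Helper63.N15Defs

set_option autoImplicit false
set_option linter.style.haveILetI false

namespace Cfsg.Agent.Helper83.N15

open Cfsg.Agent.Helper63.N15

variable {G : Type*} [Group G] [Finite G] {V : Type*} [AddCommGroup V] [Module (ZMod 3) V]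
  [Finite V] {ρ : Representation (ZMod 3) G V} {R : Subgroup G} {b q₁ q₂ q₃ : G} {v₁ v₂ v₃ : V}

omit [Finite G] [Finite V] in
theorem c7_inv_apply (ρ : Representation (ZMod 3) G V) (g : G) (v : V) :
    ρ g (ρ g⁻¹ v) = v := by
  rw [← Module.End.mul_apply, ← map_mul, mul_inv_cancel, map_one, Module.End.one_apply]

omit [Finite G] [Finite V] in
theorem c7_inj (c : Cfg ρ R b q₁ q₂ q₃ v₁ v₂ v₃) (a a' : G) (h : ∀ v, ρ a v = ρ a' v) :
    a = a' := by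
  have h1 : a * a'⁻¹ = 1 := by
    apply c.faith
    intro v
    rw [map_mul, Module.End.mul_apply, h, c7_inv_apply]
  exact mul_inv_eq_one.mp h1

omit [Finite G] [Finite V] in
theorem c7_Zcen (c : Cfg ρ R b q₁ q₂ q₃ v₁ v₂ v₃) (x : G) (hx : IsZ ρ x) (g : G) :
    x * g = g * x := by
  rcases hx with rfl | hx
  · rw [one_mul, mul_one]
  · apply c7_inj c
    intro v
    rw [map_mul, map_mul, Module.End.mul_apply, Module.End.mul_apply, hx, hx, map_neg]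

omit [Finite G] [Finite V] in
theorem c7_conj (c : Cfg ρ R b q₁ q₂ q₃ v₁ v₂ v₃) (x : G) (hx : IsZ ρ x) (g : G) :
    g * x * g⁻¹ = x := by
  rw [← c7_Zcen c x hx g, mul_inv_cancel_right]

omit [Finite G] [Finite V] in
theorem c7_Zsq (c : Cfg ρ R b q₁ q₂ q₃ v₁ v₂ v₃) (x : G) (hx : IsZ ρ x) : x * x = 1 := by
  rcases hx with rfl | hx
  · rw [one_mul]
  · apply c.faith
    intro v
    rw [map_mul, Module.End.mul_apply, hx, hx, neg_neg]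

/-- The subgroup `Z` of the elements that are trivial or act as `-1`. -/
def zs83 (c : Cfg ρ R b q₁ q₂ q₃ v₁ v₂ v₃) : Subgroup G where
  carrier := {x | IsZ ρ x}
  one_mem' := Or.inl rfl
  mul_mem' := by
    rintro x x' (rfl | hx) (rfl | hx')
    · exact Or.inl (one_mul 1)
    · rw [one_mul]
      exact Or.inr hx'
    · rw [mul_one]
      exact Or.inr hx
    · left
      apply c.faith
      intro v
      rw [map_mul, Module.End.mul_apply, hx', map_neg, hx, neg_neg]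
  inv_mem' := by
    rintro x (rfl | hx)
    · rw [inv_one]
      exact Or.inl rfl
    · right
      intro v
      have h := hx (ρ x⁻¹ v)
      rw [c7_inv_apply] at h
      exact (neg_eq_iff_eq_neg.mpr h).symm

omit [Finite G] [Finite V] in
theorem mem_zs83 (c : Cfg ρ R b q₁ q₂ q₃ v₁ v₂ v₃) (x : G) : x ∈ zs83 c ↔ IsZ ρ x := Iff.rfl

/-- The stabilizer of `t` modulo `Z` under conjugation. -/
def stab83 (c : Cfg ρ R b q₁ q₂ q₃ v₁ v₂ v₃) (t : G) : Subgroup G where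
  carrier := {g | IsZ ρ (g * t * g⁻¹ * t⁻¹)}
  one_mem' := by
    change IsZ ρ (1 * t * 1⁻¹ * t⁻¹)
    left
    group
  mul_mem' := by
    intro g h hg hh
    change IsZ ρ (g * h * t * (g * h)⁻¹ * t⁻¹)
    have e : g * h * t * (g * h)⁻¹ * t⁻¹ =
        g * (h * t * h⁻¹ * t⁻¹) * g⁻¹ * (g * t * g⁻¹ * t⁻¹) := by group
    rw [e, c7_conj c _ hh g]
    exact (zs83 c).mul_mem hh hg
  inv_mem' := by
    intro g hg
    change IsZ ρ (g⁻¹ * t * g⁻¹⁻¹ * t⁻¹)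
    have e : g⁻¹ * t * g⁻¹⁻¹ * t⁻¹ = g⁻¹ * (g * t * g⁻¹ * t⁻¹)⁻¹ * g⁻¹⁻¹ := by group
    rw [e, c7_conj c _ ((zs83 c).inv_mem hg) g⁻¹]
    exact (zs83 c).inv_mem hg

omit [Finite G] [Finite V] in
theorem mem_stab83 (c : Cfg ρ R b q₁ q₂ q₃ v₁ v₂ v₃) (t g : G) :
    g ∈ stab83 c t ↔ IsZ ρ (g * t * g⁻¹ * t⁻¹) := Iff.rfl

/-- The kernel of the conjugation action on `T` modulo `Z`. -/
def ker83 (c : Cfg ρ R b q₁ q₂ q₃ v₁ v₂ v₃) (T : Subgroup G) : Subgroup G where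
  carrier := {g | ∀ t ∈ T, g ∈ stab83 c t}
  one_mem' := fun t _ => (stab83 c t).one_mem
  mul_mem' := fun hg hh t ht => (stab83 c t).mul_mem (hg t ht) (hh t ht)
  inv_mem' := fun hg t ht => (stab83 c t).inv_mem (hg t ht)

omit [Finite G] [Finite V] in
theorem ker83_normal (c : Cfg ρ R b q₁ q₂ q₃ v₁ v₂ v₃) (T : Subgroup G) (hT : T.Normal) :
    (ker83 c T).Normal := by
  constructor
  intro g hg h t ht
  change IsZ ρ (h * g * h⁻¹ * t * (h * g * h⁻¹)⁻¹ * t⁻¹)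
  have ht' : h⁻¹ * t * h ∈ T := by
    have := hT.conj_mem t ht h⁻¹
    rwa [inv_inv] at this
  have e : h * g * h⁻¹ * t * (h * g * h⁻¹)⁻¹ * t⁻¹ =
      h * (g * (h⁻¹ * t * h) * g⁻¹ * (h⁻¹ * t * h)⁻¹) * h⁻¹ := by group
  rw [e, c7_conj c _ (hg _ ht') h]
  exact hg _ ht'

/-- The elements of `T` fixed by `b` modulo `Z`. -/
def fixb83 (c : Cfg ρ R b q₁ q₂ q₃ v₁ v₂ v₃) (T : Subgroup G) : Subgroup G where
  carrier := {t | t ∈ T ∧ IsZ ρ (b * t * b⁻¹ * t⁻¹)}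
  one_mem' := ⟨T.one_mem, Or.inl (by group)⟩
  mul_mem' := by
    rintro t t' ⟨ht, h⟩ ⟨ht', h'⟩
    refine ⟨T.mul_mem ht ht', ?_⟩
    have e : b * (t * t') * b⁻¹ * (t * t')⁻¹ =
        (b * t * b⁻¹ * t⁻¹) * (t * (b * t' * b⁻¹ * t'⁻¹) * t⁻¹) := by group
    rw [e, c7_conj c _ h' t]
    exact (zs83 c).mul_mem h h'
  inv_mem' := by
    rintro t ⟨ht, h⟩
    refine ⟨T.inv_mem ht, ?_⟩
    have e : b * t⁻¹ * b⁻¹ * t⁻¹⁻¹ = t⁻¹ * (b * t * b⁻¹ * t⁻¹)⁻¹ * t⁻¹⁻¹ := by group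
    rw [e, c7_conj c _ ((zs83 c).inv_mem h) t⁻¹]
    exact (zs83 c).inv_mem h

omit [Finite G] [Finite V] in
theorem mem_fixb83 (c : Cfg ρ R b q₁ q₂ q₃ v₁ v₂ v₃) (T : Subgroup G) (t : G) :
    t ∈ fixb83 c T ↔ t ∈ T ∧ IsZ ρ (b * t * b⁻¹ * t⁻¹) := Iff.rfl

omit [Finite G] in
theorem c7_quot (N : Subgroup G) [hN : N.Normal] (b y : G) (hb3 : b ^ 3 = 1) (hy5 : y ^ 5 = 1)
    (hby : b * y * b⁻¹ * y⁻¹ ∈ N) :
    y⁻¹ * (b * y) ^ 6 ∈ N ∧ b⁻¹ * (b * y) ^ 10 ∈ N ∧ (b * y) ^ 15 ∈ N := by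
  have hker : ∀ x : G, QuotientGroup.mk' N x = 1 ↔ x ∈ N := fun x => by
    rw [← MonoidHom.mem_ker, QuotientGroup.ker_mk']
  obtain ⟨B, hB⟩ : ∃ B, B = QuotientGroup.mk' N b := ⟨_, rfl⟩
  obtain ⟨Y, hY⟩ : ∃ Y, Y = QuotientGroup.mk' N y := ⟨_, rfl⟩
  have hB3 : B ^ 3 = 1 := by rw [hB, ← map_pow, hb3, map_one]
  have hY5 : Y ^ 5 = 1 := by rw [hY, ← map_pow, hy5, map_one]
  have hBY : Commute B Y := by
    have h1 := (hker _).mpr hby
    rw [map_mul, map_mul, map_mul, map_inv, map_inv, ← hB, ← hY] at h1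
    exact mul_inv_eq_iff_eq_mul.mp (mul_inv_eq_one.mp h1)
  have b6 : B ^ 6 = 1 := by rw [show (6 : ℕ) = 3 * 2 from rfl, pow_mul, hB3, one_pow]
  have y6 : Y ^ 6 = Y := by rw [show (6 : ℕ) = 5 + 1 from rfl, pow_succ, hY5, one_mul]
  have b10 : B ^ 10 = B := by
    rw [show (10 : ℕ) = 3 * 3 + 1 from rfl, pow_succ, pow_mul, hB3, one_pow, one_mul]
  have y10 : Y ^ 10 = 1 := by rw [show (10 : ℕ) = 5 * 2 from rfl, pow_mul, hY5, one_pow]
  have b15 : B ^ 15 = 1 := by rw [show (15 : ℕ) = 3 * 5 from rfl, pow_mul, hB3, one_pow]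
  have y15 : Y ^ 15 = 1 := by rw [show (15 : ℕ) = 5 * 3 from rfl, pow_mul, hY5, one_pow]
  refine ⟨(hker _).mp ?_, (hker _).mp ?_, (hker _).mp ?_⟩
  · rw [map_mul, map_inv, map_pow, map_mul, ← hB, ← hY, hBY.mul_pow, b6, y6, one_mul,
      inv_mul_cancel]
  · rw [map_mul, map_inv, map_pow, map_mul, ← hB, ← hY, hBY.mul_pow, b10, y10, mul_one,
      inv_mul_cancel]
  · rw [map_pow, map_mul, ← hB, ← hY, hBY.mul_pow, b15, y15, one_mul]

theorem c7_mod : ∀ m : Fin 15, 0 < m.1 →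
    ∃ k : Fin 15, m.1 * k.1 % 15 = 6 ∨ m.1 * k.1 % 15 = 10 := by
  decide

theorem c7_div : ∀ d : Fin 33, d.1 ∣ 32 → d.1 % 5 = 2 → d.1 = 2 ∨ d.1 = 32 := by
  decide

theorem c7_pow2 : ∀ n : Fin 6, 3 ≤ 2 ^ n.1 → 2 ^ n.1 % 5 = 2 → 2 ^ n.1 = 32 := by
  decide

theorem c7_three (F : Subgroup G) (a b c : G) (ha : a ∈ F) (hb : b ∈ F) (hc : c ∈ F)
    (hab : a ≠ b) (hac : a ≠ c) (hbc : b ≠ c) : 3 ≤ Nat.card F := by
  have h1 : ({a, b, c} : Set G).ncard = 3 := Set.ncard_eq_three.mpr ⟨a, b, c, hab, hac, hbc, rfl⟩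
  have h2 : ({a, b, c} : Set G) ⊆ (F : Set G) := by
    intro x hx
    simp only [Set.mem_insert_iff, Set.mem_singleton_iff] at hx
    rcases hx with rfl | rfl | rfl
    · exact ha
    · exact hb
    · exact hc
  have h3 := Set.ncard_le_ncard h2 (Set.toFinite _)
  rw [h1] at h3
  exact h3

theorem c7c2_fp (F : Subgroup G) (y z : G) (hy5 : y ^ 5 = 1)
    (hyF : ∀ t ∈ F, y * t * y⁻¹ ∈ F) (hzF : z ∈ F) (hz1 : z ≠ 1)
    (hfix : ∀ t ∈ F, y * t * y⁻¹ = t ↔ (t = 1 ∨ t = z)) :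
    Nat.card F % 5 = 2 := by
  classical
  haveI : Fintype ↥F := Fintype.ofFinite ↥F
  have : Fact (Nat.Prime 5) := ⟨by norm_num⟩
  obtain ⟨f, hf⟩ : ∃ f : Function.End ↥F, ∀ t : ↥F, ((f t : ↥F) : G) = y * t.1 * y⁻¹ :=
    ⟨fun t => ⟨y * t.1 * y⁻¹, hyF t.1 t.2⟩, fun _ => rfl⟩
  have hf5 : f ^ 5 ^ 1 = 1 := by
    rw [pow_one]
    have e : f ^ 5 = f * f * f * f * f := by simp only [pow_succ, pow_zero, one_mul]
    rw [e]
    funext t
    apply Subtype.ext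
    change ((f (f (f (f (f t)))) : ↥F) : G) = t.1
    rw [hf, hf, hf, hf, hf]
    have hy5' : y * y * y * y * y = 1 := by
      rw [← hy5]
      simp only [pow_succ, pow_zero, one_mul]
    have e2 : y * (y * (y * (y * (y * t.1 * y⁻¹) * y⁻¹) * y⁻¹) * y⁻¹) * y⁻¹ =
        (y * y * y * y * y) * t.1 * (y * y * y * y * y)⁻¹ := by group
    rw [e2, hy5', inv_one, one_mul, mul_one]
  have h := Equiv.Perm.card_fixedPoints_modEq (p := 5) (n := 1) hf5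
  have hfp : Function.fixedPoints f = {(1 : ↥F), ⟨z, hzF⟩} := by
    ext t
    simp only [Set.mem_insert_iff, Set.mem_singleton_iff]
    change f t = t ↔ _
    constructor
    · intro ht
      have h1 : y * t.1 * y⁻¹ = t.1 := by rw [← hf, ht]
      rcases (hfix t.1 t.2).mp h1 with h2 | h2
      · left
        exact Subtype.ext h2
      · right
        exact Subtype.ext h2
    · intro ht
      apply Subtype.ext
      rw [hf]
      apply (hfix t.1 t.2).mpr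
      rcases ht with h2 | h2
      · left
        rw [h2]
        rfl
      · right
        rw [h2]
  have hne : (1 : ↥F) ≠ ⟨z, hzF⟩ := by
    intro h1
    exact hz1 (congrArg Subtype.val h1).symm
  have hc2 : Nat.card ↥(Function.fixedPoints f) = 2 := by
    rw [hfp, Nat.card_coe_set_eq, Set.ncard_pair hne]
  rw [Fintype.card_eq_nat_card, Fintype.card_eq_nat_card, hc2] at h
  exact h

omit [Finite G] in
theorem c7_conj_id (a w t : G) : w * t * w⁻¹ * t⁻¹ =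
    (t * a⁻¹) * ((a * t * a⁻¹)⁻¹ * (a * w * t * (a * w)⁻¹)) * (t * a⁻¹)⁻¹ := by
  group

/-- The orbit of `t` under `g₀` (and the identity element). -/
def c7_u (g₀ t : G) : Option (Fin 15) → G
  | none => 1
  | some k => g₀ ^ k.1 * t * (g₀ ^ k.1)⁻¹

omit [Finite G] [Finite V] in
theorem c7_u_inj (c : Cfg ρ R b q₁ q₂ q₃ v₁ v₂ v₃) (g₀ t : G) (htZ : ¬ IsZ ρ t)
    (hst : ∀ m : ℕ, 0 < m → m < 15 → g₀ ^ m ∉ stab83 c t) :
    ∀ x x' : Option (Fin 15), IsZ ρ ((c7_u g₀ t x)⁻¹ * c7_u g₀ t x') → x = x' := by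
  have hconjZ : ∀ g : G, ¬ IsZ ρ (g * t * g⁻¹) := by
    intro g h
    apply htZ
    have e : t = g⁻¹ * (g * t * g⁻¹) * g⁻¹⁻¹ := by group
    rw [e, c7_conj c _ h g⁻¹]
    exact h
  have hle : ∀ k k' : ℕ, k ≤ k' → k' < 15 →
      IsZ ρ ((g₀ ^ k * t * (g₀ ^ k)⁻¹)⁻¹ * (g₀ ^ k' * t * (g₀ ^ k')⁻¹)) → k = k' := by
    intro k k' hkk hk' h
    by_contra hne
    have hm0 : 0 < k' - k := by omega
    have hm15 : k' - k < 15 := by omega
    apply hst (k' - k) hm0 hm15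
    change IsZ ρ (g₀ ^ (k' - k) * t * (g₀ ^ (k' - k))⁻¹ * t⁻¹)
    have hk'e : g₀ ^ k' = g₀ ^ k * g₀ ^ (k' - k) := by
      rw [← pow_add]
      congr 1
      omega
    rw [hk'e] at h
    rw [c7_conj_id (g₀ ^ k) (g₀ ^ (k' - k)) t, c7_conj c _ h]
    exact h
  intro x x' h
  rcases x with _ | k <;> rcases x' with _ | k'
  · rfl
  · exfalso
    change IsZ ρ ((1 : G)⁻¹ * (g₀ ^ k'.1 * t * (g₀ ^ k'.1)⁻¹)) at h
    rw [inv_one, one_mul] at h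
    exact hconjZ _ h
  · exfalso
    change IsZ ρ ((g₀ ^ k.1 * t * (g₀ ^ k.1)⁻¹)⁻¹ * 1) at h
    rw [mul_one] at h
    exact hconjZ _ ((zs83 c).inv_mem_iff.mp h)
  · change IsZ ρ ((g₀ ^ k.1 * t * (g₀ ^ k.1)⁻¹)⁻¹ * (g₀ ^ k'.1 * t * (g₀ ^ k'.1)⁻¹)) at h
    rcases le_total k.1 k'.1 with hkk | hkk
    · exact congrArg some (Fin.ext (hle k.1 k'.1 hkk k'.2 h))
    · have h' : IsZ ρ ((g₀ ^ k'.1 * t * (g₀ ^ k'.1)⁻¹)⁻¹ * (g₀ ^ k.1 * t * (g₀ ^ k.1)⁻¹)) := by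
        have h2 := (zs83 c).inv_mem h
        rwa [mul_inv_rev, inv_inv] at h2
      exact congrArg some (Fin.ext (hle k'.1 k.1 hkk k.2 h').symm)

omit [Finite V] in
theorem c7_count (c : Cfg ρ R b q₁ q₂ q₃ v₁ v₂ v₃) (T : Subgroup G) (hcard : Nat.card T = 32)
    (z : G) (hzT : z ∈ T) (hzZ : IsZ ρ z) (hz1 : z ≠ 1) (u : Option (Fin 15) → G)
    (huT : ∀ x, u x ∈ T) (hinj : ∀ x x', IsZ ρ ((u x)⁻¹ * u x') → x = x') :
    ∀ t' ∈ T, ∃ x, IsZ ρ ((u x)⁻¹ * t') := by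
  obtain ⟨Ψ, hΨ⟩ : ∃ Ψ : Option (Fin 15) × ↥(zs83 c ⊓ T) → ↥T,
      ∀ p, ((Ψ p : ↥T) : G) = u p.1 * p.2.1 :=
    ⟨fun p => ⟨u p.1 * p.2.1, T.mul_mem (huT _) p.2.2.2⟩, fun _ => rfl⟩
  have hΨinj : Function.Injective Ψ := by
    intro p p' hpp
    have h : u p.1 * p.2.1 = u p'.1 * p'.2.1 := by rw [← hΨ, ← hΨ, hpp]
    have h1 : (u p.1)⁻¹ * u p'.1 = p.2.1 * (p'.2.1)⁻¹ := by
      calc (u p.1)⁻¹ * u p'.1 = (u p.1)⁻¹ * (u p'.1 * p'.2.1) * (p'.2.1)⁻¹ := by group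
        _ = (u p.1)⁻¹ * (u p.1 * p.2.1) * (p'.2.1)⁻¹ := by rw [h]
        _ = p.2.1 * (p'.2.1)⁻¹ := by group
    have h2 : p.1 = p'.1 := by
      apply hinj
      rw [h1]
      exact (zs83 c).mul_mem p.2.2.1 ((zs83 c).inv_mem p'.2.2.1)
    have h3 : p.2.1 = p'.2.1 := by
      rw [h2] at h
      exact mul_left_cancel h
    exact Prod.ext h2 (Subtype.ext h3)
  have hne : zs83 c ⊓ T ≠ ⊥ := by
    intro hbot
    have hz : z ∈ zs83 c ⊓ T := ⟨hzZ, hzT⟩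
    rw [hbot, Subgroup.mem_bot] at hz
    exact hz1 hz
  have h2 : 1 < Nat.card ↥(zs83 c ⊓ T) := (Subgroup.one_lt_card_iff_ne_bot _).mpr hne
  have hcd : Nat.card (Option (Fin 15) × ↥(zs83 c ⊓ T)) = 16 * Nat.card ↥(zs83 c ⊓ T) := by
    rw [Nat.card_prod]
    congr 1
    rw [Nat.card_eq_fintype_card, Fintype.card_option, Fintype.card_fin]
  have hbij : Function.Bijective Ψ := by
    apply hΨinj.bijective_of_nat_card_le
    rw [hcd, hcard]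
    omega
  intro t' ht'
  obtain ⟨p, hp⟩ := hbij.2 ⟨t', ht'⟩
  have hp' : u p.1 * p.2.1 = t' := by rw [← hΨ, hp]
  refine ⟨p.1, ?_⟩
  rw [← hp', inv_mul_cancel_left]
  exact p.2.2.1

theorem c7c2_aux (c : Cfg ρ R b q₁ q₂ q₃ v₁ v₂ v₃) (T : Subgroup G) (hT : T.Normal)
    (hT2 : IsPGroup 2 T) (hz : ZProps ρ T) (hTnZ : ∃ t ∈ T, ¬ IsZ ρ t)
    (hf2 : ∀ N : Subgroup G, N.Normal → (∀ x ∈ N, x * b = b * x) →
      ∀ x ∈ N, ∀ g : G, x * g = g * x)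
    (hlz : ∀ z : G, (∀ g : G, z * g = g * z) → IsZ ρ z)
    (h32 : Nat.card T ≤ 32) (y : G) (hy5 : y ^ 5 = 1)
    (hfpf : ∀ t ∈ T, IsZ ρ (y * t * y⁻¹ * t⁻¹) → IsZ ρ t)
    (hby : b * y * b⁻¹ * y⁻¹ ∈ T) :
    Nat.card T = 32 ∧ ∀ t ∈ T, ∀ t' ∈ T, ¬ IsZ ρ t → ¬ IsZ ρ t' →
      (t * t = 1 ↔ t' * t' = 1) := by
  obtain ⟨hzsq, hzcomm, hzcen⟩ := hz
  obtain ⟨t₀, ht₀, ht₀Z⟩ := hTnZ
  obtain ⟨z, hzT, hzZ, hz1⟩ : ∃ z ∈ T, IsZ ρ z ∧ z ≠ 1 := by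
    by_contra hno
    push Not at hno
    apply ht₀Z
    apply hzcen t₀ ht₀
    intro s hs
    have h1 := hzcomm t₀ ht₀ s hs
    have h2 : t₀ * s * t₀⁻¹ * s⁻¹ ∈ T :=
      T.mul_mem (T.mul_mem (T.mul_mem ht₀ hs) (T.inv_mem ht₀)) (T.inv_mem hs)
    have h3 := hno _ h2 h1
    exact mul_inv_eq_iff_eq_mul.mp (mul_inv_eq_one.mp h3)
  have hzm : ∀ v : V, ρ z v = -v := hzZ.resolve_left hz1
  have huniq : ∀ x : G, IsZ ρ x → x = 1 ∨ x = z := by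
    intro x hx
    rcases hx with hx | hx
    · exact Or.inl hx
    · right
      apply c7_inj c
      intro v
      rw [hx, hzm]
  have hfix : ∀ t ∈ T, y * t * y⁻¹ = t ↔ (t = 1 ∨ t = z) := by
    intro t ht
    constructor
    · intro h
      apply huniq
      apply hfpf t ht
      rw [h, mul_inv_cancel]
      exact Or.inl rfl
    · rintro (rfl | rfl)
      · group
      · exact c7_conj c _ hzZ y
  have ht₀1 : t₀ ≠ 1 := fun h => ht₀Z (Or.inl h)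
  have ht₀z : t₀ ≠ z := fun h => ht₀Z (h ▸ hzZ)
  have hcard : Nat.card T = 32 := by
    have hmod := c7c2_fp T y z hy5 (fun t ht => hT.conj_mem t ht y) hzT hz1 hfix
    obtain ⟨n, hn⟩ := (IsPGroup.iff_card).mp hT2
    have h3 : 3 ≤ Nat.card T :=
      c7_three T 1 z t₀ T.one_mem hzT ht₀ (Ne.symm hz1) (Ne.symm ht₀1) (Ne.symm ht₀z)
    rw [hn] at h32 h3 hmod ⊢
    have hn5 : n < 6 := by
      by_contra hge
      have h64 : 64 ≤ 2 ^ n :=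
        le_trans (by norm_num) (Nat.pow_le_pow_right (show 0 < 2 by norm_num)
          (show 6 ≤ n by omega))
      omega
    exact c7_pow2 ⟨n, hn5⟩ h3 hmod
  refine ⟨hcard, ?_⟩
  have hTN : T ≤ ker83 c T := fun s hs t ht => hzcomm s hs t ht
  haveI hNn : (ker83 c T).Normal := ker83_normal c T hT
  obtain ⟨hA6, hA10, hA15⟩ := c7_quot (ker83 c T) b y c.b3 hy5 (hTN hby)
  have hcore : ∀ t ∈ T, ¬ IsZ ρ t → ¬ IsZ ρ (b * t * b⁻¹ * t⁻¹) →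
      ∀ m : ℕ, 0 < m → m < 15 → (b * y) ^ m ∉ stab83 c t := by
    intro t ht htZ hbt m hm0 hm15 hmem
    have hNH : ker83 c T ≤ stab83 c t := fun g hg => hg t ht
    obtain ⟨k, hk⟩ := c7_mod ⟨m, hm15⟩ hm0
    have h1 : (b * y) ^ (m * k.1) ∈ stab83 c t := by
      rw [pow_mul]
      exact (stab83 c t).pow_mem hmem _
    have h2 : (b * y) ^ (m * k.1 % 15) ∈ stab83 c t := by
      have e : (b * y) ^ (m * k.1) =
          ((b * y) ^ 15) ^ (m * k.1 / 15) * (b * y) ^ (m * k.1 % 15) := by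
        rw [← pow_mul, ← pow_add, Nat.div_add_mod]
      rw [e] at h1
      exact ((stab83 c t).mul_mem_cancel_left ((stab83 c t).pow_mem (hNH hA15) _)).mp h1
    rcases hk with hk | hk
    · rw [hk] at h2
      have h3 : y⁻¹ ∈ stab83 c t := ((stab83 c t).mul_mem_cancel_right h2).mp (hNH hA6)
      have h4 : y ∈ stab83 c t := (stab83 c t).inv_mem_iff.mp h3
      exact htZ (hfpf t ht ((mem_stab83 c t y).mp h4))
    · rw [hk] at h2
      have h3 : b⁻¹ ∈ stab83 c t := ((stab83 c t).mul_mem_cancel_right h2).mp (hNH hA10)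
      have h4 : b ∈ stab83 c t := (stab83 c t).inv_mem_iff.mp h3
      exact hbt ((mem_stab83 c t b).mp h4)
  have hbfpf : ∀ t ∈ T, ¬ IsZ ρ t → ¬ IsZ ρ (b * t * b⁻¹ * t⁻¹) := by
    intro t ht htZ hbt
    have hFT : fixb83 c T ≤ T := fun x hx => hx.1
    have hzF : z ∈ fixb83 c T := by
      refine ⟨hzT, ?_⟩
      rw [c7_conj c z hzZ b, mul_inv_cancel]
      exact Or.inl rfl
    have hyF : ∀ x ∈ fixb83 c T, y * x * y⁻¹ ∈ fixb83 c T := by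
      rintro x ⟨hxT, hx⟩
      refine ⟨hT.conj_mem x hxT y, ?_⟩
      have e : b * (y * x * y⁻¹) * b⁻¹ * (y * x * y⁻¹)⁻¹ =
          (b * y * b⁻¹ * y⁻¹) * (y * (b * x * b⁻¹ * x⁻¹) * y⁻¹) * (b * y * b⁻¹ * y⁻¹)⁻¹ *
          ((b * y * b⁻¹ * y⁻¹) * (y * x * y⁻¹) * (b * y * b⁻¹ * y⁻¹)⁻¹ * (y * x * y⁻¹)⁻¹) := by
        group
      rw [e, c7_conj c _ hx y, c7_conj c _ hx _]
      exact (zs83 c).mul_mem hx (hzcomm _ hby _ (hT.conj_mem x hxT y))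
    have hmodF := c7c2_fp (fixb83 c T) y z hy5 hyF hzF hz1 (fun x hx => hfix x (hFT hx))
    have hdvd : Nat.card (fixb83 c T) ∣ 32 := hcard ▸ Subgroup.card_dvd_of_le hFT
    have htF : t ∈ fixb83 c T := ⟨ht, hbt⟩
    have h3 : 3 ≤ Nat.card (fixb83 c T) :=
      c7_three _ 1 z t (Subgroup.one_mem _) hzF htF (Ne.symm hz1)
        (fun h => htZ (Or.inl h.symm)) (fun h => htZ (h ▸ hzZ))
    have hle : Nat.card (fixb83 c T) ≤ 32 := Nat.le_of_dvd (by norm_num) hdvd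
    have h32' : Nat.card (fixb83 c T) = 32 := by
      rcases c7_div ⟨_, Nat.lt_succ_of_le hle⟩ hdvd hmodF with h | h
      · have h' : Nat.card (fixb83 c T) = 2 := h
        omega
      · exact h
    have hFeq : fixb83 c T = T := Subgroup.eq_of_le_of_card_ge hFT (by rw [h32', hcard])
    have hb2 : b * b = b⁻¹ := by
      apply eq_inv_of_mul_eq_one_left
      rw [← c.b3]
      simp only [pow_succ, pow_zero, one_mul]
    have hbcen : ∀ x ∈ T, x * b = b * x := by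
      intro x hx
      have hx' : x ∈ fixb83 c T := by
        rw [hFeq]
        exact hx
      have hζ0 : IsZ ρ (b * x * b⁻¹ * x⁻¹) := hx'.2
      obtain ⟨ζ, hζdef⟩ : ∃ ζ, ζ = b * x * b⁻¹ * x⁻¹ := ⟨_, rfl⟩
      have hζ : IsZ ρ ζ := by
        rw [hζdef]
        exact hζ0
      have h1 : b * x * b⁻¹ = ζ * x := by
        rw [hζdef]
        group
      have h2 : b * (b * x * b⁻¹) * b⁻¹ = x := by
        calc b * (b * x * b⁻¹) * b⁻¹
            = b * (ζ * x) * b⁻¹ := by rw [h1]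
          _ = (b * ζ * b⁻¹) * (b * x * b⁻¹) := by group
          _ = ζ * (ζ * x) := by rw [c7_conj c _ hζ b, h1]
          _ = (ζ * ζ) * x := by rw [mul_assoc]
          _ = x := by rw [c7_Zsq c _ hζ, one_mul]
      have h3 : b⁻¹ * x * b = x := by
        have h4 : (b * b) * x * (b * b)⁻¹ = x := by
          have e : (b * b) * x * (b * b)⁻¹ = b * (b * x * b⁻¹) * b⁻¹ := by group
          rw [e, h2]
        rwa [hb2, inv_inv] at h4
      calc x * b = b * (b⁻¹ * x * b) := by group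
        _ = b * x := by rw [h3]
    have hcenG := hf2 T hT hbcen
    exact ht₀Z (hlz t₀ (hcenG t₀ ht₀))
  have horb : ∀ t ∈ T, ¬ IsZ ρ t → ∀ t' ∈ T, ¬ IsZ ρ t' →
      ∃ g : G, IsZ ρ ((g * t * g⁻¹)⁻¹ * t') := by
    intro t ht htZ t' ht' ht'Z
    have hst := hcore t ht htZ (hbfpf t ht htZ)
    have huT : ∀ x, c7_u (b * y) t x ∈ T := by
      intro x
      rcases x with _ | k
      · exact T.one_mem
      · exact hT.conj_mem t ht _
    obtain ⟨x, hx⟩ := c7_count c T hcard z hzT hzZ hz1 (c7_u (b * y) t) huT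
      (c7_u_inj c (b * y) t htZ hst) t' ht'
    rcases x with _ | k
    · exfalso
      change IsZ ρ ((1 : G)⁻¹ * t') at hx
      rw [inv_one, one_mul] at hx
      exact ht'Z hx
    · exact ⟨(b * y) ^ k.1, hx⟩
  have hdir : ∀ t ∈ T, ¬ IsZ ρ t → ∀ t' ∈ T, ¬ IsZ ρ t' → t * t = 1 → t' * t' = 1 := by
    intro t ht htZ t' ht' ht'Z htt
    obtain ⟨g, hg⟩ := horb t ht htZ t' ht' ht'Z
    obtain ⟨ζ, hζ⟩ : ∃ ζ, ζ = (g * t * g⁻¹)⁻¹ * t' := ⟨_, rfl⟩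
    rw [← hζ] at hg
    have e : t' = (g * t * g⁻¹) * ζ := by rw [hζ, mul_inv_cancel_left]
    have hcomm := c7_Zcen c ζ hg (g * t * g⁻¹)
    calc t' * t' = (g * t * g⁻¹) * ζ * ((g * t * g⁻¹) * ζ) := by rw [← e]
      _ = (g * t * g⁻¹) * (ζ * (g * t * g⁻¹)) * ζ := by group
      _ = (g * t * g⁻¹) * ((g * t * g⁻¹) * ζ) * ζ := by rw [hcomm]
      _ = g * (t * t) * g⁻¹ * (ζ * ζ) := by group
      _ = 1 := by
          rw [htt, c7_Zsq c ζ hg]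
          group
  intro t ht t' ht' htZ ht'Z
  exact ⟨hdir t ht htZ t' ht' ht'Z, hdir t' ht' ht'Z t ht htZ⟩

/-- C7c2. -/
theorem c7c2 (c : Cfg ρ R b q₁ q₂ q₃ v₁ v₂ v₃) (htp : TProps R (T2 R))
    (hz : ZProps ρ (T2 R)) (hTnZ : ∃ t ∈ T2 R, ¬ IsZ ρ t)
    (hf2 : ∀ N : Subgroup G, N.Normal → (∀ x ∈ N, x * b = b * x) →
      ∀ x ∈ N, ∀ g : G, x * g = g * x)
    (hlz : ∀ z : G, (∀ g : G, z * g = g * z) → IsZ ρ z)
    (h32 : Nat.card (T2 R) ≤ 32) (y : G) (hy5 : y ^ 5 = 1)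
    (hfpf : ∀ t ∈ T2 R, IsZ ρ (y * t * y⁻¹ * t⁻¹) → IsZ ρ t)
    (hby : b * y * b⁻¹ * y⁻¹ ∈ T2 R) :
    Nat.card (T2 R) = 32 ∧ ∀ t ∈ T2 R, ∀ t' ∈ T2 R, ¬ IsZ ρ t → ¬ IsZ ρ t' →
      (t * t = 1 ↔ t' * t' = 1) :=
  c7c2_aux c (T2 R) htp.1 htp.2.2.1 hz hTnZ hf2 hlz h32 y hy5 hfpf hby

end Cfsg.Agent.Helper83.N15
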