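-- helper83: piece p1a of CALL S4415 (helper63), double: `[H, b] ≤ O_{3'}(S)` for `b` central in a
-- Sylow `3`-subgroup and normalizing the `2`-subgroup `H`.
import Cfsg.Prelude.Def_Transfer
import Cfsg.Prelude.Def_Solvable
import Cfsg.Agent.Helper63.N15Defs
import Cfsg.Agent.Helper1.PPrimeCore
import Cfsg.Agent.Helper22.SolvableCore

set_option autoImplicit false
set_option linter.style.haveILetI false

namespace Cfsg.Agent.Helper83.N15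

open Cfsg.Agent.Helper63.N15

variable {S : Type*} [Group S] [Finite S] {E : Type*} [AddCommGroup E] [Module (ZMod 3) E]
  [Finite E]

/-- P1a. -/
theorem p1a [Group.IsSolvable S] (P : Sylow 3 S) (b : S) (hbP : b ∈ (P : Subgroup S))
    (hbc : ∀ x ∈ (P : Subgroup S), x * b = b * x) (H : Subgroup S) (hH : IsPGroup 2 H)
    (hHb : ∀ h ∈ H, b * h * b⁻¹ ∈ H) :
    ∀ h ∈ H, b * h * b⁻¹ * h⁻¹ ∈ Cfsg.pPrimeCore 3 S := by
  haveI hKn : (Cfsg.pPrimeCore 3 S).Normal := Cfsg.Agent.Helper1.pPrimeCore_normal 3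
  haveI : Fact (Nat.Prime 3) := ⟨by norm_num⟩
  have hbot : Cfsg.pPrimeCore 3 (S ⧸ Cfsg.pPrimeCore 3 S) = ⊥ :=
    Cfsg.Agent.Helper1.pPrimeCore_quotient_eq_bot 3
  have hcen := Cfsg.Agent.Helper22.centralizer_pCore_le_of_isSolvable
    (G := S ⧸ Cfsg.pPrimeCore 3 S) 3 hbot
  obtain ⟨π, hπ⟩ : ∃ π : S →* S ⧸ Cfsg.pPrimeCore 3 S,
      π = QuotientGroup.mk' (Cfsg.pPrimeCore 3 S) := ⟨_, rfl⟩
  have hπs : Function.Surjective π := by
    rw [hπ]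
    exact QuotientGroup.mk'_surjective _
  have hker : π.ker = Cfsg.pPrimeCore 3 S := by
    rw [hπ]
    exact QuotientGroup.ker_mk' _
  have hO3p : IsPGroup 3 ↥(Cfsg.pCore 3 (S ⧸ Cfsg.pPrimeCore 3 S)) :=
    Sylow.sSup_of_normal _ (fun _ h => h.2) (fun _ h => h.1)
  haveI hO3n : (Cfsg.pCore 3 (S ⧸ Cfsg.pPrimeCore 3 S)).Normal :=
    Subgroup.sSup_normal _ (fun _ h => h.1)
  have hO3P : Cfsg.pCore 3 (S ⧸ Cfsg.pPrimeCore 3 S) ≤ (P : Subgroup S).map π := by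
    have h1 := hO3p.le_sylow_of_normal (P.mapSurjective hπs)
    rwa [Sylow.coe_mapSurjective] at h1
  have hbcen : π b ∈ Subgroup.centralizer
      ((Cfsg.pCore 3 (S ⧸ Cfsg.pPrimeCore 3 S) : Subgroup _) : Set _) := by
    rw [Subgroup.mem_centralizer_iff]
    intro x hx
    obtain ⟨x', hx'P, rfl⟩ := hO3P hx
    rw [← map_mul, ← map_mul, hbc x' hx'P]
  have hbO : π b ∈ Cfsg.pCore 3 (S ⧸ Cfsg.pPrimeCore 3 S) := hcen hbcen
  intro h hh
  have hcO : π (b * h * b⁻¹ * h⁻¹) ∈ Cfsg.pCore 3 (S ⧸ Cfsg.pPrimeCore 3 S) := by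
    have e : π (b * h * b⁻¹ * h⁻¹) = π b * (π h * (π b)⁻¹ * (π h)⁻¹) := by
      simp only [map_mul, map_inv, mul_assoc]
    rw [e]
    exact Subgroup.mul_mem _ hbO (hO3n.conj_mem _ (Subgroup.inv_mem _ hbO) _)
  have hcH : b * h * b⁻¹ * h⁻¹ ∈ H := H.mul_mem (hHb h hh) (H.inv_mem hh)
  obtain ⟨k, hk⟩ := hO3p ⟨_, hcO⟩
  obtain ⟨m, hm⟩ := hH ⟨_, hcH⟩
  have h1 : (π (b * h * b⁻¹ * h⁻¹)) ^ (3 ^ k) = 1 := by
    have := congrArg Subtype.val hk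
    simpa using this
  have h2 : (π (b * h * b⁻¹ * h⁻¹)) ^ (2 ^ m) = 1 := by
    have h3 : (b * h * b⁻¹ * h⁻¹) ^ (2 ^ m) = 1 := by
      have := congrArg Subtype.val hm
      simpa using this
    rw [← map_pow, h3, map_one]
  have hcop : Nat.Coprime (3 ^ k) (2 ^ m) := Nat.Coprime.pow _ _ (by norm_num)
  have h4 := pow_gcd_eq_one.mpr ⟨h1, h2⟩
  rw [Nat.Coprime.gcd_eq_one hcop, pow_one] at h4
  rw [← hker]
  exact MonoidHom.mem_ker.mpr h4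

end Cfsg.Agent.Helper83.N15
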