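import Mathlib
import Cfsg.Agent.Helper21.PEDefs

/-!
# S2276, piece COMM3 (helper83): the commutator of the `n`-cycle with an interval rotation is a
3-cycle
-/

set_option autoImplicit false

namespace Cfsg.Agent.Helper83.PECOMM3

open Equiv Cfsg.Agent.Helper21.PE

theorem pe_comm3 : Comm3Stmt := by
  intro n s t r τ hs hr0 hr hrot
  obtain ⟨hin, hout⟩ := hrot
  obtain ⟨n', rfl⟩ : ∃ n', n = n' + 1 := ⟨n - 1, by omega⟩
  have hmod : ∀ a : ℕ, a < 2 * t → a % t = if a < t then a else a - t := by
    intro a ha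
    split_ifs with h
    · exact Nat.mod_eq_of_lt h
    · rw [Nat.mod_eq_sub_mod (by omega), Nat.mod_eq_of_lt (by omega)]
  have hτv : ∀ x : Fin (n' + 1), (τ x).val = if s ≤ x.val ∧ x.val < s + t then
      (if x.val + r < s + t then x.val + r else x.val + r - t) else x.val := by
    intro x
    by_cases h1 : s ≤ x.val ∧ x.val < s + t
    · rw [if_pos h1, hin x h1.1 h1.2, hmod _ (by omega)]
      split_ifs <;> omega
    · rw [if_neg h1, hout x (by omega)]
  have hσ : ∀ x : Fin (n' + 1),
      (finRotate (n' + 1) x).val = if x.val = n' then 0 else x.val + 1 := by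
    intro x
    rw [coe_finRotate]
    by_cases h : x = Fin.last n'
    · rw [if_pos h, if_pos (by rw [h]; rfl)]
    · rw [if_neg h, if_neg (show ¬ (x.val = n') from fun h2 => h (Fin.ext h2))]
  obtain ⟨A, hA⟩ : ∃ A : Fin (n' + 1), A.val = s := ⟨⟨s, by omega⟩, rfl⟩
  obtain ⟨B, hB⟩ : ∃ B : Fin (n' + 1), B.val = s + r := ⟨⟨s + r, by omega⟩, rfl⟩
  obtain ⟨C, hC⟩ : ∃ C : Fin (n' + 1), C.val = s + t := ⟨⟨s + t, hs⟩, rfl⟩
  have hAB : A ≠ B := fun h => by
    have := congrArg Fin.val h
    omega
  have hAC : A ≠ C := fun h => by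
    have := congrArg Fin.val h
    omega
  have hBC : B ≠ C := fun h => by
    have := congrArg Fin.val h
    omega
  have hρ : ∀ z : Fin (n' + 1), (swap A B (swap A C z)).val =
      if z.val = s then s + t else if z.val = s + t then s + r else
        if z.val = s + r then s else z.val := by
    intro z
    by_cases h1 : z = A
    · rw [h1, swap_apply_left, swap_apply_of_ne_of_ne hAC.symm hBC.symm, if_pos hA, hC]
    · have h1' : z.val ≠ s := fun h => h1 (Fin.ext (h.trans hA.symm))
      by_cases h2 : z = C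
      · rw [h2, swap_apply_right, swap_apply_left, if_neg (by omega), if_pos hC, hB]
      · have h2' : z.val ≠ s + t := fun h => h2 (Fin.ext (h.trans hC.symm))
        rw [swap_apply_of_ne_of_ne h1 h2, if_neg h1', if_neg h2']
        by_cases h3 : z = B
        · rw [h3, swap_apply_right, if_pos hB, hA]
        · have h3' : z.val ≠ s + r := fun h => h3 (Fin.ext (h.trans hB.symm))
          rw [swap_apply_of_ne_of_ne h1 h3, if_neg h3']
  have key : finRotate (n' + 1) * τ * (finRotate (n' + 1))⁻¹ * τ⁻¹ = swap A B * swap A C := by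
    rw [mul_inv_eq_iff_eq_mul, mul_inv_eq_iff_eq_mul]
    apply Equiv.ext
    intro y
    apply Fin.ext
    show (finRotate (n' + 1) (τ y)).val
      = (swap A B (swap A C (τ (finRotate (n' + 1) y)))).val
    rw [hσ (τ y), hρ (τ (finRotate (n' + 1) y))]
    have ha := hτv y
    have hb := hτv (finRotate (n' + 1) y)
    have hu := hσ y
    generalize (τ y).val = a at ha ⊢
    generalize (τ (finRotate (n' + 1) y)).val = b at hb ⊢
    generalize (finRotate (n' + 1) y).val = u at hb hu
    generalize y.val = v at ha hu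
    split_ifs at ha hu hb ⊢ <;> omega
  have hAe : A = ⟨s, by omega⟩ := Fin.ext hA
  have hBe : B = ⟨s + r, by omega⟩ := Fin.ext hB
  have hCe : C = ⟨s + t, hs⟩ := Fin.ext hC
  rw [key]
  refine ⟨Perm.isThreeCycle_swap_mul_swap_same hAB hAC hBC, ?_⟩
  have hnd : [B, A, C].Nodup := by
    rw [List.nodup_cons, List.nodup_cons]
    simp only [List.mem_cons, List.not_mem_nil, or_false, List.nodup_singleton, and_true]
    exact ⟨fun h => h.elim (fun h => hAB h.symm) (fun h => hBC h), fun h => hAC h⟩
  rw [swap_comm A B, Perm.support_swap_mul_swap hnd, ← hAe, ← hBe, ← hCe]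
  ext z
  simp only [Finset.mem_insert, Finset.mem_singleton]
  tauto

end Cfsg.Agent.Helper83.PECOMM3
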