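import Mathlib
import Cfsg.Agent.Helper21.PEDefs

/-!
# S2276, piece RED (helper83): reduction to invariant subsets of equal size
-/

set_option autoImplicit false
set_option linter.style.haveILetI false

namespace Cfsg.Agent.Helper83.PERED

open Equiv Cfsg.Agent.Helper21.PE

/-- the setwise stabiliser of a finset -/
def stab {X : Type} (S : Finset X) : Subgroup (Perm X) where
  carrier := {f | ∀ x, f x ∈ S ↔ x ∈ S}
  mul_mem' := by
    intro a b ha hb x
    rw [Perm.mul_apply, ha, hb]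
  one_mem' := fun _ => Iff.rfl
  inv_mem' := by
    intro a ha x
    rw [← ha (a⁻¹ x)]
    have h1 : a (a⁻¹ x) = x := a.apply_symm_apply x
    rw [h1]

theorem mem_stab_iff {X : Type} (S : Finset X) (f : Perm X) :
    f ∈ stab S ↔ ∀ x, f x ∈ S ↔ x ∈ S := Iff.rfl

/-- restriction to the finset -/
def res {X : Type} (S : Finset X) : stab S →* Perm {x // x ∈ S} where
  toFun f := (f : Perm X).subtypePerm ((mem_stab_iff S f).mp f.2)
  map_one' := by
    ext x
    rfl
  map_mul' := by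
    intro a b
    ext x
    rfl

theorem res_apply {X : Type} (S : Finset X) (f : stab S) (y : {x // x ∈ S}) :
    ((res S f) y : X) = (f : Perm X) y := rfl

theorem mem_stab_of_inv {X : Type} (S : Finset X) (f : Perm X) (h : ∀ x ∈ S, f x ∈ S) :
    f ∈ stab S := by
  intro x
  constructor
  · intro hx
    have h1 := Perm.perm_symm_on_of_perm_on_finset h hx
    rwa [Equiv.symm_apply_apply] at h1
  · exact h x

theorem res_pow_order {X : Type} (S : Finset X) (p : ℕ) (hp : p.Prime) (f : stab S) (k : ℕ)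
    (h : orderOf (f : Perm X) = p ^ k) : ∃ j, orderOf (res S f) = p ^ j := by
  have h1 : f ^ (p ^ k) = 1 := by
    apply Subtype.ext
    rw [Subgroup.coe_pow, ← h, pow_orderOf_eq_one]
    rfl
  have h2 : (res S f) ^ (p ^ k) = 1 := by rw [← map_pow, h1, map_one]
  obtain ⟨j, -, hj⟩ := (Nat.dvd_prime_pow hp).mp (orderOf_dvd_of_pow_eq_one h2)
  exact ⟨j, hj⟩

theorem pe_red : RedStmt := by
  intro p X _ _ u w S T hp hu hw hcard hS2 huS hwT hmu hmw hT
  classical
  obtain ⟨h₀, hh₀⟩ : ∃ h : Perm X, ∀ x, h x ∈ S ↔ x ∈ T := by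
    obtain ⟨e⟩ : Nonempty ({x // x ∈ T} ≃ {x // x ∈ S}) := ⟨Finset.equivOfCardEq hcard.symm⟩
    refine ⟨e.extendSubtype, fun x => ⟨fun hx => ?_, fun hx => e.extendSubtype_mem x hx⟩⟩
    by_contra hxT
    exact e.extendSubtype_not_mem x hxT hx
  obtain ⟨h, hh, hsign⟩ : ∃ h : Perm X, (∀ x, h x ∈ S ↔ x ∈ T) ∧ Perm.sign h = 1 := by
    rcases Int.units_eq_one_or (Perm.sign h₀) with h1 | h1
    · exact ⟨h₀, hh₀, h1⟩
    · obtain ⟨a, ha, b, hb, hab⟩ := Finset.one_lt_card.mp (by omega : 1 < S.card)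
      refine ⟨swap a b * h₀, fun x => ?_, ?_⟩
      · rw [Perm.mul_apply, ← hh₀ x]
        have h2 : swap a b ∈ stab S := mem_stab_of_inv S (swap a b) (fun y hy => by
          rw [swap_apply_def]
          split_ifs <;> assumption)
        exact h2 _
      · rw [Perm.sign_mul, Perm.sign_swap hab, h1]
        rfl
  obtain ⟨w', hw'⟩ : ∃ w' : Perm X, w' = h * w * h⁻¹ := ⟨_, rfl⟩
  have hw'S : ∀ x ∈ S, w' x ∈ S := by
    intro x hx
    rw [hw', Perm.mul_apply, Perm.mul_apply, hh]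
    apply hwT
    rw [← hh]
    have h1 : h (h⁻¹ x) = x := h.apply_symm_apply x
    rw [h1]
    exact hx
  have huS' : u ∈ stab S := mem_stab_of_inv S u huS
  have hw'S' : w' ∈ stab S := mem_stab_of_inv S w' hw'S
  obtain ⟨û, hû⟩ : ∃ û : stab S, (û : Perm X) = u := ⟨⟨u, huS'⟩, rfl⟩
  obtain ⟨ŵ, hŵ⟩ : ∃ ŵ : stab S, (ŵ : Perm X) = w' := ⟨⟨w', hw'S'⟩, rfl⟩
  have hPEu : IsPE p (res S û) := by
    obtain ⟨hu1, k, hk⟩ := hu
    refine ⟨?_, ?_⟩
    · intro h1
      obtain ⟨x, hx, hux⟩ := hmu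
      apply hux
      have h2 : ((res S û) ⟨x, hx⟩ : X) = x := by rw [h1]; rfl
      rw [res_apply, hû] at h2
      exact h2
    · exact res_pow_order S p hp û k (by rw [hû]; exact hk)
  have hPEw : IsPE p (res S ŵ) := by
    obtain ⟨hw1, k, hk⟩ := hw
    refine ⟨?_, ?_⟩
    · intro h1
      obtain ⟨x, hx, hwx⟩ := hmw
      apply hwx
      have hhx : h x ∈ S := (hh x).mpr hx
      have h2 : ((res S ŵ) ⟨h x, hhx⟩ : X) = h x := by rw [h1]; rfl
      have h4 : h⁻¹ (h x) = x := h.symm_apply_apply x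
      rw [res_apply, hŵ, hw', Perm.mul_apply, Perm.mul_apply, h4] at h2
      exact h.injective h2
    · apply res_pow_order S p hp ŵ k
      rw [hŵ, hw', ← hk]
      have h3 : h * w * h⁻¹ = (MulAut.conj h) w := rfl
      rw [h3, MulEquiv.orderOf_eq]
  obtain ⟨g', hg'sign, hg'np, hg'ns⟩ :=
    hT {x // x ∈ S} (Fintype.card_coe S) (res S û) (res S ŵ) hPEu hPEw
  obtain ⟨ĝ, hĝ⟩ : ∃ ĝ : stab S, (ĝ : Perm X) = Perm.ofSubtype g' :=
    ⟨⟨Perm.ofSubtype g', fun x => Perm.ofSubtype_apply_mem_iff_mem g' x⟩, rfl⟩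
  have hresĝ : res S ĝ = g' := by
    ext y
    rw [res_apply, hĝ, Perm.ofSubtype_apply_coe]
  obtain ⟨vh, hvh⟩ : ∃ vh : stab S, vh = ĝ * ŵ * ĝ⁻¹ := ⟨_, rfl⟩
  have hresv : res S vh = g' * res S ŵ * g'⁻¹ := by
    rw [hvh, map_mul, map_mul, map_inv, hresĝ]
  have hv : Perm.ofSubtype g' * h * w * (Perm.ofSubtype g' * h)⁻¹ = (vh : Perm X) := by
    rw [hvh, Subgroup.coe_mul, Subgroup.coe_mul, Subgroup.coe_inv, hĝ, hŵ, hw']
    group
  refine ⟨Perm.ofSubtype g' * h, ?_, ?_, ?_⟩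
  · rw [Perm.sign_mul, Perm.sign_ofSubtype, hg'sign, hsign]
    rfl
  · rw [hv]
    rintro ⟨k, hk⟩
    apply hg'np
    have h1 : orderOf ((û * vh : stab S) : Perm X) = p ^ k := by
      rw [Subgroup.coe_mul, hû]
      exact hk
    obtain ⟨j, hj⟩ := res_pow_order S p hp (û * vh) k h1
    rw [map_mul, hresv] at hj
    exact ⟨j, hj⟩
  · rw [hv]
    intro hsol
    apply hg'ns
    obtain ⟨K', hK'⟩ : ∃ K' : Subgroup (stab S), K' = Subgroup.closure {û, vh} := ⟨_, rfl⟩
    have h1 : K'.map (stab S).subtype = Subgroup.closure {u, (vh : Perm X)} := by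
      rw [hK', MonoidHom.map_closure, Set.image_pair]
      show Subgroup.closure {(û : Perm X), (vh : Perm X)} = _
      rw [hû]
    rw [← h1] at hsol
    haveI := hsol
    haveI hsolK : Group.IsSolvable K' :=
      Group.isSolvable_of_isSolvable_injective
        (f := (K'.equivMapOfInjective (stab S).subtype (Subgroup.subtype_injective _)).toMonoidHom)
        (MulEquiv.injective _)
    have h2 : K'.map (res S) = Subgroup.closure {res S û, g' * res S ŵ * g'⁻¹} := by
      rw [hK', MonoidHom.map_closure, Set.image_pair, hresv]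
    rw [← h2]
    exact Group.isSolvable_of_surjective ((res S).subgroupMap_surjective K')

end Cfsg.Agent.Helper83.PERED
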