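import Mathlib
import Cfsg.Agent.Helper21.PEDefs
import Cfsg.Agent.Helper83.PERED

/-!
# S2276, piece GREEDY (helper83): invariant subsets of size `j * p^a` containing a moved point
-/

set_option autoImplicit false
set_option linter.style.haveILetI false

namespace Cfsg.Agent.Helper83.PEGREEDY

open Equiv Cfsg.Agent.Helper21.PE

open Classical in
/-- the orbit of `x` under `⟨w⟩`, as a finset -/
noncomputable def orb {X : Type} [Fintype X] (w : Perm X) (x : X) : Finset X :=
  Finset.univ.filter (fun y => ∃ g ∈ Subgroup.zpowers w, g x = y)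

theorem mem_orb {X : Type} [Fintype X] (w : Perm X) (x y : X) :
    y ∈ orb w x ↔ ∃ g ∈ Subgroup.zpowers w, g x = y := by
  classical
  unfold orb
  rw [Finset.mem_filter]
  exact ⟨fun h => h.2, fun h => ⟨Finset.mem_univ _, h⟩⟩

theorem self_mem_orb {X : Type} [Fintype X] (w : Perm X) (x : X) : x ∈ orb w x :=
  (mem_orb w x x).mpr ⟨1, one_mem _, rfl⟩

theorem orb_inv {X : Type} [Fintype X] (w : Perm X) (x y : X) (h : y ∈ orb w x) :
    w y ∈ orb w x := by
  obtain ⟨g, hg, rfl⟩ := (mem_orb w x y).mp h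
  exact (mem_orb w x _).mpr ⟨w * g, mul_mem (Subgroup.mem_zpowers w) hg, rfl⟩

theorem orb_disj {X : Type} [Fintype X] [DecidableEq X] (w : Perm X) (S : Finset X)
    (hS : ∀ x ∈ S, w x ∈ S) (x : X) (hx : x ∉ S) : Disjoint S (orb w x) := by
  rw [Finset.disjoint_left]
  intro y hyS hy
  obtain ⟨g, hg, rfl⟩ := (mem_orb w x y).mp hy
  apply hx
  have h1 : Subgroup.zpowers w ≤ PERED.stab S :=
    Subgroup.zpowers_le.mpr (PERED.mem_stab_of_inv S w hS)
  exact ((PERED.mem_stab_iff S g).mp (h1 hg) x).mp hyS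

theorem orb_card_dvd {X : Type} [Fintype X] (w : Perm X) (n : ℕ) (hw : w ^ n = 1) (x : X) :
    (orb w x).card ∣ n := by
  have h1 : ((orb w x : Finset X) : Set X) = MulAction.orbit (Subgroup.zpowers w) x := by
    ext y
    rw [Finset.mem_coe, mem_orb, MulAction.mem_orbit_iff]
    constructor
    · rintro ⟨g, hg, rfl⟩
      exact ⟨⟨g, hg⟩, rfl⟩
    · rintro ⟨g, rfl⟩
      exact ⟨g, g.2, rfl⟩
  have h2 : (orb w x).card = (MulAction.orbit (Subgroup.zpowers w) x).ncard := by
    rw [← h1, Set.ncard_coe_finset]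
  rw [h2, ← MulAction.index_stabilizer]
  have h3 := Subgroup.index_dvd_card (MulAction.stabilizer (Subgroup.zpowers w) x)
  rw [Nat.card_zpowers] at h3
  exact h3.trans (orderOf_dvd_of_pow_eq_one hw)

theorem orb_fixed {X : Type} [Fintype X] (w : Perm X) (x : X) (hx : w x = x) (y : X)
    (hy : y ∈ orb w x) : y = x := by
  obtain ⟨g, hg, rfl⟩ := (mem_orb w x y).mp hy
  have h1 : Subgroup.zpowers w ≤ MulAction.stabilizer (Perm X) x :=
    Subgroup.zpowers_le.mpr (MulAction.mem_stabilizer_iff.mpr hx)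
  exact MulAction.mem_stabilizer_iff.mp (h1 hg)

theorem dvd_of_le_of_dvd_pow {p a m₁ m₂ : ℕ} (hp : p.Prime) (h1 : m₁ ∣ p ^ a)
    (h2 : m₂ ∣ p ^ a) (hle : m₁ ≤ m₂) : m₁ ∣ m₂ := by
  obtain ⟨k₁, -, hk₁⟩ := (Nat.dvd_prime_pow hp).mp h1
  obtain ⟨k₂, -, hk₂⟩ := (Nat.dvd_prime_pow hp).mp h2
  rw [hk₁, hk₂] at hle ⊢
  exact pow_dvd_pow p ((Nat.pow_le_pow_iff_right hp.one_lt).mp hle)

theorem greedy_aux {X : Type} [Fintype X] [DecidableEq X] (p a : ℕ) (hp : p.Prime)
    (w : Perm X) (hw : w ^ (p ^ a) = 1) (N : ℕ) (hN : N ≤ Fintype.card X) :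
    ∀ d : ℕ, ∀ S : Finset X, (∀ x ∈ S, w x ∈ S) → S.card + d = N →
      (∀ y, y ∉ S → (orb w y).card ∣ d) →
      ∃ S' : Finset X, S ⊆ S' ∧ S'.card = N ∧ ∀ x ∈ S', w x ∈ S' := by
  intro d
  induction d using Nat.strong_induction_on with
  | _ d IH =>
    intro S hS hcard hdvd
    rcases Nat.eq_zero_or_pos d with h0 | h0
    · subst h0
      exact ⟨S, Finset.Subset.refl S, by omega, hS⟩
    · have hlt : S.card < Fintype.card X := by omega
      have hne : (Sᶜ).Nonempty := by
        rw [Finset.nonempty_iff_ne_empty]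
        intro h
        rw [Finset.compl_eq_empty_iff] at h
        rw [h, Finset.card_univ] at hlt
        omega
      obtain ⟨x, hxS, hmax⟩ := Finset.exists_max_image Sᶜ (fun y => (orb w y).card) hne
      rw [Finset.mem_compl] at hxS
      have hm := hdvd x hxS
      have hmle : (orb w x).card ≤ d := Nat.le_of_dvd h0 hm
      have hdisj := orb_disj w S hS x hxS
      have hpos : 0 < (orb w x).card := Finset.card_pos.mpr ⟨x, self_mem_orb w x⟩
      have key := IH (d - (orb w x).card) (by omega) (S ∪ orb w x) (by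
          intro y hy
          rcases Finset.mem_union.mp hy with h | h
          · exact Finset.mem_union_left _ (hS y h)
          · exact Finset.mem_union_right _ (orb_inv w x y h)) (by
          rw [Finset.card_union_of_disjoint hdisj]
          omega) (by
          intro y hy
          rw [Finset.mem_union, not_or] at hy
          have h1 := hdvd y hy.1
          have h2 : (orb w y).card ≤ (orb w x).card := hmax y (Finset.mem_compl.mpr hy.1)
          have h3 : (orb w y).card ∣ (orb w x).card :=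
            dvd_of_le_of_dvd_pow hp (orb_card_dvd w _ hw y) (orb_card_dvd w _ hw x) h2
          exact Nat.dvd_sub h1 h3)
      obtain ⟨S', hsub, hc, hinv⟩ := key
      exact ⟨S', (Finset.subset_union_left).trans hsub, hc, hinv⟩

theorem pe_greedy : GreedyStmt := by
  intro p X _ _ w a j hp hw hw1 hj hN
  classical
  obtain ⟨y, hy⟩ : ∃ y, w y ≠ y := by
    by_contra hcon
    apply hw1
    apply Equiv.ext
    intro z
    by_contra hz
    exact hcon ⟨z, hz⟩
  haveI : Nonempty X := ⟨y⟩
  obtain ⟨x₀, -, hmax⟩ := Finset.exists_max_image Finset.univ (fun z => (orb w z).card)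
    Finset.univ_nonempty
  have hpa : 0 < p ^ a := pow_pos hp.pos a
  have hNpos : 0 < j * p ^ a := Nat.mul_pos hj hpa
  have hm0 : (orb w x₀).card ∣ j * p ^ a := (orb_card_dvd w _ hw x₀).trans (dvd_mul_left _ _)
  have hm0le : (orb w x₀).card ≤ j * p ^ a := Nat.le_of_dvd hNpos hm0
  obtain ⟨S, hsub, hcard, hinv⟩ := greedy_aux p a hp w hw (j * p ^ a) hN
    (j * p ^ a - (orb w x₀).card) (orb w x₀) (fun z hz => orb_inv w x₀ z hz) (by omega) (by
      intro z _
      have h2 : (orb w z).card ≤ (orb w x₀).card := hmax z (Finset.mem_univ z)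
      have h3 : (orb w z).card ∣ (orb w x₀).card :=
        dvd_of_le_of_dvd_pow hp (orb_card_dvd w _ hw z) (orb_card_dvd w _ hw x₀) h2
      exact Nat.dvd_sub ((orb_card_dvd w _ hw z).trans (dvd_mul_left _ _)) h3)
  refine ⟨S, hcard, hinv, x₀, hsub (self_mem_orb w x₀), ?_⟩
  intro hfix
  have h1 : (orb w x₀).card ≤ 1 := Finset.card_le_one.mpr (fun a ha b hb => by
    rw [orb_fixed w x₀ hfix a ha, orb_fixed w x₀ hfix b hb])
  have h2 : 2 ≤ (orb w y).card := by
    have h4 : ({y, w y} : Finset X) ⊆ orb w y := by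
      intro z hz
      rcases Finset.mem_insert.mp hz with rfl | hz
      · exact self_mem_orb w _
      · rw [Finset.mem_singleton] at hz
        subst hz
        exact orb_inv w y y (self_mem_orb w y)
    have h3 := Finset.card_le_card h4
    rw [Finset.card_pair (Ne.symm hy)] at h3
    exact h3
  have h3 := hmax y (Finset.mem_univ y)
  omega

end Cfsg.Agent.Helper83.PEGREEDY
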