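import Mathlib
import Cfsg.Agent.Helper21.PEDefs

/-!
# S2276, piece REALA (helper83): `m ≥ 2` cycles of length `p^c`, `p ∤ m`, against the `n`-cycle
-/

set_option autoImplicit false

namespace Cfsg.Agent.Helper83.PEREALA

open Equiv Cfsg.Agent.Helper21.PE

theorem finRotate_val_of_lt (n : ℕ) (z : Fin n) (h : z.val + 1 < n) :
    (finRotate n z).val = z.val + 1 := by
  obtain ⟨n', rfl⟩ : ∃ n', n = n' + 1 := ⟨n - 1, by omega⟩
  rw [coe_finRotate, if_neg]
  intro h2
  rw [h2, Fin.val_last] at h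
  omega

theorem pe_reala : ShiftStmt → Comm3Stmt → CertStmt → RotStmt → GlueStmt → RealAStmt := by
  intro hShift hComm3 hCert hRot hGlue p n a c m hp hp3 hn hc hm hpm hlt
  obtain ⟨l, hl⟩ : ∃ l, l = p ^ c := ⟨_, rfl⟩
  rw [← hl] at hlt ⊢
  have hl3 : 3 ≤ l := by
    rw [hl]
    calc 3 ≤ p := hp3
      _ ≤ p ^ c := Nat.le_self_pow (by omega) p
  have hpl : p ∣ l := by
    rw [hl]
    exact dvd_pow_self p (by omega)
  have hcop : Nat.Coprime m l := by
    rw [hl]
    exact Nat.Coprime.pow_right c ((Nat.Prime.coprime_iff_not_dvd hp).mpr hpm).symm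
  obtain ⟨t, ht⟩ : ∃ t, t = m * l := ⟨_, rfl⟩
  rw [← ht] at hlt
  have ht6 : 6 ≤ t := by
    rw [ht]
    nlinarith
  have ht0 : 0 < t := by omega
  have hlt' : l ∣ t := by
    rw [ht]
    exact dvd_mul_left l m
  -- CRT
  obtain ⟨e, he1, het, hme, hle⟩ : ∃ e, 1 ≤ e ∧ e < t ∧ m ∣ e ∧ l ∣ e + 1 := by
    have hk := (Nat.chineseRemainder hcop 0 (l - 1)).2
    have hklt := Nat.chineseRemainder_lt_mul hcop 0 (l - 1) (by omega) (by omega)
    obtain ⟨k, hkdef⟩ : ∃ k : ℕ, k = (Nat.chineseRemainder hcop 0 (l - 1) : ℕ) := ⟨_, rfl⟩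
    rw [← hkdef] at hk hklt
    have h1 : m ∣ k := (Nat.modEq_zero_iff_dvd).mp hk.1
    have h2 : l ∣ k + 1 := by
      have h3 : k + 1 ≡ l - 1 + 1 [MOD l] := Nat.ModEq.add_right 1 hk.2
      have h4 : l - 1 + 1 = l := by omega
      rw [h4] at h3
      exact (Nat.modEq_zero_iff_dvd).mp (h3.trans (Nat.modEq_zero_iff_dvd.mpr (dvd_refl l)))
    refine ⟨k, ?_, by rw [ht]; exact hklt, h1, h2⟩
    rcases Nat.eq_zero_or_pos k with h0 | h0
    · rw [h0] at h2
      have h5 := Nat.le_of_dvd (by omega) h2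
      omega
    · exact h0
  have hgcd : Nat.gcd e t = m := by
    obtain ⟨e', rfl⟩ := hme
    rw [ht, Nat.gcd_mul_left]
    have h1 : Nat.Coprime e' l := by
      rw [hl]
      apply Nat.Coprime.pow_right
      apply Nat.Coprime.symm
      rw [Nat.Prime.coprime_iff_not_dvd hp]
      intro hpe
      have h2 : p ∣ m * e' + 1 := hpl.trans hle
      have h3 : p ∣ m * e' := Dvd.dvd.mul_left hpe m
      have h4 : p ∣ 1 := (Nat.dvd_add_right h3).mp h2
      exact hp.one_lt.ne' (Nat.dvd_one.mp h4)
    rw [Nat.Coprime.gcd_eq_one h1, mul_one]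
  obtain ⟨R, hRval, hRct⟩ := hRot t e ht0 (Nat.not_dvd_of_pos_of_lt he1 het)
  have htm : t / m = l := by
    rw [ht]
    exact Nat.mul_div_cancel_left l (by omega)
  rw [hgcd, htm] at hRct
  obtain ⟨k, hk⟩ : ∃ k, n = t + k := ⟨n - t, by omega⟩
  subst hk
  obtain ⟨τ, hτct, hτ1, hτ2⟩ := hGlue t k R 1
  have hτct' : τ.cycleType = Multiset.replicate m l := by
    rw [hτct, hRct, Perm.cycleType_one, add_zero]
  have hτin : ∀ x : Fin (t + k), x.val < t → (τ x).val = (x.val + e) % t := by
    intro x hx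
    have h1 := hτ1 ⟨x.val, hx⟩
    have h2 : Fin.castAdd k ⟨x.val, hx⟩ = x := Fin.ext rfl
    rw [h2, hRval] at h1
    exact h1
  have hτout : ∀ x : Fin (t + k), t ≤ x.val → τ x = x := by
    intro x hx
    have hx2 := x.2
    have h1 := hτ2 ⟨x.val - t, by omega⟩
    have h2 : Fin.natAdd t ⟨x.val - t, by omega⟩ = x := by
      apply Fin.ext
      rw [Fin.val_natAdd]
      show t + (x.val - t) = x.val
      omega
    rw [h2] at h1
    apply Fin.ext
    rw [h1]
    show t + (x.val - t) = x.val
    omega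
  have hrot : RotOn (t + k) 0 t e τ := by
    refine ⟨fun x _ hx => ?_, fun x hx => ?_⟩
    · rw [hτin x (by omega), Nat.sub_zero, Nat.zero_add]
    · exact hτout x (by omega)
  have hNS : ¬ Group.IsSolvable
      ↥(Subgroup.closure ({finRotate (t + k), τ} : Set (Perm (Fin (t + k))))) := by
    obtain ⟨h3c, hsupp⟩ := hComm3 (t + k) 0 t e τ (by omega) he1 het hrot
    have hσ : finRotate (t + k) ∈
        Subgroup.closure ({finRotate (t + k), τ} : Set (Perm (Fin (t + k)))) :=
      Subgroup.subset_closure (Set.mem_insert _ _)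
    have hτm : τ ∈ Subgroup.closure ({finRotate (t + k), τ} : Set (Perm (Fin (t + k)))) :=
      Subgroup.subset_closure (Set.mem_insert_of_mem _ rfl)
    refine hShift (t + k) _ _ ⟨0, by omega⟩ ⟨0 + e, by omega⟩ ⟨0 + t, by omega⟩ (by omega) ?_
      hσ (mul_mem (mul_mem (mul_mem hσ hτm) (inv_mem hσ)) (inv_mem hτm)) h3c ?_ ?_ hsupp ?_
    · rw [hn]
      exact (hp.odd_of_ne_two (by omega)).pow
    · rw [Fin.mk_lt_mk]
      omega
    · rw [Fin.mk_lt_mk]
      omega
    · rintro ⟨h1, -⟩
      have h1' : 0 + e - 0 = 0 + t - (0 + e) := h1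
      have h2 : 2 * e = t := by omega
      have h3 : l ∣ 2 * (e + 1) := Dvd.dvd.mul_left hle 2
      have h5 : l ∣ 2 := by
        have h6 : 2 * (e + 1) = t + 2 := by omega
        rw [h6] at h3
        exact (Nat.dvd_add_right hlt').mp h3
      have h7 := Nat.le_of_dvd (by omega) h5
      omega
  have hNP : ¬ ∃ j : ℕ, orderOf (finRotate (t + k) * τ) = p ^ j := by
    have h1t : 1 < t + k := by omega
    obtain ⟨ρ, hρ⟩ : ∃ ρ : Perm (Fin (t + k)), ρ = finRotate (t + k) * τ := ⟨_, rfl⟩
    rw [← hρ]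
    have hρval : ∀ z : Fin (t + k), z.val < t → (ρ z).val = (z.val + e) % t + 1 := by
      intro z hz
      have h1 := Nat.mod_lt (z.val + e) ht0
      rw [hρ, Perm.mul_apply, finRotate_val_of_lt _ _ (by rw [hτin z hz]; omega), hτin z hz]
    have horb : ∀ i : ℕ, ((ρ ^ i) ⟨1, h1t⟩).val = (1 + i * (e + 1)) % t := by
      intro i
      induction i with
      | zero =>
        rw [pow_zero, Nat.zero_mul, Nat.add_zero, Nat.mod_eq_of_lt (by omega)]
        rfl
      | succ i ih =>
        rw [pow_succ', Perm.mul_apply, hρval _ (by rw [ih]; exact Nat.mod_lt _ ht0), ih,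
          Nat.mod_add_mod]
        obtain ⟨B, hB⟩ : ∃ B, B = (1 + i * (e + 1) + e) % t := ⟨_, rfl⟩
        rw [← hB]
        have hlB : l ∣ B := by
          rw [hB, Nat.dvd_mod_iff hlt']
          have h1 : 1 + i * (e + 1) + e = (i + 1) * (e + 1) := by ring
          rw [h1]
          exact Dvd.dvd.mul_left hle _
        have hBt : B < t := by
          rw [hB]
          exact Nat.mod_lt _ ht0
        have hB1 : B + 1 < t := by
          obtain ⟨q, hq⟩ := hlB
          rw [hq, ht] at hBt
          rw [hq, ht]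
          have hqm : q < m := by
            by_contra hcon
            have hcon' : m ≤ q := by omega
            have h1 : m * l ≤ q * l := Nat.mul_le_mul_right l hcon'
            have h2 : q * l = l * q := mul_comm q l
            omega
          have h1 : (q + 1) * l ≤ m * l := Nat.mul_le_mul_right l hqm
          have h2 : (q + 1) * l = l * q + l := by ring
          omega
        have h2 : (1 + (i + 1) * (e + 1)) % t = (B + 1) % t := by
          rw [hB, Nat.mod_add_mod]
          congr 1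
          ring
        rw [h2, Nat.mod_eq_of_lt hB1]
    apply hCert p (Fin (t + k)) ρ ⟨1, h1t⟩ m hp ((Nat.Prime.coprime_iff_not_dvd hp).mpr hpm).symm
    · apply Fin.ext
      rw [horb m]
      show (1 + m * (e + 1)) % t = 1
      obtain ⟨q, hq⟩ := hle
      have h1 : 1 + m * (e + 1) = 1 + t * q := by
        rw [hq, ht]
        ring
      rw [h1, Nat.add_mul_mod_self_left, Nat.mod_eq_of_lt]
      omega
    · intro hfix
      have h1 := congrArg Fin.val hfix
      have h2 := horb 1
      rw [pow_one] at h2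
      rw [h2] at h1
      have he2 : e + 2 ≤ t := by
        by_contra hcon
        have h3 : m ∣ t := by
          rw [ht]
          exact dvd_mul_right m l
        have h4 : m ∣ 1 := by
          have h5 : t = e + 1 := by omega
          rw [h5] at h3
          exact (Nat.dvd_add_right hme).mp h3
        have h6 := Nat.le_of_dvd (by omega) h4
        omega
      rcases Nat.lt_or_ge (e + 2) t with h5 | h5
      · rw [Nat.mod_eq_of_lt (by omega)] at h1
        have h1' : 1 + 1 * (e + 1) = 1 := h1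
        omega
      · have h6 : 1 + 1 * (e + 1) = t := by omega
        rw [h6, Nat.mod_self] at h1
        have h1' : (0 : ℕ) = 1 := h1
        omega
  exact ⟨τ, hτct', hNP, hNS⟩

end Cfsg.Agent.Helper83.PEREALA
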