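/-
CALL S88OE (helper43), piece ELLMAP (double, helper83): `oe_ell_map`, statement verbatim from
tools/calls/S88OESkel.lean.txt.
-/
import Mathlib
import Cfsg.Prelude.Def_GeometricClasses
import Cfsg.Prelude.Def_Classical

set_option autoImplicit false

namespace Cfsg.Agent.Helper83.S88OE

open Module Polynomial Matrix Cfsg Cfsg.Geo
open scoped MatrixGroups

universe u

section conc

variable {ι : Type} [Fintype ι] [DecidableEq ι] {F : Type u} [Field F]

/-- ELLMAP: an isometry of `Q` maps elliptic subspaces to elliptic subspaces. -/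
theorem oe_ell_map (Q : (ι → F) → F) (g : GL ι F) (hg : g ∈ Cfsg.isometryGroup F Q)
    (W : Submodule F (ι → F)) (hnd : IsNondegenerateOn (QuadraticMap.polar Q) W)
    (hminus : ¬ IsPlusTypeOn Q W) :
    IsNondegenerateOn (QuadraticMap.polar Q) (W.map (Matrix.toLin' (g : Matrix ι ι F))) ∧
      ¬ IsPlusTypeOn Q (W.map (Matrix.toLin' (g : Matrix ι ι F))) ∧
      finrank F ↥(W.map (Matrix.toLin' (g : Matrix ι ι F))) = finrank F W := by
  have hQg : ∀ u, Q ((g : Matrix ι ι F) *ᵥ u) = Q u := fun u => hg u 0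
  set L : (ι → F) →ₗ[F] (ι → F) := Matrix.toLin' (g : Matrix ι ι F) with hL
  set Li : (ι → F) →ₗ[F] (ι → F) := Matrix.toLin' ((g⁻¹ : GL ι F) : Matrix ι ι F) with hLi
  have hLiL : ∀ v, Li (L v) = v := by
    intro v
    simp only [hL, hLi, Matrix.toLin'_apply, Matrix.mulVec_mulVec]
    rw [← Units.val_mul, inv_mul_cancel, Units.val_one, Matrix.one_mulVec]
  have hLLi : ∀ v, L (Li v) = v := by
    intro v
    simp only [hL, hLi, Matrix.toLin'_apply, Matrix.mulVec_mulVec]
    rw [← Units.val_mul, mul_inv_cancel, Units.val_one, Matrix.one_mulVec]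
  have hLinj : Function.Injective L := Function.LeftInverse.injective hLiL
  have hLiinj : Function.Injective Li := Function.LeftInverse.injective hLLi
  have hQL : ∀ u, Q (L u) = Q u := by
    intro u
    rw [hL, Matrix.toLin'_apply]
    exact hQg u
  have hQLi : ∀ u, Q (Li u) = Q u := by
    intro u
    rw [← hQL (Li u), hLLi]
  have hpol : ∀ u v, QuadraticMap.polar Q (L u) (L v) = QuadraticMap.polar Q u v := by
    intro u v
    simp only [QuadraticMap.polar, ← map_add, hQL]
  have hfr : finrank F ↥(W.map L) = finrank F W :=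
    (Submodule.equivMapOfInjective L hLinj W).finrank_eq.symm
  refine ⟨?_, ?_, hfr⟩
  · rintro w' ⟨w, hw, rfl⟩ hw0
    have hw0' : w ≠ 0 := by
      rintro rfl
      exact hw0 (map_zero L)
    obtain ⟨⟨x, hx, hx0⟩, ⟨y, hy, hy0⟩⟩ := hnd w hw hw0'
    exact ⟨⟨L x, Submodule.mem_map_of_mem hx, by rwa [hpol]⟩,
      ⟨L y, Submodule.mem_map_of_mem hy, by rwa [hpol]⟩⟩
  · rintro ⟨U, hUW, hUts, hUd⟩
    apply hminus
    refine ⟨U.map Li, ?_, ?_, ?_⟩
    · rintro _ ⟨u, hu, rfl⟩
      obtain ⟨w, hw, hwu⟩ := hUW hu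
      rw [← hwu, hLiL]
      exact hw
    · rintro _ ⟨u, hu, rfl⟩
      rw [hQLi]
      exact hUts u hu
    · rw [← (Submodule.equivMapOfInjective Li hLiinj U).finrank_eq, hUd, hfr]

end conc

end Cfsg.Agent.Helper83.S88OE
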