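/-
CALL S88OE (helper43), piece FLAG1 (double, helper83): `oe_flag_one`, statement verbatim from
tools/calls/S88OESkel.lean.txt.
-/
import Mathlib
import Cfsg.Agent.Helper43.S88OEDefs

set_option autoImplicit false

namespace Cfsg.Agent.Helper83.S88OE

open Module Polynomial
open Cfsg.Agent.Helper43 Cfsg.Agent.Helper43.OrthEven Cfsg.Agent.Helper43.S88OE

universe u

section lin

variable {F : Type*} [Field F] {Va Vb : Type*} [AddCommGroup Va] [Module F Va] [AddCommGroup Vb]
  [Module F Vb]

/-- FLAG1: a nondegenerate space of dimension `i` has the flag of length `1`. -/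
theorem oe_flag_one [FiniteDimensional F Va] (Qa : QuadraticForm F Va) (T : Module.End F Va)
    (hnd : PolarNondeg Qa) (i : ℕ) (hdim : finrank F Va = i) : Flag Qa T i 1 := by
  intro s hs
  interval_cases s
  · refine ⟨⊥, ?_, ?_, ?_⟩
    · rw [Submodule.map_bot]
    · intro v _
      exact Subsingleton.elim _ _
    · rw [finrank_bot, Nat.mul_zero]
  · refine ⟨⊤, le_top, ?_, ?_⟩
    · intro v hv
      have h0 : (v : Va) = 0 := hnd (v : Va) (fun w => by
        have h := hv ⟨w, Submodule.mem_top⟩
        simpa [QuadraticMap.polar] using h)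
      exact Subtype.ext h0
    · rw [finrank_top, hdim, Nat.mul_one]

end lin

end Cfsg.Agent.Helper83.S88OE
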