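/-
CALL S88OE (helper43), piece ZBLK (double, helper83): `oe_zero_blk`, statement verbatim from
tools/calls/S88OESkel.lean.txt.
-/
import Mathlib
import Cfsg.Agent.Helper43.S88OEDefs

set_option autoImplicit false

namespace Cfsg.Agent.Helper83.S88OE

open Module Polynomial
open Cfsg.Agent.Helper43 Cfsg.Agent.Helper43.OrthEven Cfsg.Agent.Helper43.S88OE

universe u

section fin

variable {F : Type u} [Field F] [Fintype F]

/-- ZBLK: the zero block. -/
theorem oe_zero_blk (r i : ℕ) :
    ∃ (V : Type u) (_ : AddCommGroup V) (_ : Module F V) (_ : FiniteDimensional F V)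
      (Q : QuadraticForm F V) (T : Module.End F V),
      Blk r Q T ∧ T.charpoly = 1 ∧ finrank F V = 0 ∧ Flag Q T i 0 := by
  have hfr : finrank F PUnit.{u+1} = 0 := Module.finrank_zero_of_subsingleton
  refine ⟨PUnit.{u+1}, inferInstance, inferInstance, inferInstance, 0, 1, ⟨?_, ?_, ?_⟩, ?_, hfr,
    ?_⟩
  · intro v _
    exact Subsingleton.elim _ _
  · intro v
    rfl
  · apply LinearMap.ext
    intro v
    exact Subsingleton.elim _ _
  · have h1 : (1 : Module.End F PUnit.{u+1}).charpoly.natDegree = 0 := by
      rw [LinearMap.charpoly_natDegree]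
      exact hfr
    exact (LinearMap.charpoly_monic _).natDegree_eq_zero.mp h1
  · intro s hs
    obtain rfl : s = 0 := Nat.le_zero.mp hs
    refine ⟨⊥, ?_, ?_, ?_⟩
    · rw [Submodule.map_bot]
    · intro v _
      exact Subsingleton.elim _ _
    · rw [finrank_bot, Nat.mul_zero]

end fin

end Cfsg.Agent.Helper83.S88OE
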