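-- helper83: piece TY3 (double) of CALL S5666 (helper71): `no_type3`.
import Mathlib
import Cfsg.Agent.Helper71.SQMain
import Cfsg.Agent.Helper71.SGDefs
import Cfsg.Agent.Helper83.SGKF1

set_option autoImplicit false
set_option linter.unusedVariables false

namespace Cfsg.Agent.Helper83.SGTY3

open Matrix Cfsg.Agent.Helper71.T4 Cfsg.Agent.Helper71.SO Cfsg.Agent.Helper71.SQ
open Cfsg.Agent.Helper71.SG
open Cfsg.Agent.Helper96.T5 Cfsg.Agent.Helper11.SORT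
open scoped Kronecker

variable {F : Type*} [Field F] {m n : ℕ}

theorem one_kron_apply (B : Matrix (Fin n) (Fin n) F) (ξ : Fin m × Fin n → F) (i : Fin m)
    (k : Fin n) :
    (((1 : Matrix (Fin m) (Fin m) F) ⊗ₖ B) *ᵥ ξ) (i, k) = (B *ᵥ (fun k' => ξ (i, k'))) k := by
  simp only [Matrix.mulVec, dotProduct, Fintype.sum_prod_type, Matrix.kroneckerMap_apply,
    Matrix.one_apply, ite_mul, one_mul, zero_mul]
  rw [Finset.sum_eq_single i]
  · simp
  · intro i' _ hne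
    simp [Ne.symm hne]
  · intro h
    exact absurd (Finset.mem_univ i) h

theorem kron_one_apply (A : Matrix (Fin m) (Fin m) F) (ξ : Fin m × Fin n → F) (i : Fin m)
    (k : Fin n) :
    ((A ⊗ₖ (1 : Matrix (Fin n) (Fin n) F)) *ᵥ ξ) (i, k) = (A *ᵥ (fun i' => ξ (i', k))) i := by
  simp only [Matrix.mulVec, dotProduct, Fintype.sum_prod_type, Matrix.kroneckerMap_apply,
    Matrix.one_apply, mul_ite, mul_one, mul_zero, ite_mul, zero_mul]
  refine Finset.sum_congr rfl fun i' _ => ?_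
  rw [Finset.sum_eq_single k]
  · simp
  · intro k' _ hne
    simp [Ne.symm hne]
  · intro h
    exact absurd (Finset.mem_univ k) h

theorem bf_kron_rows (J : Matrix (Fin m) (Fin m) F) (S : Matrix (Fin n) (Fin n) F)
    (ξ ξ' : Fin m × Fin n → F) :
    bf (J ⊗ₖ S) ξ ξ' = ∑ i, ∑ i', J i i' * bl S (fun k => ξ (i, k)) (fun k => ξ' (i', k)) := by
  simp only [bf, bl, Matrix.mulVec, dotProduct, Fintype.sum_prod_type, Matrix.kroneckerMap_apply,
    Finset.mul_sum]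
  refine Finset.sum_congr rfl fun i _ => ?_
  rw [Finset.sum_comm]
  refine Finset.sum_congr rfl fun i' _ => Finset.sum_congr rfl fun k _ =>
    Finset.sum_congr rfl fun k' _ => ?_
  ring

/-- TY3. -/
theorem no_type3 (hm : 4 ≤ m) (h2 : (2 : F) ≠ 0) (J : Matrix (Fin m) (Fin m) F)
    (hJ : Jᵀ = -J) (hdetJ : J.det ≠ 0) (S : Matrix (Fin n) (Fin n) F) (hS : Sᵀ = S)
    (hdetS : S.det ≠ 0)
    (M : Subgroup (GL (Fin m × Fin n) F)) (hSp : SpLEG J S M) (hH : HasHG J S M)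
    (a : Fin m → F) (ha : a ≠ 0)
    (hrad : ∀ ρ : GL (Fin m × Fin n) F, ρ ∈ M →
      (∀ b : Fin n → F, (ρ : Matrix (Fin m × Fin n) (Fin m × Fin n) F) *ᵥ pt a b = pt a b) →
      (∀ (y : Fin m → F) (b : Fin n → F), bl J a y = 0 → ∃ b' : Fin n → F,
        (ρ : Matrix (Fin m × Fin n) (Fin m × Fin n) F) *ᵥ pt y b = pt y b + pt a b') →
      ∃ y₀ : Fin m → F, bl J a y₀ = 0 ∧ (ρ : Matrix (Fin m × Fin n) (Fin m × Fin n) F)
        = Eay J a y₀ ⊗ₖ (1 : Matrix (Fin n) (Fin n) F))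
    (g : GL (Fin m × Fin n) F) (hg : g ∈ M) (c : F) (hc : c ≠ 0)
    (N : Matrix (Fin n) (Fin n) F) (hN : N ≠ 0) (hNN : N * N = 0)
    (hconj : (g : Matrix (Fin m × Fin n) (Fin m × Fin n) F)
        * (Tac J a c ⊗ₖ (1 : Matrix (Fin n) (Fin n) F))
        * ((g⁻¹ : GL (Fin m × Fin n) F) : Matrix (Fin m × Fin n) (Fin m × Fin n) F)
      = (1 : Matrix (Fin m) (Fin m) F) ⊗ₖ (1 + N)) : False := by
  classical
  have hTacI : (Tac J a c)ᵀ * J * Tac J a c = J := by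
    rw [Cfsg.Agent.Helper53.SQET.tac_eq_eay h2]
    exact Cfsg.Agent.Helper53.SQET.eay_isom h2 J hJ a _ (by
      rw [bl_smul_right, Cfsg.Agent.Helper53.SQET.et_bl_self h2 J hJ, mul_zero])
  obtain ⟨τ, hτM, hτ⟩ := hH (Tac J a c) 1 1 1 (by rw [hTacI, one_smul]) (by simp) (by norm_num)
  have hXM := hSp (g * τ * g⁻¹) (M.mul_mem (M.mul_mem hg hτM) (M.inv_mem hg))
  have hGsp : (g : Matrix (Fin m × Fin n) (Fin m × Fin n) F)ᵀ * OmG J S
      * (g : Matrix (Fin m × Fin n) (Fin m × Fin n) F) = OmG J S := hSp g hg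
  have hσval : ∀ ρ : GL (Fin m × Fin n) F,
      ((g⁻¹ * ρ * g : GL (Fin m × Fin n) F) : Matrix (Fin m × Fin n) (Fin m × Fin n) F)
        = ((g⁻¹ : GL (Fin m × Fin n) F) : Matrix (Fin m × Fin n) (Fin m × Fin n) F)
          * (ρ : Matrix (Fin m × Fin n) (Fin m × Fin n) F)
          * (g : Matrix (Fin m × Fin n) (Fin m × Fin n) F) := by
    intro ρ
    rw [Units.val_mul, Units.val_mul]
  have hXval : ((g * τ * g⁻¹ : GL (Fin m × Fin n) F) : Matrix (Fin m × Fin n) (Fin m × Fin n) F)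
      = (1 : Matrix (Fin m) (Fin m) F) ⊗ₖ (1 + N) := by
    rw [Units.val_mul, Units.val_mul, hτ, hconj]
  rw [hXval] at hXM
  have hGG'0 : (g : Matrix (Fin m × Fin n) (Fin m × Fin n) F)
      * ((g⁻¹ : GL (Fin m × Fin n) F) : Matrix (Fin m × Fin n) (Fin m × Fin n) F) = 1 := by
    rw [← Units.val_mul, mul_inv_cancel, Units.val_one]
  have hG'G0 : ((g⁻¹ : GL (Fin m × Fin n) F) : Matrix (Fin m × Fin n) (Fin m × Fin n) F)
      * (g : Matrix (Fin m × Fin n) (Fin m × Fin n) F) = 1 := by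
    rw [← Units.val_mul, inv_mul_cancel, Units.val_one]
  obtain ⟨G, hGdef⟩ : ∃ G : Matrix (Fin m × Fin n) (Fin m × Fin n) F,
      G = (g : Matrix (Fin m × Fin n) (Fin m × Fin n) F) := ⟨_, rfl⟩
  obtain ⟨G', hG'def⟩ : ∃ G' : Matrix (Fin m × Fin n) (Fin m × Fin n) F,
      G' = ((g⁻¹ : GL (Fin m × Fin n) F) : Matrix (Fin m × Fin n) (Fin m × Fin n) F) := ⟨_, rfl⟩
  rw [← hGdef, ← hG'def] at hconj hGG'0 hG'G0
  rw [← hGdef] at hGsp
  simp only [← hGdef, ← hG'def] at hσval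
  obtain ⟨T, hTdef⟩ : ∃ T : Matrix (Fin m × Fin n) (Fin m × Fin n) F,
      T = Tac J a c ⊗ₖ (1 : Matrix (Fin n) (Fin n) F) := ⟨_, rfl⟩
  rw [← hTdef] at hconj
  obtain ⟨K, hKdef⟩ : ∃ K : Matrix (Fin m × Fin n) (Fin m × Fin n) F,
      K = (1 : Matrix (Fin m) (Fin m) F) ⊗ₖ N := ⟨_, rfl⟩
  have hX : (1 : Matrix (Fin m) (Fin m) F) ⊗ₖ (1 + N) = 1 + K := by
    rw [hKdef, Matrix.kronecker_add, Matrix.one_kronecker_one]
  rw [hX] at hconj
  have hGT : G * T = G + K * G := by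
    have h1 : G * T * G' * G = (1 + K) * G := by rw [hconj]
    rw [Matrix.mul_assoc, hG'G0, Matrix.mul_one] at h1
    rw [h1, Matrix.add_mul, Matrix.one_mul]
  have hKG : ∀ v, K *ᵥ (G *ᵥ v) = G *ᵥ (T *ᵥ v) - G *ᵥ v := by
    intro v
    have h1 : (G * T) *ᵥ v = (G + K * G) *ᵥ v := by rw [hGT]
    rw [← Matrix.mulVec_mulVec, Matrix.add_mulVec, ← Matrix.mulVec_mulVec] at h1
    rw [h1]
    abel
  have hG'Gv : ∀ v, G' *ᵥ (G *ᵥ v) = v := by
    intro v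
    rw [Matrix.mulVec_mulVec, hG'G0, Matrix.one_mulVec]
  have hGG'v : ∀ v, G *ᵥ (G' *ᵥ v) = v := by
    intro v
    rw [Matrix.mulVec_mulVec, hGG'0, Matrix.one_mulVec]
  have hT : ∀ η, T *ᵥ η = η + pt a (fun k => c * bl J (fun i' => η (i', k)) a) := by
    intro η
    funext ⟨i, k⟩
    rw [hTdef, kron_one_apply, Cfsg.Agent.Helper53.SQET.tac_mulVec]
    simp only [pt, Pi.add_apply, Pi.smul_apply, smul_eq_mul]
    ring
  have hTpt : ∀ (x : Fin m → F) (z : Fin n → F),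
      T *ᵥ pt x z = pt x z + (c * bl J x a) • pt a z := by
    intro x z
    rw [hTdef, kron_mulVec_pt, Cfsg.Agent.Helper53.SQET.tac_mulVec, Matrix.one_mulVec,
      pt_add_left, pt_smul_left]
  have hΩG : ∀ ξ ξ', bf (OmG J S) (G *ᵥ ξ) (G *ᵥ ξ') = bf (OmG J S) ξ ξ' := by
    intro ξ ξ'
    rw [bf_mulVec_left, bf_mulVec_right, hGsp]
  obtain ⟨a₁, ha₁⟩ := Cfsg.Agent.Helper53.SQTA.alt_partner J hdetJ a ha
  have hXsp : ((1 : Matrix (Fin m) (Fin m) F) ⊗ₖ (1 + N))ᵀ * OmG J S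
      * ((1 : Matrix (Fin m) (Fin m) F) ⊗ₖ (1 + N)) = OmG J S := hXM
  have hB : ∀ x x', bl S ((1 + N) *ᵥ x) ((1 + N) *ᵥ x') = bl S x x' := by
    intro x x'
    have h1 : bf (OmG J S) (((1 : Matrix (Fin m) (Fin m) F) ⊗ₖ (1 + N)) *ᵥ pt a x)
        (((1 : Matrix (Fin m) (Fin m) F) ⊗ₖ (1 + N)) *ᵥ pt a₁ x')
        = bf (OmG J S) (pt a x) (pt a₁ x') := by
      rw [bf_mulVec_left, bf_mulVec_right, hXsp]
    rw [kron_mulVec_pt, kron_mulVec_pt, Matrix.one_mulVec, Matrix.one_mulVec] at h1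
    unfold OmG at h1
    rw [bf_kron_pt, bf_kron_pt] at h1
    have h3 : bf J a a₁ = 1 := ha₁
    rw [h3, one_mul, one_mul] at h1
    exact h1
  have hNN' : ∀ x, N *ᵥ (N *ᵥ x) = 0 := by
    intro x
    rw [Matrix.mulVec_mulVec, hNN, Matrix.zero_mulVec]
  have hskew : ∀ x y, bl S (N *ᵥ x) y = - bl S x (N *ᵥ y) := by
    intro x y
    have h1 := hB x (y - N *ᵥ y)
    have h3 : (1 + N) *ᵥ (y - N *ᵥ y) = y := by
      rw [Matrix.add_mulVec, Matrix.one_mulVec, Matrix.mulVec_sub, hNN' y]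
      abel
    rw [h3, Matrix.add_mulVec, Matrix.one_mulVec, bl_add_left, bl_sub_right] at h1
    linear_combination h1
  obtain ⟨x₀, hx₀⟩ : ∃ x₀, N *ᵥ x₀ ≠ 0 := by
    by_contra hcon
    push Not at hcon
    exact hN (mv_ext N 0 (fun x => by rw [hcon x, Matrix.zero_mulVec]))
  obtain ⟨u, hu⟩ : ∃ u, u = N *ᵥ x₀ := ⟨_, rfl⟩
  have hu0 : u ≠ 0 := by
    rw [hu]
    exact hx₀
  have hNu : N *ᵥ u = 0 := by
    rw [hu]
    exact hNN' x₀
  have himker : ∀ x w, N *ᵥ w = 0 → bl S (N *ᵥ x) w = 0 := by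
    intro x w hw
    rw [hskew, hw, bl_zero_right, neg_zero]
  have hkeru : ∀ x, N *ᵥ x = 0 → bl S x u = 0 := by
    intro x hx
    rw [bl_comm S hS, hu]
    exact himker x₀ x hx
  have huu : bl S u u = 0 := hkeru u hNu
  have hfixK : ∀ (x : Fin m → F) (z : Fin n → F), bl J x a = 0 → K *ᵥ (G *ᵥ pt x z) = 0 := by
    intro x z hx
    rw [hKG, hTpt, hx, mul_zero, zero_smul, add_zero, sub_self]
  have hrowker : ∀ ξ, K *ᵥ ξ = 0 → ∀ i, N *ᵥ (fun k => ξ (i, k)) = 0 := by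
    intro ξ hξ i
    funext k
    have h1 := congrFun hξ (i, k)
    rw [hKdef, one_kron_apply] at h1
    exact h1
  have hex : ∃ w, N *ᵥ w = 0 ∧ bl S w w ≠ 0 := by
    by_contra hcon
    push Not at hcon
    have hpol : ∀ w w', N *ᵥ w = 0 → N *ᵥ w' = 0 → bl S w w' = 0 := by
      intro w w' hw hw'
      have h1 := hcon (w + w') (by rw [Matrix.mulVec_add, hw, hw', add_zero])
      rw [bl_add_left, bl_add_right, bl_add_right, hcon w hw, hcon w' hw',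
        bl_comm S hS w' w] at h1
      have h3 : 2 * bl S w w' = 0 := by linear_combination h1
      exact (mul_eq_zero.mp h3).resolve_left h2
    obtain ⟨w₀, hw₀⟩ : ∃ w₀, bl S w₀ w₀ ≠ 0 := by
      by_contra hcon2
      push Not at hcon2
      obtain ⟨x, hx⟩ := Cfsg.Agent.Helper11.SOTR.exists_bl_ne S hdetS u hu0
      apply hx
      have h1 := hcon2 (u + x)
      rw [bl_add_left, bl_add_right, bl_add_right, hcon2 u, hcon2 x, bl_comm S hS x u] at h1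
      have h3 : 2 * bl S u x = 0 := by linear_combination h1
      exact (mul_eq_zero.mp h3).resolve_left h2
    obtain ⟨y, hya, hyne⟩ := Cfsg.Agent.Helper83.SGKF1.exists_outside hm J a a a
    have hay : bl J a y = 0 := by
      rw [Cfsg.Agent.Helper53.SQET.et_bl_skew J hJ, hya, neg_zero]
    obtain ⟨-, y', hay', hyy'⟩ := Cfsg.Agent.Helper53.SQTA.alt_partner2 h2 J hJ hdetJ a y ha hay
      (fun l => by
        have h1 := hyne l 0
        rwa [zero_smul, add_zero] at h1)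
    have hy'a : bl J y' a = 0 := by
      rw [Cfsg.Agent.Helper53.SQET.et_bl_skew J hJ, hay', neg_zero]
    have h1 := hΩG (pt y w₀) (pt y' w₀)
    unfold OmG at h1
    rw [bf_kron_pt, bf_kron_rows] at h1
    have h3 : (∑ i, ∑ i', J i i' * bl S (fun k => (G *ᵥ pt y w₀) (i, k))
        (fun k => (G *ᵥ pt y' w₀) (i', k))) = 0 := by
      apply Finset.sum_eq_zero
      intro i _
      apply Finset.sum_eq_zero
      intro i' _
      rw [hpol _ _ (hrowker _ (hfixK y w₀ hya) i) (hrowker _ (hfixK y' w₀ hy'a) i'), mul_zero]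
    rw [h3] at h1
    have h4 : bf J y y' = 1 := hyy'
    rw [h4, one_mul] at h1
    exact hw₀ h1.symm
  obtain ⟨w, hNw, hww⟩ := hex
  have huw : bl S u w = 0 := by
    rw [hu]
    exact himker x₀ w hNw
  have hwu : bl S w u = 0 := by rw [bl_comm S hS, huw]
  obtain ⟨r, hrdef⟩ : ∃ r, r = ruw S u w := ⟨_, rfl⟩
  have hr : ∀ x, r *ᵥ x = x + (bl S x w - 2⁻¹ * bl S w w * bl S x u) • u - bl S x u • w := by
    intro x
    rw [hrdef]
    exact ruw_mulVec h2 S hS u w x huu huw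
  have hrisom : rᵀ * S * r = S := by
    rw [hrdef]
    exact ruw_isom h2 S hS u w huu huw
  obtain ⟨ρ, hρM, hρ⟩ := hH 1 r 1 1 (by simp) (by rw [hrisom, one_smul]) (by norm_num)
  obtain ⟨R, hRdef⟩ : ∃ R : Matrix (Fin m × Fin n) (Fin m × Fin n) F,
      R = (1 : Matrix (Fin m) (Fin m) F) ⊗ₖ r := ⟨_, rfl⟩
  rw [← hRdef] at hρ
  have hrN : ∀ x, r *ᵥ (N *ᵥ x) = N *ᵥ x := by
    intro x
    rw [hr, himker x w hNw, hkeru (N *ᵥ x) (hNN' x)]
    simp
  have hrker : ∀ x, N *ᵥ x = 0 → r *ᵥ x = x + bl S x w • u := by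
    intro x hx
    rw [hr, hkeru x hx]
    simp
  have hRK : ∀ ξ, R *ᵥ (K *ᵥ ξ) = K *ᵥ ξ := by
    intro ξ
    funext ⟨i, k⟩
    rw [hRdef, one_kron_apply]
    have h1 : (fun k' => (K *ᵥ ξ) (i, k')) = N *ᵥ (fun k' => ξ (i, k')) := by
      funext k'
      rw [hKdef, one_kron_apply]
    rw [h1, hrN]
    exact (congrFun h1 k).symm
  have hσM : g⁻¹ * ρ * g ∈ M := M.mul_mem (M.mul_mem (M.inv_mem hg) hρM) hg
  have hσ : ((g⁻¹ * ρ * g : GL (Fin m × Fin n) F) : Matrix (Fin m × Fin n) (Fin m × Fin n) F)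
      = G' * R * G := by
    rw [hσval ρ, hρ]
  have hσv : ∀ v, (G' * R * G) *ᵥ v = G' *ᵥ (R *ᵥ (G *ᵥ v)) := by
    intro v
    rw [← Matrix.mulVec_mulVec, ← Matrix.mulVec_mulVec]
  have ha₁a : bl J a₁ a = -1 := by
    rw [Cfsg.Agent.Helper53.SQET.et_bl_skew J hJ, ha₁]
  obtain ⟨y₀, hay₀, hσE⟩ := hrad (g⁻¹ * ρ * g) hσM (by
      intro b
      rw [hσ, hσv]
      have hTv₁ : T *ᵥ pt a₁ ((-c⁻¹) • b) = pt a₁ ((-c⁻¹) • b) + pt a b := by
        rw [hTpt, ha₁a, pt_smul_right (-c⁻¹) a b, smul_smul]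
        have h1 : c * -1 * -c⁻¹ = 1 := by field_simp
        rw [h1, one_smul]
      have h1 : G *ᵥ pt a b = K *ᵥ (G *ᵥ pt a₁ ((-c⁻¹) • b)) := by
        rw [hKG, hTv₁, Matrix.mulVec_add]
        abel
      rw [h1, hRK, ← h1, hG'Gv]) (by
      intro y b hay
      have hya : bl J y a = 0 := by
        rw [Cfsg.Agent.Helper53.SQET.et_bl_skew J hJ, hay, neg_zero]
      have hKv := hfixK y b hya
      have hrows := hrowker _ hKv
      obtain ⟨ξ', hξ'⟩ : ∃ ξ' : Fin m × Fin n → F,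
          ξ' = fun p => bl S (fun k => (G *ᵥ pt y b) (p.1, k)) w * x₀ p.2 := ⟨_, rfl⟩
      have hRGv : R *ᵥ (G *ᵥ pt y b) = G *ᵥ pt y b + K *ᵥ ξ' := by
        funext ⟨i, k⟩
        rw [hRdef, one_kron_apply, hrker _ (hrows i), Pi.add_apply, Pi.add_apply, hKdef,
          one_kron_apply]
        have h1 : (fun k' => ξ' (i, k')) = bl S (fun k => (G *ᵥ pt y b) (i, k)) w • x₀ := by
          funext k'
          rw [hξ']
          rfl
        rw [h1, Matrix.mulVec_smul, ← hu]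
      have hKξ : K *ᵥ ξ' = G *ᵥ pt a (fun k => c * bl J (fun i' => (G' *ᵥ ξ') (i', k)) a) := by
        have h1 := hKG (G' *ᵥ ξ')
        rw [hGG'v ξ', hT (G' *ᵥ ξ'), Matrix.mulVec_add, hGG'v ξ'] at h1
        rw [h1]
        abel
      refine ⟨fun k => c * bl J (fun i' => (G' *ᵥ ξ') (i', k)) a, ?_⟩
      rw [hσ, hσv, hRGv, hKξ, Matrix.mulVec_add, hG'Gv, hG'Gv])
  rw [hσ] at hσE
  obtain ⟨E, hEdef⟩ : ∃ E, E = Eay J a y₀ := ⟨_, rfl⟩
  rw [← hEdef] at hσE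
  have hy₀a : bl J y₀ a = 0 := by
    rw [Cfsg.Agent.Helper53.SQET.et_bl_skew J hJ, hay₀, neg_zero]
  have haa : bl J a a = 0 := Cfsg.Agent.Helper53.SQET.et_bl_self h2 J hJ a
  have hy₀y₀ : bl J y₀ y₀ = 0 := Cfsg.Agent.Helper53.SQET.et_bl_self h2 J hJ y₀
  have hE : ∀ x, E *ᵥ x = x + bl J x a • y₀ + bl J x y₀ • a := by
    intro x
    rw [hEdef]
    exact Cfsg.Agent.Helper53.SQET.eay_mulVec J a y₀ x
  have hEE : E * E = (2 : F) • E + (-1 : F) • (1 : Matrix (Fin m) (Fin m) F) := by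
    apply mv_ext
    intro x
    rw [← Matrix.mulVec_mulVec, Matrix.add_mulVec, Matrix.smul_mulVec, Matrix.smul_mulVec,
      Matrix.one_mulVec, hE (E *ᵥ x), hE x]
    simp only [bl_add_left, bl_smul_left, hy₀a, haa, hy₀y₀, hay₀, mul_zero, add_zero]
    funext i
    simp only [Pi.add_apply, Pi.smul_apply, smul_eq_mul]
    ring
  have hEE2 : (E ⊗ₖ (1 : Matrix (Fin n) (Fin n) F)) * (E ⊗ₖ (1 : Matrix (Fin n) (Fin n) F))
      = (2 : F) • (E ⊗ₖ (1 : Matrix (Fin n) (Fin n) F))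
        + (-1 : F) • (1 : Matrix (Fin m × Fin n) (Fin m × Fin n) F) := by
    rw [← Matrix.mul_kronecker_mul, hEE, Matrix.mul_one, Matrix.add_kronecker,
      Matrix.smul_kronecker, Matrix.smul_kronecker, Matrix.one_kronecker_one]
  have hEv : ∀ ξ, (E ⊗ₖ (1 : Matrix (Fin n) (Fin n) F)) *ᵥ (G' *ᵥ ξ) = G' *ᵥ (R *ᵥ ξ) := by
    intro ξ
    rw [← hσE, hσv, hGG'v]
  have hRR : ∀ ξ, R *ᵥ (R *ᵥ ξ) = (2 : F) • (R *ᵥ ξ) + (-1 : F) • ξ := by
    intro ξ
    have h1 : (E ⊗ₖ (1 : Matrix (Fin n) (Fin n) F)) *ᵥ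
        ((E ⊗ₖ (1 : Matrix (Fin n) (Fin n) F)) *ᵥ (G' *ᵥ ξ))
        = (2 : F) • ((E ⊗ₖ (1 : Matrix (Fin n) (Fin n) F)) *ᵥ (G' *ᵥ ξ))
          + (-1 : F) • (G' *ᵥ ξ) := by
      rw [Matrix.mulVec_mulVec, hEE2, Matrix.add_mulVec, Matrix.smul_mulVec, Matrix.smul_mulVec,
        Matrix.one_mulVec]
    rw [hEv, hEv] at h1
    have h3 := congrArg (fun v => G *ᵥ v) h1
    simp only [Matrix.mulVec_add, Matrix.mulVec_smul, hGG'v] at h3
    exact h3
  have hRpt : ∀ x, R *ᵥ pt a x = pt a (r *ᵥ x) := by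
    intro x
    rw [hRdef, kron_mulVec_pt, Matrix.one_mulVec]
  obtain ⟨i₀, hi₀⟩ : ∃ i₀, a i₀ ≠ 0 := by
    by_contra hcon
    push Not at hcon
    exact ha (funext hcon)
  have hrr : ∀ x, r *ᵥ (r *ᵥ x) = (2 : F) • (r *ᵥ x) + (-1 : F) • x := by
    intro x
    have h1 := hRR (pt a x)
    rw [hRpt, hRpt] at h1
    funext k
    have h3 := congrFun h1 (i₀, k)
    simp only [pt, Pi.add_apply, Pi.smul_apply, smul_eq_mul] at h3 ⊢
    apply mul_left_cancel₀ hi₀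
    linear_combination h3
  obtain ⟨x, hx⟩ := Cfsg.Agent.Helper11.SOTR.exists_bl_ne S hdetS u hu0
  have hxu : bl S x u ≠ 0 := by
    rw [bl_comm S hS]
    exact hx
  have hbu : bl S (r *ᵥ x) u = bl S x u := by
    rw [hr x, bl_sub_left, bl_add_left, bl_smul_left, bl_smul_left, huu, hwu]
    ring
  have hbw : bl S (r *ᵥ x) w = bl S x w - bl S x u * bl S w w := by
    rw [hr x, bl_sub_left, bl_add_left, bl_smul_left, bl_smul_left, huw]
    ring
  obtain ⟨k₀, hk₀⟩ : ∃ k₀, u k₀ ≠ 0 := by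
    by_contra hcon
    push Not at hcon
    exact hu0 (funext hcon)
  have h1 := hrr x
  rw [hr (r *ᵥ x), hbu, hbw, hr x] at h1
  have e1 := congrFun h1 k₀
  simp only [Pi.add_apply, Pi.sub_apply, Pi.smul_apply, smul_eq_mul] at e1
  have h3 : bl S x u * bl S w w * u k₀ = 0 := by linear_combination (-1 : F) * e1
  rcases mul_eq_zero.mp h3 with h4 | h4
  · rcases mul_eq_zero.mp h4 with h5 | h5
    · exact hxu h5
    · exact hww h5
  · exact hk₀ h4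

end Cfsg.Agent.Helper83.SGTY3
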