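import Mathlib
import Cfsg.Prelude.Def_GeometricClasses
import Cfsg.Prelude.Def_ClassicalGeometry

/-!
helper83: PIECE G2 of CALL S5980 (helper98), doubled: the Gram matrix of a non-degenerate symmetric
bilinear form is congruent to an invertible diagonal matrix (odd characteristic).
-/

set_option autoImplicit false
set_option linter.style.haveILetI false

namespace Cfsg.Agent.Helper83.TFG2

open Matrix Polynomial
open scoped Kronecker

theorem gram_apply {F : Type*} [Field F] {b : ℕ} (G S : Matrix (Fin b) (Fin b) F) (k l : Fin b) :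
    (Sᵀ * G * S) k l = (fun n => S n k) ⬝ᵥ (G *ᵥ (fun n => S n l)) := by
  simp only [Matrix.mul_apply, Matrix.transpose_apply, dotProduct, Matrix.mulVec, Finset.sum_mul,
    Finset.mul_sum]
  rw [Finset.sum_comm]
  refine Finset.sum_congr rfl (fun m _ => Finset.sum_congr rfl (fun n _ => ?_))
  ring

theorem gram_symm_diag {F : Type*} [Field F] (h2 : (2 : F) ≠ 0) {b : ℕ}
    (f₂ : (Fin b → F) → (Fin b → F) → F) (hf₂ : Cfsg.Geo.IsSymmetricForm f₂) :
    ∃ (S S' : Matrix (Fin b) (Fin b) F) (γ : Fin b → F), S * S' = 1 ∧ S' * S = 1 ∧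
      (∀ j, γ j ≠ 0) ∧ Sᵀ * Cfsg.Geo.gramMatrix f₂ * S = Matrix.diagonal γ := by
  classical
  letI : Invertible (2 : F) := invertibleOfNonzero h2
  obtain ⟨Bf, hBf⟩ : ∃ Bf : LinearMap.BilinForm F (Fin b → F), ∀ x y, Bf x y = f₂ x y :=
    ⟨LinearMap.mk₂ F f₂ hf₂.bilinear.add_left
      (fun c x v => by rw [hf₂.bilinear.smul_left]; rfl) hf₂.bilinear.add_right
      (fun c v x => by rw [hf₂.bilinear.smul_right]; rfl), fun x y => rfl⟩
  have hsymm : Bf.IsSymm := ⟨fun x y => by
    show Bf x y = Bf y x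
    rw [hBf, hBf, hf₂.symm]⟩
  obtain ⟨v, hv⟩ := LinearMap.BilinForm.exists_orthogonal_basis (LinearMap.BilinForm.isSymm_iff.mp hsymm)
  have hfr : Module.finrank F (Fin b → F) = b := Module.finrank_fin_fun F
  obtain ⟨w, hw⟩ : ∃ w : Module.Basis (Fin b) F (Fin b → F),
      ∀ j l, j ≠ l → f₂ (w j) (w l) = 0 := by
    refine ⟨v.reindex (finCongr hfr), fun j l hjl => ?_⟩
    rw [← hBf]
    simp only [Module.Basis.reindex_apply]
    apply LinearMap.isOrthoᵢ_def.mp hv
    intro h
    exact hjl ((finCongr hfr).symm.injective h)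
  -- the Gram matrix computes the form
  have hG : ∀ x y : Fin b → F, f₂ x y = x ⬝ᵥ (Cfsg.Geo.gramMatrix f₂ *ᵥ y) := by
    intro x y
    have h1 : Cfsg.Geo.gramMatrix f₂ = LinearMap.BilinForm.toMatrix' Bf := by
      ext i j
      rw [LinearMap.BilinForm.toMatrix'_apply, hBf]
      rfl
    rw [h1, ← Matrix.toBilin'_apply', Matrix.toBilin'_toMatrix', hBf]
  obtain ⟨S, hS⟩ : ∃ S : Matrix (Fin b) (Fin b) F, S = (Pi.basisFun F (Fin b)).toMatrix w :=
    ⟨_, rfl⟩
  have hScol : ∀ j : Fin b, (fun n => S n j) = w j := by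
    intro j
    funext n
    rw [hS, Module.Basis.toMatrix_apply, Pi.basisFun_repr]
  have hne : ∀ j, f₂ (w j) (w j) ≠ 0 := by
    intro j hj
    obtain ⟨-, y, hy⟩ := hf₂.nondegenerate (w j) (w.ne_zero j)
    apply hy
    have hzero : Bf (w j) = 0 := by
      apply w.ext
      intro l
      rw [hBf, LinearMap.zero_apply]
      by_cases hjl : j = l
      · subst hjl; exact hj
      · exact hw j l hjl
    rw [← hBf, hzero, LinearMap.zero_apply]
  refine ⟨S, w.toMatrix (Pi.basisFun F (Fin b)), fun j => f₂ (w j) (w j), ?_, ?_, hne, ?_⟩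
  · rw [hS]; exact Module.Basis.toMatrix_mul_toMatrix_flip _ _
  · rw [hS]; exact Module.Basis.toMatrix_mul_toMatrix_flip _ _
  · ext k l
    rw [gram_apply, hScol, hScol, ← hG, Matrix.diagonal_apply]
    by_cases hkl : k = l
    · subst hkl; rw [if_pos rfl]
    · rw [if_neg hkl]; exact hw k l hkl

end Cfsg.Agent.Helper83.TFG2
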