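import Cfsg.Agent.Helper83.TI2
import Cfsg.Agent.Helper83.TI5
import Cfsg.Agent.S0183

set_option autoImplicit false
set_option linter.style.haveILetI false
set_option linter.unusedSectionVars false

/-!
# Groups with TI element centralisers and no element with normal centraliser (helper83)

If all element centralisers of the finite group `G` are TI-subsets and no non-identity element has a
normal centraliser, then `G ≃* PSL(2, 2^n)` for some `n ≥ 2` (`cti_simple_case`).
-/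

namespace Cfsg.Agent.Helper83

section simple
variable {G : Type*} [Group G]

theorem cti_hnab (h : CTI G) (hS : tiS h = ⊥) :
    ∀ A : Subgroup G, A.Normal → (∀ a ∈ A, ∀ b ∈ A, a * b = b * a) → A = ⊥ := by
  intro A hA hab
  rw [eq_bot_iff]
  intro z hz
  rw [Subgroup.mem_bot]
  exact cti_np h hS A hA hz (fun a ha => hab a ha z hz)

theorem cti_even [Finite G] [Nontrivial G] (h : CTI G) (hS : tiS h = ⊥) : 2 ∣ Nat.card G := by
  classical
  by_contra hodd
  have hodd' : Odd (Nat.card G) := by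
    rw [← Nat.not_even_iff_odd, even_iff_two_dvd]; exact hodd
  have hsol := Cfsg.Agent.S0183.result hodd' (cti_cn h)
  have hex : ∃ n, derivedSeries G n = ⊥ := hsol.solvable
  have hm : derivedSeries G (Nat.find hex) = ⊥ := Nat.find_spec hex
  have hm0 : Nat.find hex ≠ 0 := by
    intro e
    rw [e, derivedSeries_zero] at hm
    obtain ⟨g, hg⟩ := exists_ne (1 : G)
    have : g ∈ (⊤ : Subgroup G) := Subgroup.mem_top g
    rw [hm, Subgroup.mem_bot] at this
    exact hg this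
  obtain ⟨k, hk⟩ := Nat.exists_eq_succ_of_ne_zero hm0
  have hk' : derivedSeries G k ≠ ⊥ := Nat.find_min hex (by omega)
  have hab : ∀ a ∈ derivedSeries G k, ∀ b ∈ derivedSeries G k, a * b = b * a := by
    intro a ha b hb
    have hc := Subgroup.commutator_mem_commutator ha hb
    have hk2 : derivedSeries G (k + 1) = ⊥ := by
      have hk3 : Nat.find hex = k + 1 := hk
      rw [← hk3]; exact hm
    rw [← derivedSeries_succ, hk2, Subgroup.mem_bot] at hc
    exact commutatorElement_eq_one_iff_mul_comm.1 hc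
  exact hk' (cti_hnab h hS _ inferInstance hab)

theorem conj_pow_inv' {g r : G} (n : ℕ) : (g⁻¹ * r * g) ^ n = g⁻¹ * r ^ n * g := by
  have := conj_pow (a := g⁻¹) (b := r) (i := n)
  rwa [inv_inv] at this

theorem cti_ti (h : CTI G) {t x g : G} (hx : x ∈ cz1 t) (hx1 : x ≠ 1)
    (hgx : g⁻¹ * x * g ∈ cz1 t) : g ∈ caN t := by
  have := cti_mem_normalizer h (g := g⁻¹) hx hx1 (by rw [inv_inv]; exact hgx)
  exact (inv_mem_iff (H := caN t)).1 this

theorem cti_cent_le_M (h : CTI G) {t d : G} (hd : d ∈ cz1 t) (hd1 : d ≠ 1) :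
    cz1 d ≤ caN t := by
  intro g hg
  apply cti_mem_normalizer h hd hd1
  have : g * d * g⁻¹ = d := by rw [mem_cz1.1 hg]; group
  rw [this]; exact hd

end simple

section seh
variable {G : Type*} [Group G] [Finite G]

theorem cti_exists_invo (hG : 2 ∣ Nat.card G) (P : Sylow 2 G) :
    ∃ t : G, IsInvo t ∧ t ∈ (P : Subgroup G) ∧ ∀ x ∈ (P : Subgroup G), x * t = t * x := by
  haveI : Fact (Nat.Prime 2) := ⟨Nat.prime_two⟩
  have hPnt : Nontrivial (P : Subgroup G) := by
    have h2 := P.card_eq_multiplicity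
    have hpos : 0 < (Nat.card G).factorization 2 :=
      Nat.Prime.factorization_pos_of_dvd Nat.prime_two Nat.card_pos.ne' hG
    have : 1 < Nat.card (P : Subgroup G) := by
      rw [h2]; exact Nat.one_lt_two_pow hpos.ne'
    exact Finite.one_lt_card_iff_nontrivial.1 this
  haveI := (P.2 : IsPGroup 2 (P : Subgroup G)).center_nontrivial
  have hZ2 : 2 ∣ Nat.card (Subgroup.center (P : Subgroup G)) := by
    have hZp : IsPGroup 2 (Subgroup.center (P : Subgroup G)) := (P.2).to_subgroup _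
    obtain ⟨n, hn⟩ := IsPGroup.iff_card.1 hZp
    have h1 : 1 < Nat.card (Subgroup.center (P : Subgroup G)) := Finite.one_lt_card
    rw [hn] at h1 ⊢
    have hn0 : n ≠ 0 := by rintro rfl; simp at h1
    exact dvd_pow_self 2 hn0
  obtain ⟨z, hz⟩ := exists_prime_orderOf_dvd_card' 2 hZ2
  refine ⟨((z : (P : Subgroup G)) : G), ?_, (z : (P : Subgroup G)).2, ?_⟩
  · apply isInvo_of_orderOf
    rw [Subgroup.orderOf_coe, Subgroup.orderOf_coe]; exact hz
  · intro x hx
    have := Subgroup.mem_center_iff.1 z.2 ⟨x, hx⟩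
    exact congrArg Subtype.val this

theorem cti_two_mem (h : CTI G) (P : Sylow 2 G) {t : G} (ht1 : t ≠ 1)
    (hPD : (P : Subgroup G) ≤ cz1 t) {d : G} (hd : d ∈ cz1 t) {j : ℕ} (hdj : d ^ 2 ^ j = 1) :
    d ∈ (P : Subgroup G) := by
  haveI : Fact (Nat.Prime 2) := ⟨Nat.prime_two⟩
  exact mem_sylow_of_conjComm P (cz1 t) hPD (fun y hy c hc => cti_conj_comm h ht1 hy hc) hd hdj

theorem cti_norm_P (h : CTI G) (P : Sylow 2 G) {t : G} (ht1 : t ≠ 1)
    (hPD : (P : Subgroup G) ≤ cz1 t) {g : G} (hg : g ∈ caN t) {x : G}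
    (hx : x ∈ (P : Subgroup G)) : g * x * g⁻¹ ∈ (P : Subgroup G) := by
  obtain ⟨j, hj⟩ := P.2 ⟨x, hx⟩
  have hxj : x ^ 2 ^ j = 1 := by
    have := congrArg Subtype.val hj
    simpa using this
  apply cti_two_mem h P ht1 hPD ((Subgroup.mem_normalizer_iff.1 hg x).1 (hPD hx)) (j := j)
  rw [conj_pow, hxj]; group

theorem cti_two_mem' (h : CTI G) (P : Sylow 2 G) {t : G} (ht1 : t ≠ 1)
    (hPD : (P : Subgroup G) ≤ cz1 t) {s : G} (hs : s ∈ caN t) {j : ℕ} (hsj : s ^ 2 ^ j = 1) :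
    s ∈ (P : Subgroup G) := by
  haveI : Fact (Nat.Prime 2) := ⟨Nat.prime_two⟩
  obtain ⟨i, -, hi⟩ := (Nat.dvd_prime_pow Nat.prime_two).1 (orderOf_dvd_of_pow_eq_one hsj)
  have hz : IsPGroup 2 (Subgroup.zpowers s) := by
    apply IsPGroup.of_card (n := i)
    rw [Nat.card_zpowers, hi]
  have hnorm : Subgroup.zpowers s ≤ Subgroup.normalizer ((P : Subgroup G) : Set G) := by
    rw [Subgroup.zpowers_le, Subgroup.mem_normalizer_iff]
    intro x
    constructor
    · exact fun hx => cti_norm_P h P ht1 hPD hs hx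
    · intro hx
      have := cti_norm_P h P ht1 hPD ((caN t).inv_mem hs) hx
      have e : s⁻¹ * (s * x * s⁻¹) * s⁻¹⁻¹ = x := by group
      rwa [e] at this
  have hsup := IsPGroup.to_sup_of_normal_right' hz P.2 hnorm
  have heq := P.is_maximal' hsup le_sup_right
  have : s ∈ Subgroup.zpowers s ⊔ (P : Subgroup G) :=
    (le_sup_left : Subgroup.zpowers s ≤ _) (Subgroup.mem_zpowers s)
  rwa [heq] at this

theorem cti_invoM (h : CTI G) (P : Sylow 2 G) {t : G} (ht1 : t ≠ 1)
    (hPD : (P : Subgroup G) ≤ cz1 t) {s : G} (hs : s ∈ caN t) (hss : s * s = 1) :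
    s ∈ cz1 t := by
  apply hPD
  apply cti_two_mem' h P ht1 hPD hs (j := 1)
  rw [pow_one, pow_two, hss]

theorem cti_cent (h : CTI G) (P : Sylow 2 G) {t : G} (ht : IsInvo t)
    (htc : ∀ x ∈ (P : Subgroup G), x * t = t * x) {c : G} (hc : c ∈ cz1 t) (hc1 : c ≠ 1) :
    cz1 c ≤ cz1 t := by
  have hPD : (P : Subgroup G) ≤ cz1 t := fun x hx => mem_cz1.2 (htc x hx)
  intro g hg
  obtain ⟨j, m, hm, hjm⟩ := Nat.exists_eq_two_pow_mul_odd (orderOf_pos g).ne'
  have h1 : g ^ m ∈ cz1 t := by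
    apply hPD
    apply cti_two_mem' h P ht.1 hPD (cti_cent_le_M h hc hc1 ((cz1 c).pow_mem hg m)) (j := j)
    rw [← pow_mul, mul_comm m, ← hjm, pow_orderOf_eq_one]
  have h2 : g ^ 2 ^ j ∈ cz1 t := by
    rw [mem_cz1]
    apply comm_of_coprime (cz1 c) (fun y hy c' hc' => cti_conj_comm h hc1 hy hc')
      ((cz1 c).pow_mem hg _) (mem_cz1.2 (mem_cz1.1 hc).symm) (m := m) (n := 2)
    · rw [← pow_mul, ← hjm, pow_orderOf_eq_one]
    · rw [pow_two, ht.2]
    · exact hm.coprime_two_right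
  exact mem_of_pow_mem_coprime (cz1 t) (Nat.Coprime.pow_right j hm.coprime_two_right) h1 h2

theorem cti_hall {t : G} (hcent : ∀ {c : G}, c ∈ cz1 t → c ≠ 1 → cz1 c ≤ cz1 t) :
    Nat.Coprime (Nat.card (cz1 t)) (cz1 t).index := by
  apply Nat.coprime_of_dvd
  intro p hp hpS hpi
  haveI : Fact p.Prime := ⟨hp⟩
  obtain ⟨y, hy⟩ := exists_prime_orderOf_dvd_card' p hpS
  have hyo : orderOf (y : G) = p := by rw [Subgroup.orderOf_coe]; exact hy
  have hy1 : (y : G) ≠ 1 := by
    intro e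
    rw [e, orderOf_one] at hyo
    exact hp.one_lt.ne hyo
  have hz : IsPGroup p (Subgroup.zpowers (y : G)) := by
    apply IsPGroup.of_card (n := 1)
    rw [Nat.card_zpowers, hyo, pow_one]
  obtain ⟨R, hR⟩ := hz.exists_le_sylow
  have hyR : (y : G) ∈ (R : Subgroup G) := hR (Subgroup.mem_zpowers _)
  haveI : Nontrivial (R : Subgroup G) :=
    ⟨⟨⟨(y : G), hyR⟩, 1, fun e => hy1 (congrArg Subtype.val e)⟩⟩
  haveI := (R.2 : IsPGroup p (R : Subgroup G)).center_nontrivial
  obtain ⟨z, hz1⟩ := exists_ne (1 : Subgroup.center (R : Subgroup G))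
  have hzne : ((z : (R : Subgroup G)) : G) ≠ 1 := fun e => hz1 (Subtype.ext (Subtype.ext e))
  have hzy : ((z : (R : Subgroup G)) : G) ∈ cz1 (y : G) := by
    rw [mem_cz1]
    have := Subgroup.mem_center_iff.1 z.2 ⟨(y : G), hyR⟩
    exact (congrArg Subtype.val this).symm
  have hzD : ((z : (R : Subgroup G)) : G) ∈ cz1 t := hcent y.2 hy1 hzy
  have hRD : (R : Subgroup G) ≤ cz1 t := by
    intro r hr
    apply hcent hzD hzne
    rw [mem_cz1]
    have := Subgroup.mem_center_iff.1 z.2 ⟨r, hr⟩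
    exact congrArg Subtype.val this
  have hdvd : (cz1 t).index ∣ (R : Subgroup G).index := Subgroup.index_dvd_of_le hRD
  exact R.not_dvd_index (hpi.trans hdvd)

theorem cti_disj {t : G}
    (hti : ∀ {x g : G}, x ∈ cz1 t → x ≠ 1 → g⁻¹ * x * g ∈ cz1 t → g ∈ caN t)
    (hhall : Nat.Coprime (Nat.card (cz1 t)) (cz1 t).index) {g r : G} (hg : g ∉ caN t)
    (hr : r ∈ cz1 t) (hgr : g⁻¹ * r * g ∈ caN t) : r = 1 := by
  by_contra hr1
  apply hg
  apply hti hr hr1
  haveI : ((cz1 t).subgroupOf (caN t)).Normal := Subgroup.normal_in_normalizer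
  have h1 := Subgroup.pow_index_mem ((cz1 t).subgroupOf (caN t)) ⟨g⁻¹ * r * g, hgr⟩
  rw [Subgroup.mem_subgroupOf] at h1
  have h1' : (g⁻¹ * r * g) ^ (cz1 t).relIndex (caN t) ∈ cz1 t := h1
  have h2 : (g⁻¹ * r * g) ^ Nat.card (cz1 t) ∈ cz1 t := by
    rw [conj_pow_inv']
    have := pow_card_eq_one' (G := cz1 t) (x := ⟨r, hr⟩)
    have e : r ^ Nat.card (cz1 t) = 1 := congrArg Subtype.val this
    have e2 : g⁻¹ * (1 : G) * g = 1 := by group
    rw [e, e2]; exact (cz1 t).one_mem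
  have hk : (cz1 t).relIndex (caN t) ∣ (cz1 t).index :=
    Dvd.intro _ (Subgroup.relIndex_mul_index Subgroup.le_normalizer)
  have hcop : Nat.Coprime ((cz1 t).relIndex (caN t)) (Nat.card (cz1 t)) :=
    (Nat.Coprime.coprime_dvd_right hk hhall).symm
  exact mem_of_pow_mem_coprime (cz1 t) hcop h1' h2

theorem cti_odd (P : Sylow 2 G) {t : G} (hPD : (P : Subgroup G) ≤ cz1 t) :
    Odd ((cz1 t).relIndex (caN t)) := by
  have : Fact (Nat.Prime 2) := ⟨Nat.prime_two⟩
  have h1 : ¬ 2 ∣ (P : Subgroup G).index := P.not_dvd_index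
  have h2 : (P : Subgroup G).relIndex (cz1 t) * (cz1 t).index = (P : Subgroup G).index :=
    Subgroup.relIndex_mul_index hPD
  have h3 : (cz1 t).relIndex (caN t) * (caN t).index = (cz1 t).index :=
    Subgroup.relIndex_mul_index Subgroup.le_normalizer
  rw [← Nat.not_even_iff_odd, even_iff_two_dvd]
  intro h
  apply h1
  rw [← h2, ← h3]
  exact Dvd.dvd.mul_left (Dvd.dvd.mul_right h _) _

theorem cti_exists_outside (h : CTI G) (hS : tiS h = ⊥) (P : Sylow 2 G) {t : G} (ht : IsInvo t)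
    (hPD : (P : Subgroup G) ≤ cz1 t) : ∃ u : G, IsInvo u ∧ u ∉ caN t := by
  haveI : Fact (Nat.Prime 2) := ⟨Nat.prime_two⟩
  by_contra hcon
  push Not at hcon
  have hinP : ∀ u : G, IsInvo u → u ∈ (P : Subgroup G) := by
    intro u hu
    apply cti_two_mem' h P ht.1 hPD (hcon u hu) (j := 1)
    rw [pow_one, pow_two, hu.2]
  have hle : Subgroup.normalClosure ({t} : Set G) ≤ (P : Subgroup G) := by
    unfold Subgroup.normalClosure
    rw [Subgroup.closure_le]
    intro x hx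
    obtain ⟨a, ha, hax⟩ := Group.mem_conjugatesOfSet_iff.1 hx
    rw [Set.mem_singleton_iff] at ha
    subst ha
    obtain ⟨c, hc⟩ := isConj_iff.1 hax
    rw [← hc]
    exact hinP _ (ht.conj' c)
  have hNp : IsPGroup 2 (Subgroup.normalClosure ({t} : Set G)) := (P.2).to_le hle
  have htN : t ∈ Subgroup.normalClosure ({t} : Set G) :=
    Subgroup.subset_normalClosure (Set.mem_singleton t)
  haveI : Nontrivial (Subgroup.normalClosure ({t} : Set G)) :=
    ⟨⟨⟨t, htN⟩, 1, fun e => ht.1 (congrArg Subtype.val e)⟩⟩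
  haveI := hNp.center_nontrivial
  obtain ⟨z, hz1⟩ := exists_ne (1 : Subgroup.center (Subgroup.normalClosure ({t} : Set G)))
  have hz' : ((z : Subgroup.normalClosure ({t} : Set G)) : G) = 1 := by
    apply cti_np h hS (Subgroup.normalClosure ({t} : Set G)) Subgroup.normalClosure_normal z.1.2
    intro a ha
    have := Subgroup.mem_center_iff.1 z.2 ⟨a, ha⟩
    exact congrArg Subtype.val this
  exact hz1 (Subtype.ext (Subtype.ext hz'))

theorem cti_conj (h : CTI G) (hS : tiS h = ⊥) (P : Sylow 2 G) {t : G} (ht : IsInvo t)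
    (hPD : (P : Subgroup G) ≤ cz1 t)
    (hcent : ∀ {c : G}, c ∈ cz1 t → c ≠ 1 → cz1 c ≤ cz1 t) {s : G} (hs : IsInvo s) :
    ∃ g : G, g * t * g⁻¹ = s := by
  have hout : ∀ u : G, IsInvo u → u ∉ caN t → ∃ g : G, g * t * g⁻¹ = u := by
    intro u hu huM
    rcases invo_conj_or_comm ht hu with hc | ⟨z, hz, hzt, hzu⟩
    · exact hc
    · exfalso
      apply huM
      apply Subgroup.le_normalizer
      exact hcent (mem_cz1.2 hzt) hz.1 (mem_cz1.2 hzu.symm)
  by_cases hsM : s ∈ caN t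
  · obtain ⟨u, hu, huM⟩ := cti_exists_outside h hS P ht hPD
    have hsD : s ∈ cz1 t := cti_invoM h P ht.1 hPD hsM hs.2
    rcases invo_conj_or_comm hs hu with ⟨g, hg⟩ | ⟨z, hz, hzs, hzu⟩
    · obtain ⟨g', hg'⟩ := hout u hu huM
      refine ⟨g⁻¹ * g', ?_⟩
      calc g⁻¹ * g' * t * (g⁻¹ * g')⁻¹ = g⁻¹ * (g' * t * g'⁻¹) * g := by group
        _ = g⁻¹ * (g * s * g⁻¹) * g := by rw [hg', hg]
        _ = s := by group
    · exfalso
      apply huM
      apply Subgroup.le_normalizer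
      have hzD : z ∈ cz1 t := hcent hsD hs.1 (mem_cz1.2 hzs)
      exact hcent hzD hz.1 (mem_cz1.2 hzu.symm)
  · exact hout s hs hsM

theorem cti_seh (h : CTI G) (hS : tiS h = ⊥) (P : Sylow 2 G) {t : G} (ht : IsInvo t)
    (htc : ∀ x ∈ (P : Subgroup G), x * t = t * x) : SEH t := by
  have hPD : (P : Subgroup G) ≤ cz1 t := fun x hx => mem_cz1.2 (htc x hx)
  have hcent : ∀ {c : G}, c ∈ cz1 t → c ≠ 1 → cz1 c ≤ cz1 t :=
    fun hc hc1 => cti_cent h P ht htc hc hc1
  have hti : ∀ {x g : G}, x ∈ cz1 t → x ≠ 1 → g⁻¹ * x * g ∈ cz1 t → g ∈ caN t :=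
    fun hx hx1 hgx => cti_ti h hx hx1 hgx
  exact
    { invo := ht
      ti := hti
      invoM := fun hs hss => cti_invoM h P ht.1 hPD hs hss
      disj := fun hg hr hgr => cti_disj hti (cti_hall hcent) hg hr hgr
      cent := hcent
      conj := fun hs => cti_conj h hS P ht hPD hcent hs
      odd := cti_odd P hPD
      ne_top := by
        intro e
        have : t ∈ tiS h := e
        rw [hS, Subgroup.mem_bot] at this
        exact ht.1 this }

theorem cti_simple_case (h : CTI G) (hS : tiS h = ⊥) (hS' : tiS h ≠ ⊤) :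
    ∃ n : ℕ, 2 ≤ n ∧
      Nonempty (G ≃* Matrix.ProjectiveSpecialLinearGroup (Fin 2) (GaloisField 2 n)) := by
  haveI : Fact (Nat.Prime 2) := ⟨Nat.prime_two⟩
  haveI : Nontrivial G := by
    by_contra hnt
    rw [not_nontrivial_iff_subsingleton] at hnt
    apply hS'
    rw [eq_top_iff]
    intro g _
    rw [Subsingleton.elim g 1]
    exact (tiS h).one_mem
  have heven := cti_even h hS
  obtain ⟨P⟩ : Nonempty (Sylow 2 G) := inferInstance
  obtain ⟨t, ht, -, htc⟩ := cti_exists_invo heven P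
  have hseh := cti_seh h hS P ht htc
  have hPD : (P : Subgroup G) ≤ cz1 t := fun x hx => mem_cz1.2 (htc x hx)
  apply se_main hseh (cti_hnab h hS) ⟨P, hPD⟩
  intro y hy m hm
  apply cti_mem_normalizer h (w := t) (mem_cz1.2 (mem_cz1.1 hy).symm) ht.1
  have hmt : m * t * m⁻¹ ∈ cz1 t := (Subgroup.mem_normalizer_iff.1 hm t).1 (self_mem_cz1 t)
  have hinv := ht.conj' m
  exact mem_cz1.2 (se_invo_central hseh hmt hinv.2 hy)

end seh

end Cfsg.Agent.Helper83
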