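import Mathlib
import Cfsg.Prelude.Def_GeometricClasses
import Cfsg.Agent.Helper90.UFRDefs
import Cfsg.Agent.Helper90.UFRBase
import Cfsg.Agent.Helper69.UFRSIMPOW

/-!
# S5982, piece BAD2U (helper83, double): for `q` odd and `(q - 1)_2 < n_2` there is an element of
`SL_n(q)` squaring to a non-square scalar, which has no conjugate in the unitary similarity group.
-/

set_option autoImplicit false
set_option linter.style.haveILetI false

namespace Cfsg.Agent.Helper83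

open Module Polynomial Cfsg.Agent.Helper90.UFR

section fin
variable {F : Type*} [Field F]

/-- determinant of the block matrix `[[0, z], [1, 0]]` -/
theorem ufr83_det_blk (m : ℕ) (z : F) :
    (Matrix.fromBlocks (0 : Matrix (Fin m) (Fin m) F) (z • (1 : Matrix (Fin m) (Fin m) F))
      (1 : Matrix (Fin m) (Fin m) F) (0 : Matrix (Fin m) (Fin m) F)).det = (-z) ^ m := by
  have h1 : Matrix.fromBlocks (1 : Matrix (Fin m) (Fin m) F) (1 : Matrix (Fin m) (Fin m) F)
      (0 : Matrix (Fin m) (Fin m) F) (1 : Matrix (Fin m) (Fin m) F) *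
      Matrix.fromBlocks (0 : Matrix (Fin m) (Fin m) F) (z • (1 : Matrix (Fin m) (Fin m) F))
      (1 : Matrix (Fin m) (Fin m) F) (0 : Matrix (Fin m) (Fin m) F) =
      Matrix.fromBlocks (1 : Matrix (Fin m) (Fin m) F) (z • (1 : Matrix (Fin m) (Fin m) F))
      (1 : Matrix (Fin m) (Fin m) F) (0 : Matrix (Fin m) (Fin m) F) := by
    rw [Matrix.fromBlocks_multiply]
    simp
  have h2 := congrArg Matrix.det h1
  rw [Matrix.det_mul, Matrix.det_fromBlocks_zero₂₁, Matrix.det_one, one_mul, one_mul,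
    Matrix.det_fromBlocks_one₁₁, Matrix.one_mul, zero_sub, ← neg_smul, Matrix.det_smul,
    Matrix.det_one, mul_one, Fintype.card_fin] at h2
  exact h2

variable [Fintype F]

/-! ## PIECE BAD2U -/
theorem bad_two_u (h2 : (2 : F) ≠ 0) (q₀ : ℕ) (hq : Fintype.card F = q₀ ^ 2) (n : ℕ)
    (hv : padicValNat 2 (Fintype.card F - 1) < padicValNat 2 n)
    (f : (Fin n → F) → (Fin n → F) → F) (hf : Cfsg.Geo.IsUnitaryFormPow q₀ f) : IsBadU f 2 := by
  classical
  haveI : Fact (Nat.Prime 2) := ⟨Nat.prime_two⟩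
  have hchar : ringChar F ≠ 2 := by
    intro h
    apply h2
    have h1 := ringChar.Nat.cast_ringChar (R := F)
    rw [h] at h1
    exact_mod_cast h1
  have hodd : Fintype.card F % 2 = 1 := FiniteField.odd_card_of_char_ne_two hchar
  have hcard1 : 1 < Fintype.card F := Fintype.one_lt_card
  have hq1 : Fintype.card F - 1 ≠ 0 := by omega
  have hn0 : n ≠ 0 := by
    rintro rfl
    simp at hv
  obtain ⟨e, he⟩ : ∃ e, e = padicValNat 2 (Fintype.card F - 1) := ⟨_, rfl⟩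
  rw [← he] at hv
  have he1 : 1 ≤ e := by
    rw [he]
    exact one_le_padicValNat_of_dvd hq1 (by omega)
  obtain ⟨t, ht⟩ : 2 ^ e ∣ Fintype.card F - 1 := by
    rw [he]
    exact pow_padicValNat_dvd
  have htodd : t % 2 = 1 := by
    by_contra hcon
    have h0 : t % 2 = 0 := by omega
    obtain ⟨t', ht'⟩ := Nat.dvd_of_mod_eq_zero h0
    have h3 := pow_succ_padicValNat_not_dvd (p := 2) hq1
    apply h3
    rw [← he]
    refine ⟨t', ?_⟩
    rw [ht, ht', pow_succ, mul_assoc]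
  obtain ⟨k, hk⟩ : 2 ^ (e + 1) ∣ n := by
    rw [padicValNat_dvd_iff_le hn0]
    omega
  obtain ⟨m, hm, hmn⟩ : ∃ m, 2 ^ e ∣ m ∧ n = m + m := by
    refine ⟨2 ^ e * k, dvd_mul_right _ _, ?_⟩
    rw [hk, pow_succ]
    ring
  subst hmn
  have hm0 : 0 < m := by omega
  have hmeven : Even m := by
    obtain ⟨k', hk'⟩ := hm
    obtain ⟨e', rfl⟩ : ∃ e', e = e' + 1 := ⟨e - 1, by omega⟩
    rw [hk', pow_succ]
    exact ⟨2 ^ e' * k', by ring⟩
  obtain ⟨s, hs⟩ := FiniteField.exists_nonsquare hchar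
  have hs0 : s ≠ 0 := by
    rintro rfl
    exact hs ⟨0, by simp⟩
  obtain ⟨z, hz⟩ : ∃ z : F, z = s ^ t := ⟨_, rfl⟩
  have hz0 : z ≠ 0 := by
    rw [hz]
    exact pow_ne_zero _ hs0
  have hznsq : ¬ IsSquare z := by
    rintro ⟨b, hb⟩
    apply hs
    obtain ⟨j, hj⟩ : ∃ j, t = 2 * j + 1 := ⟨t / 2, by omega⟩
    have h1 : s ^ j ≠ 0 := pow_ne_zero _ hs0
    have h3 : b * b = s ^ j * s ^ j * s := by
      rw [← hb, hz, hj]
      ring
    refine ⟨b * (s ^ j)⁻¹, ?_⟩
    have h4 : b * (s ^ j)⁻¹ * (b * (s ^ j)⁻¹) = b * b * ((s ^ j)⁻¹ * (s ^ j)⁻¹) := by ring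
    rw [h4, h3]
    field_simp
  have hz2e : z ^ (2 ^ e) = 1 := by
    rw [hz, ← pow_mul, mul_comm, ← ht]
    exact FiniteField.pow_card_sub_one_eq_one s hs0
  have hzm : z ^ m = 1 := by
    obtain ⟨k', hk'⟩ := hm
    rw [hk', pow_mul, hz2e, one_pow]
  -- the matrix
  obtain ⟨X₀, hX₀⟩ : ∃ X₀ : Matrix (Fin m ⊕ Fin m) (Fin m ⊕ Fin m) F,
      X₀ = Matrix.fromBlocks 0 (z • (1 : Matrix (Fin m) (Fin m) F)) 1 0 := ⟨_, rfl⟩
  have hX₀sq : X₀ * X₀ = z • (1 : Matrix (Fin m ⊕ Fin m) (Fin m ⊕ Fin m) F) := by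
    rw [hX₀, Matrix.fromBlocks_multiply, ← Matrix.fromBlocks_one, Matrix.fromBlocks_smul]
    simp
  have hX₀det : X₀.det = 1 := by
    rw [hX₀, ufr83_det_blk, Even.neg_pow hmeven, hzm]
  obtain ⟨X, hX⟩ : ∃ X : Matrix (Fin (m + m)) (Fin (m + m)) F,
      X = X₀.submatrix finSumFinEquiv.symm finSumFinEquiv.symm := ⟨_, rfl⟩
  have hXsq : X * X = z • (1 : Matrix (Fin (m + m)) (Fin (m + m)) F) := by
    rw [hX, Matrix.submatrix_mul_equiv, hX₀sq]
    ext i j
    rw [Matrix.submatrix_apply, Matrix.smul_apply, Matrix.smul_apply, Matrix.one_apply,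
      Matrix.one_apply]
    by_cases hij : i = j
    · rw [hij, if_pos rfl, if_pos rfl]
    · rw [if_neg hij, if_neg (fun h => hij (finSumFinEquiv.symm.injective h))]
  have hXdet : X.det = 1 := by
    rw [hX, Matrix.det_submatrix_equiv_self, hX₀det]
  have hXns : ∀ w : F, X ≠ w • (1 : Matrix (Fin (m + m)) (Fin (m + m)) F) := by
    intro w hw
    have h1 := congrFun (congrFun hw (finSumFinEquiv (Sum.inr ⟨0, hm0⟩)))
      (finSumFinEquiv (Sum.inl ⟨0, hm0⟩))
    rw [hX, Matrix.submatrix_apply, Equiv.symm_apply_apply, Equiv.symm_apply_apply, hX₀,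
      Matrix.fromBlocks_apply₂₁, Matrix.one_apply_eq, Matrix.smul_apply, Matrix.one_apply_ne,
      smul_zero] at h1
    · exact one_ne_zero h1
    · intro h
      have h5 := finSumFinEquiv.injective h
      cases h5
  obtain ⟨x, hxv⟩ : ∃ x : GL (Fin (m + m)) F,
      (x : Matrix (Fin (m + m)) (Fin (m + m)) F) = X :=
    ⟨Matrix.GeneralLinearGroup.mkOfDetNeZero X (by rw [hXdet]; exact one_ne_zero), rfl⟩
  have hx2 : ((x ^ 2 : GL (Fin (m + m)) F) : Matrix (Fin (m + m)) (Fin (m + m)) F)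
      = z • (1 : Matrix (Fin (m + m)) (Fin (m + m)) F) := by
    rw [Units.val_pow_eq_pow_val, hxv, pow_two]
    exact hXsq
  refine ⟨x, ?_, ⟨z, hx2⟩, ?_, ?_⟩
  · rw [Cfsg.Geo.specialLinear, MonoidHom.mem_ker]
    apply Units.ext
    rw [Matrix.GeneralLinearGroup.val_det_apply, hxv, hXdet, Units.val_one]
  · intro w hw
    rw [hxv] at hw
    exact hXns w hw
  · intro hconj
    obtain ⟨c, hc0, hcq, hcz⟩ :=
      Cfsg.Agent.Helper69.sim_pow q₀ hq (m + m) (by omega) f hf x 2 z hx2 hconj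
    apply hznsq
    rw [FiniteField.isSquare_iff hchar hz0]
    have hq₀odd : q₀ % 2 = 1 := by
      rw [hq, Nat.pow_mod] at hodd
      rcases Nat.mod_two_eq_zero_or_one q₀ with h | h
      · rw [h] at hodd
        norm_num at hodd
      · exact h
    obtain ⟨j, hj⟩ : ∃ j, q₀ = 2 * j + 1 := ⟨q₀ / 2, by omega⟩
    have hcj : c ^ (2 * j) = 1 := by
      have h1 : c ^ (2 * j) * c = 1 * c := by
        rw [← pow_succ, ← hj, hcq, one_mul]
      exact mul_right_cancel₀ hc0 h1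
    have hhalf : Fintype.card F / 2 = (q₀ + 1) * j := by
      rw [hq, hj]
      have h1 : (2 * j + 1) ^ 2 = 2 * ((2 * j + 1 + 1) * j) + 1 := by ring
      rw [h1]
      omega
    rw [hhalf, pow_mul, ← hcz, ← pow_mul, hcj]

end fin

end Cfsg.Agent.Helper83
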